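import Mathlib
import Cfsg.Agent.H469.IrrCyc

/-!
# Irreducible elements of prime order and cyclic Sylow subgroups (helper952)

`g : V ≃ₗ[F] V` of prime order `p` acting irreducibly on the finite vector space `V`, `p ≠ 0` in `F`:
* `finrank_le` : every `T ≠ 1` with `T ^ p = 1` on a space `U` has `dim V ≤ dim U`;
* `irreducible` : every element of order `p` of `GL(V)` acts irreducibly;
* `isCyclic_of_isPGroup` : every `p`-subgroup of `GL(V)` is cyclic.
-/

set_option autoImplicit false
set_option linter.unusedSectionVars false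

namespace Cfsg.Agent.H952.Rc

open Polynomial Module Cfsg.Agent.H469.IrrCyc

universe u v w

section Fin

variable {F : Type u} [Field F] [Finite F] {V : Type v} [AddCommGroup V] [Module F V] [FiniteDimensional F V]
  {U : Type w} [AddCommGroup U] [Module F U] [FiniteDimensional F U] {p : ℕ} [hp : Fact p.Prime]

theorem dvd_mul {T : V →ₗ[F] V} (hT : T ^ p = 1) : minpoly F T ∣ cyclotomic p F * (X - 1) := by
  rw [cyclotomic_prime_mul_X_sub_one]
  apply minpoly.dvd
  rw [map_sub, map_pow, aeval_X, map_one, hT, sub_self]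

/-- the dimension of a faithful module of a group of order `p` -/
theorem finrank_le [Nontrivial V] (hpF : (p : F) ≠ 0) {g : V →ₗ[F] V} (hg : g ^ p = 1) (hg1 : g ≠ 1)
    (hs : ∀ W : Submodule F V, (∀ w ∈ W, g w ∈ W) → W = ⊥ ∨ W = ⊤)
    {T : U →ₗ[F] U} (hT : T ^ p = 1) (hT1 : T ≠ 1) : finrank F V ≤ finrank F U := by
  have := Fintype.ofFinite F
  obtain ⟨r, hcr, n, hr, hcard⟩ := FiniteField.card' F
  have hrp := Fact.mk hr
  have hchar : (r : F) = 0 := CharP.cast_eq_zero F r
  have hcop : r.Coprime p := by
    refine (Nat.coprime_primes hr hp.out).2 ?_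
    rintro rfl
    exact hpF hchar
  have hirr := minpoly_irreducible g hs
  have hdvd : minpoly F g ∣ cyclotomic p F := by
    rcases hirr.prime.dvd_or_dvd (dvd_mul hg) with h | h
    · exact h
    · exfalso
      apply hg1
      obtain ⟨k, hk⟩ := h
      have h2 : aeval g (X - 1 : F[X]) = 0 := by
        rw [hk, map_mul, minpoly.aeval, zero_mul]
      rw [map_sub, aeval_X, map_one, sub_eq_zero] at h2
      exact h2
  have hdeg := natDegree_of_dvd_cyclotomic_of_irreducible (K := F) (p := r) (f := n) (n := p) hcard hcop hdvd hirr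
  -- an irreducible factor of the minimal polynomial of `T`
  have hTint : IsIntegral F T := Algebra.IsIntegral.isIntegral T
  have hT0 : minpoly F T ≠ 0 := minpoly.ne_zero hTint
  have hnu : ¬ IsCoprime (minpoly F T) (cyclotomic p F) := by
    intro hc
    have h1 : minpoly F T ∣ X - 1 := hc.dvd_of_dvd_mul_left (dvd_mul hT)
    obtain ⟨k, hk⟩ := h1
    have h2 : aeval T (X - 1 : F[X]) = 0 := by
      rw [hk, map_mul, minpoly.aeval, zero_mul]
    rw [map_sub, aeval_X, map_one, sub_eq_zero] at h2
    exact hT1 h2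
  obtain ⟨f, hf, hf1, hf2⟩ : ∃ f : F[X], Irreducible f ∧ f ∣ minpoly F T ∧ f ∣ cyclotomic p F := by
    by_contra hcon
    push Not at hcon
    apply hnu
    refine isCoprime_of_irreducible_dvd (fun h => hT0 h.1) ?_
    intro z hz h1 h2
    exact hcon z hz h1 h2
  have hdeg2 := natDegree_of_dvd_cyclotomic_of_irreducible (K := F) (p := r) (f := n) (n := p) hcard hcop hf2 hf
  have h3 : f.natDegree ≤ (minpoly F T).natDegree := natDegree_le_of_dvd hf1 hT0
  have h4 : (minpoly F T).natDegree ≤ finrank F U := by
    rw [← LinearMap.charpoly_natDegree T]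
    exact natDegree_le_of_dvd (LinearMap.minpoly_dvd_charpoly T) (LinearMap.charpoly_monic T).ne_zero
  rw [finrank_eq g hs, hdeg, ← hdeg2]
  exact h3.trans h4

end Fin

section Unip

variable {F : Type u} [Field F] {V : Type v} [AddCommGroup V] [Module F V] {p : ℕ}

/-- an element of order `p` trivial on a submodule and the quotient is trivial -/
theorem eq_one_of_unip (hpF : (p : F) ≠ 0) {z : V →ₗ[F] V} (hz : z ^ p = 1) {U : Submodule F V}
    (h1 : ∀ u ∈ U, z u = u) (h2 : ∀ v, z v - v ∈ U) : z = 1 := by
  have key : ∀ (n : ℕ) (v : V), (z ^ n) v = v + (n : F) • (z v - v) := by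
    intro n v
    induction n with
    | zero => simp
    | succ n ih =>
      rw [pow_succ', Module.End.mul_apply, ih, map_add, map_smul, h1 _ (h2 v)]
      push_cast
      module
  ext v
  have h3 := key p v
  rw [hz, Module.End.one_apply] at h3
  have h4 : (p : F) • (z v - v) = 0 := by
    have : v + (p : F) • (z v - v) - v = 0 := by rw [← h3, sub_self]
    rwa [add_sub_cancel_left] at this
  rcases smul_eq_zero.1 h4 with h5 | h5
  · exact absurd h5 hpF
  · exact sub_eq_zero.1 h5

end Unip

section Irr

variable {F : Type u} [Field F] [Finite F] {V : Type v} [AddCommGroup V] [Module F V] [FiniteDimensional F V]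
  {p : ℕ} [hp : Fact p.Prime]

/-- every element of order `p` acts irreducibly as soon as one does -/
theorem irreducible [Nontrivial V] (hpF : (p : F) ≠ 0) {g : V →ₗ[F] V} (hg : g ^ p = 1) (hg1 : g ≠ 1)
    (hs : ∀ W : Submodule F V, (∀ w ∈ W, g w ∈ W) → W = ⊥ ∨ W = ⊤)
    {z : V →ₗ[F] V} (hz : z ^ p = 1) (hz1 : z ≠ 1) (U : Submodule F V) (hU : ∀ u ∈ U, z u ∈ U) :
    U = ⊥ ∨ U = ⊤ := by
  by_contra hcon
  push Not at hcon
  obtain ⟨hb, ht⟩ := hcon
  have hlt : finrank F U < finrank F V := Submodule.finrank_lt ht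
  have hpos : 0 < finrank F U := by
    rw [Nat.pos_iff_ne_zero]
    intro h
    exact hb (Submodule.finrank_eq_zero.1 h)
  have hq : finrank F (V ⧸ U) < finrank F V := by
    have := U.finrank_quotient_add_finrank
    omega
  apply hz1
  refine eq_one_of_unip hpF hz (U := U) ?_ ?_
  · by_contra h
    have h1 : z.restrict hU ≠ 1 := by
      intro h2
      apply h
      intro u hu
      exact congrArg Subtype.val (LinearMap.congr_fun h2 ⟨u, hu⟩)
    have h2 : (z.restrict hU) ^ p = 1 := by
      ext u
      rw [Module.End.pow_restrict]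
      change (z ^ p) (u : V) = u
      rw [hz]
      rfl
    have := finrank_le hpF hg hg1 hs h2 h1
    omega
  · by_contra h
    have hU' : U ≤ U.comap z := hU
    have h1 : U.mapQ U z hU' ≠ 1 := by
      intro h2
      apply h
      intro v
      have h3 := LinearMap.congr_fun h2 (Submodule.Quotient.mk v)
      change (Submodule.Quotient.mk (z v) : V ⧸ U) = Submodule.Quotient.mk v at h3
      exact (Submodule.Quotient.eq U).1 h3
    have h2 : (U.mapQ U z hU') ^ p = 1 := by
      have h3 : ∀ (n : ℕ) (v : V), ((U.mapQ U z hU') ^ n) (Submodule.Quotient.mk v) =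
          Submodule.Quotient.mk ((z ^ n) v) := by
        intro n v
        induction n with
        | zero => rfl
        | succ n ih =>
          rw [pow_succ', pow_succ', Module.End.mul_apply, ih]
          rfl
      ext v
      change ((U.mapQ U z hU') ^ p) (Submodule.Quotient.mk v) = Submodule.Quotient.mk v
      rw [h3, hz]
      rfl
    have := finrank_le hpF hg hg1 hs h2 h1
    omega

/-- **`p`-subgroups of `GL(V)` are cyclic.** -/
theorem isCyclic_of_isPGroup [Nontrivial V] (hpF : (p : F) ≠ 0) {g : V →ₗ[F] V} (hg : g ^ p = 1) (hg1 : g ≠ 1)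
    (hs : ∀ W : Submodule F V, (∀ w ∈ W, g w ∈ W) → W = ⊥ ∨ W = ⊤)
    {P : Subgroup (V ≃ₗ[F] V)} (hP : IsPGroup p P) : IsCyclic P := by
  have hVf : Finite V := Module.finite_of_finite F
  have hf0 : Finite (V ≃ₗ[F] V) := Finite.of_injective (fun h : V ≃ₗ[F] V => (h : V → V)) DFunLike.coe_injective
  rcases subsingleton_or_nontrivial P with hsub | hnt
  · infer_instance
  have hc := hP.center_nontrivial
  have hcp : IsPGroup p (Subgroup.center P) := hP.to_subgroup _
  have hdvd : p ∣ Nat.card (Subgroup.center P) := by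
    obtain ⟨n, hn⟩ := hcp.exists_card_eq
    rcases Nat.eq_zero_or_pos n with h0 | h0
    · rw [h0, pow_zero] at hn
      exact absurd hn (Finite.one_lt_card).ne'
    · rw [hn]
      exact dvd_pow_self p h0.ne'
  obtain ⟨z, hz⟩ := exists_prime_orderOf_dvd_card' p hdvd
  let Z : V →ₗ[F] V := ((z : P) : V ≃ₗ[F] V).toLinearMap
  have hzV : (((z : P) : V ≃ₗ[F] V)) ^ p = 1 := by
    have h1 : z ^ p = 1 := by rw [← hz, pow_orderOf_eq_one]
    have h2 := congrArg (fun y : Subgroup.center P => ((y : P) : V ≃ₗ[F] V)) h1
    exact h2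
  have hpowZ : ∀ n : ℕ, ∀ v, (Z ^ n) v = ((((z : P) : V ≃ₗ[F] V)) ^ n) v := by
    intro n v
    induction n with
    | zero => rfl
    | succ n ih => rw [pow_succ', pow_succ', Module.End.mul_apply, ih]; rfl
  have hZ : Z ^ p = 1 := by
    ext v
    rw [hpowZ, hzV]
    rfl
  have hZ1 : Z ≠ 1 := by
    intro h
    have h1 : z = 1 := by
      apply Subtype.ext
      apply Subtype.ext
      apply LinearEquiv.ext
      intro v
      exact LinearMap.congr_fun h v
    rw [h1, orderOf_one] at hz
    exact hp.out.one_lt.ne hz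
  have hirr := irreducible hpF hg hg1 hs hZ hZ1
  obtain ⟨w, hw⟩ := exists_ne (0 : V)
  -- every element of `P` is a polynomial in `Z`
  have hpoly : ∀ h : P, ∃ f : F[X], aeval Z f = (h : V ≃ₗ[F] V).toLinearMap := by
    intro h
    obtain ⟨f, hf⟩ := orbMap_surjective Z hirr hw ((h : V ≃ₗ[F] V) w)
    refine ⟨f, ?_⟩
    have hcomm : ∀ v, (h : V ≃ₗ[F] V) (Z v) = Z ((h : V ≃ₗ[F] V) v) := by
      intro v
      have h1 := Subgroup.mem_center_iff.1 z.2 h
      have h2 := congrArg (fun y : P => (y : V ≃ₗ[F] V) v) h1
      exact h2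
    have hcomm2 : ∀ (a : F[X]) (v : V), (h : V ≃ₗ[F] V) (aeval Z a v) = aeval Z a ((h : V ≃ₗ[F] V) v) := by
      intro a
      induction a using Polynomial.induction_on' with
      | add a b ha hb =>
        intro v
        rw [map_add, LinearMap.add_apply, map_add, ha, hb, LinearMap.add_apply]
      | monomial n c =>
        intro v
        rw [aeval_monomial, Module.End.mul_apply, Module.End.mul_apply, Module.algebraMap_end_apply,
          Module.algebraMap_end_apply, map_smul]
        congr 1
        induction n with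
        | zero => rfl
        | succ n ih =>
          rw [pow_succ', Module.End.mul_apply, hcomm, ih, Module.End.mul_apply]
    ext v
    obtain ⟨a, rfl⟩ := orbMap_surjective Z hirr hw v
    rw [orbMap_apply] at hf
    rw [orbMap_apply, ← Module.End.mul_apply, ← map_mul, mul_comm, map_mul, Module.End.mul_apply, hf]
    exact (hcomm2 a w).symm
  let φ : F[X] →+* (V →ₗ[F] V) := (aeval Z : F[X] →ₐ[F] (V →ₗ[F] V)).toRingHom
  have hprime : (RingHom.ker φ).IsPrime := by
    refine ⟨?_, ?_⟩
    · intro h
      have h1 : (1 : F[X]) ∈ RingHom.ker φ := by rw [h]; exact Submodule.mem_top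
      have h2 : φ 1 = 0 := h1
      rw [map_one] at h2
      exact hw (LinearMap.congr_fun h2 w)
    · intro a b hab
      have h1 : aeval Z (a * b) = 0 := hab
      by_cases hb : aeval Z b = 0
      · exact Or.inr hb
      · left
        obtain ⟨v, hv⟩ : ∃ v, aeval Z b v ≠ 0 := by
          by_contra hcon
          push Not at hcon
          exact hb (LinearMap.ext hcon)
        refine aeval_eq_zero Z hirr hv ?_
        rw [← Module.End.mul_apply, ← map_mul, h1, LinearMap.zero_apply]
  choose f hf using hpoly
  have hmk : ∀ a b : F[X], aeval Z a = aeval Z b ↔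
      (Ideal.Quotient.mk (RingHom.ker φ) a) = Ideal.Quotient.mk (RingHom.ker φ) b := by
    intro a b
    rw [Ideal.Quotient.eq, RingHom.mem_ker]
    change _ ↔ aeval Z (a - b) = 0
    rw [map_sub, sub_eq_zero]
  let ψ : P →* F[X] ⧸ RingHom.ker φ :=
    { toFun := fun h => Ideal.Quotient.mk _ (f h)
      map_one' := by
        rw [← map_one (Ideal.Quotient.mk (RingHom.ker φ)), ← hmk, hf, map_one]
        rfl
      map_mul' := by
        intro a b
        rw [← map_mul, ← hmk, map_mul, hf, hf, hf]
        rfl }
  have hψ : Function.Injective ψ := by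
    intro a b hab
    have h1 := (hmk (f a) (f b)).2 hab
    rw [hf, hf] at h1
    apply Subtype.ext
    apply LinearEquiv.ext
    intro v
    exact LinearMap.congr_fun h1 v
  exact isCyclic_of_injective_ringHom ψ hψ

end Irr

section Quot

variable {G : Type*} [Group G] [Finite G] {p : ℕ} [hp : Fact p.Prime]

/-- cyclic Sylow subgroups of a quotient -/
theorem isCyclic_sylow_of_surjective {G' : Type*} [Group G'] [Finite G'] (f : G →* G') (hf : Function.Surjective f)
    (h : ∀ P : Sylow p G, IsCyclic (P : Subgroup G)) (P : Sylow p G') : IsCyclic (P : Subgroup G') := by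
  obtain ⟨Q, rfl⟩ := Sylow.mapSurjective_surjective hf p P
  have := h Q
  rw [Sylow.coe_mapSurjective]
  exact isCyclic_of_surjective (f.subgroupMap (Q : Subgroup G)) (f.subgroupMap_surjective _)

end Quot

end Cfsg.Agent.H952.Rc
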