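import Mathlib
import Cfsg.Agent.H952.RcNoRad
import Cfsg.Agent.H952.RcCyc

/-!
# Radical automorphisms of projective linear groups (helper952, for the rows of S3829)

`Γ` a group of linear automorphisms of `V`, `x` an automorphism of `Γ / Z(Γ)` induced by the permutation `g` of `V`.
* `fixR_unip` : `g` stabilises a flag `U ≤ P`;
* `rc_main` : `V = A ⊕ W`;
* `cyc_main` : `g ∈ Γ` of order `p`, irreducible.
-/

set_option autoImplicit false
set_option linter.unusedSectionVars false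

namespace Cfsg.Agent.H952.Rc

open Subgroup Cfsg Cfsg.Agent.H459.Rad Cfsg.Agent.H459.Iface

universe u v

variable {F : Type u} {V : Type v} [Field F] [AddCommGroup V] [Module F V]

section Basic

variable {Γ : Subgroup (V ≃ₗ[F] V)}

/-- `x` is induced by the permutation `g` -/
def Comp (x : MulAut (↥Γ ⧸ center ↥Γ)) (g : Equiv.Perm V) : Prop :=
  ∀ h : Γ, ∃ h' : Γ, (∀ v, h'.1 (g v) = g (h.1 v)) ∧
    x (QuotientGroup.mk' (center ↥Γ) h) = QuotientGroup.mk' (center ↥Γ) h'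

theorem Comp.apply {x : MulAut (↥Γ ⧸ center ↥Γ)} {g : Equiv.Perm V} (hx : Comp x g) {h h' : Γ}
    (hh : ∀ v, h'.1 (g v) = g (h.1 v)) :
    x (QuotientGroup.mk' (center ↥Γ) h) = QuotientGroup.mk' (center ↥Γ) h' := by
  obtain ⟨k, hk, hk'⟩ := hx h
  have : k = h' := by
    apply Subtype.ext
    apply LinearEquiv.ext
    intro v
    obtain ⟨w, rfl⟩ := g.surjective v
    rw [hk, hh]
  rw [hk', this]

theorem Comp.fixR {x : MulAut (↥Γ ⧸ center ↥Γ)} {g : Equiv.Perm V} (hx : Comp x g) {r : ℕ} (R : Subgroup ↥Γ)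
    (hR : IsPGroup r R) (hc : ¬ R ≤ center ↥Γ)
    (hg : ∀ h ∈ R, ∀ h' : Γ, (∀ v, h'.1 (g v) = g (h.1 v)) → h' ∈ R) : FixR r x := by
  refine ⟨R.map (QuotientGroup.mk' (center ↥Γ)), ?_, hR.map _, ?_⟩
  · intro h
    apply hc
    rw [Subgroup.map_eq_bot_iff, QuotientGroup.ker_mk'] at h
    exact h
  · rintro _ ⟨h, hh, rfl⟩
    obtain ⟨h', h1, h2⟩ := hx h
    rw [h2]
    exact ⟨h', hg h hh h' h1, rfl⟩

/-! ### flags -/

variable (Γ) in
/-- the unipotent radical of the stabiliser of the flag `U ≤ P` -/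
def Unip (U P : Submodule F V) (hUP : U ≤ P) : Subgroup ↥Γ where
  carrier := {h | (∀ u ∈ U, h.1 u = u) ∧ (∀ u ∈ P, h.1 u - u ∈ U) ∧ ∀ v, h.1 v - v ∈ P}
  mul_mem' := by
    rintro a b ⟨ha1, ha2, ha3⟩ ⟨hb1, hb2, hb3⟩
    have e : ∀ v, (a * b).1 v - v = (a.1 (b.1 v - v) - (b.1 v - v)) + (a.1 v - v) + (b.1 v - v) := by
      intro v
      change a.1 (b.1 v) - v = _
      rw [map_sub]
      abel
    refine ⟨fun u hu => ?_, fun u hu => ?_, fun v => ?_⟩
    · change a.1 (b.1 u) = u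
      rw [hb1 u hu, ha1 u hu]
    · rw [e, ha1 _ (hb2 u hu), sub_self, zero_add]
      exact U.add_mem (ha2 u hu) (hb2 u hu)
    · rw [e]
      exact P.add_mem (P.add_mem (hUP (ha2 _ (hb3 v))) (ha3 v)) (hb3 v)
  one_mem' := by
    refine ⟨fun u _ => rfl, fun u _ => ?_, fun v => ?_⟩
    · change u - u ∈ U
      rw [sub_self]; exact U.zero_mem
    · change v - v ∈ P
      rw [sub_self]; exact P.zero_mem
  inv_mem' := by
    rintro a ⟨ha1, ha2, ha3⟩
    have hi : ∀ v, (a⁻¹).1 (a.1 v) = v := fun v => a.1.symm_apply_apply v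
    have h1 : ∀ u ∈ U, (a⁻¹).1 u = u := by
      intro u hu
      have := hi u
      rwa [ha1 u hu] at this
    have e : ∀ v, (a⁻¹).1 v - v = -((a⁻¹).1 (a.1 v - v)) := by
      intro v
      rw [map_sub, hi]
      abel
    have h2 : ∀ u ∈ P, (a⁻¹).1 u - u ∈ U := by
      intro u hu
      rw [e, h1 _ (ha2 u hu)]
      exact U.neg_mem (ha2 u hu)
    refine ⟨h1, h2, fun v => ?_⟩
    rw [e]
    apply P.neg_mem
    have h3 := P.add_mem (hUP (h2 _ (ha3 v))) (ha3 v)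
    rwa [sub_add_cancel] at h3

theorem isPGroup_unip {r : ℕ} [hr : Fact r.Prime] [CharP F r] (U P : Submodule F V) (hUP : U ≤ P) :
    IsPGroup r (Unip Γ U P hUP) := by
  rcases subsingleton_or_nontrivial V with hV | hV
  · intro h
    refine ⟨0, ?_⟩
    apply Subtype.ext
    apply Subtype.ext
    apply LinearEquiv.ext
    intro v
    exact Subsingleton.elim _ _
  intro h
  refine ⟨2, ?_⟩
  have hch : CharP (Module.End F V) r := charP_of_injective_algebraMap (algebraMap F (Module.End F V)).injective r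
  let T : Module.End F V := (h.1.1 : V ≃ₗ[F] V).toLinearMap
  have hT : ∀ v, T v = h.1.1 v := fun _ => rfl
  have hN : (T - 1) ^ 3 = 0 := by
    ext v
    rw [pow_succ, pow_succ, pow_one, Module.End.mul_apply, Module.End.mul_apply]
    have h1 : (T - 1) v ∈ P := by
      rw [LinearMap.sub_apply, hT, Module.End.one_apply]
      exact h.2.2.2 v
    have h2 : (T - 1) ((T - 1) v) ∈ U := by
      rw [LinearMap.sub_apply, hT, Module.End.one_apply]
      exact h.2.2.1 _ h1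
    rw [LinearMap.sub_apply, hT, Module.End.one_apply, h.2.1 _ h2, sub_self]
    rfl
  have h4 : (T - 1) ^ r ^ 2 = 0 := by
    have h5 : 3 ≤ r ^ 2 := by
      have := hr.out.two_le
      nlinarith
    obtain ⟨k, hk⟩ := Nat.exists_eq_add_of_le h5
    rw [hk, pow_add, hN, zero_mul]
  rw [sub_pow_char_pow_of_commute r 2 (Commute.one_right T), one_pow, sub_eq_zero] at h4
  have hpow : ∀ (n : ℕ) (v : V), (T ^ n) v = ((h ^ n).1.1 : V ≃ₗ[F] V) v := by
    intro n v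
    induction n with
    | zero => rfl
    | succ n ih =>
      rw [pow_succ', pow_succ', Module.End.mul_apply, ih]
      rfl
  apply Subtype.ext
  apply Subtype.ext
  apply LinearEquiv.ext
  intro v
  rw [← hpow, h4]
  rfl

/-- **`g` stabilises a flag.** -/
theorem Comp.fixR_unip {x : MulAut (↥Γ ⧸ center ↥Γ)} {g : Equiv.Perm V} (hx : Comp x g)
    (hadd : ∀ u v, g (u + v) = g u + g v) {r : ℕ} [hr : Fact r.Prime] [CharP F r] {U P : Submodule F V} (hUP : U ≤ P)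
    (hU : ∀ v, g v ∈ U ↔ v ∈ U) (hP : ∀ v, g v ∈ P ↔ v ∈ P) (h₀ : Γ) (hm : h₀ ∈ Unip Γ U P hUP)
    (hc : h₀ ∉ center ↥Γ) : FixR r x := by
  refine hx.fixR (Unip Γ U P hUP) (isPGroup_unip U P hUP) (fun h => hc (h hm)) ?_
  rintro h ⟨h1, h2, h3⟩ h' hh
  have h0 : g 0 = 0 := by
    have := hadd 0 0
    rw [add_zero] at this
    exact (add_eq_left.1 this.symm)
  have hneg : ∀ v, g (-v) = -g v := by
    intro v
    have := hadd v (-v)
    rw [add_neg_cancel, h0] at this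
    exact (neg_eq_of_add_eq_zero_right this.symm).symm
  have hsub : ∀ u v, g (u - v) = g u - g v := by
    intro u v
    rw [sub_eq_add_neg, hadd, hneg, ← sub_eq_add_neg]
  refine ⟨fun u hu => ?_, fun u hu => ?_, fun v => ?_⟩
  · obtain ⟨w, rfl⟩ := g.surjective u
    rw [hh, h1 w ((hU w).1 hu)]
  · obtain ⟨w, rfl⟩ := g.surjective u
    rw [hh, ← hsub, hU]
    exact h2 w ((hP w).1 hu)
  · obtain ⟨w, rfl⟩ := g.surjective v
    rw [hh, ← hsub, hP]
    exact h3 w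

/-! ### pairs of complements -/

variable (Γ) in
/-- the elements of `Γ` which are trivial on `A` and stabilise `W` -/
def FixW (A W : Submodule F V) : Subgroup ↥Γ where
  carrier := {h | (∀ v ∈ A, h.1 v = v) ∧ ∀ v, h.1 v ∈ W ↔ v ∈ W}
  mul_mem' := by
    rintro a b ⟨ha1, ha2⟩ ⟨hb1, hb2⟩
    refine ⟨fun v hv => ?_, fun v => ?_⟩
    · change a.1 (b.1 v) = v
      rw [hb1 v hv, ha1 v hv]
    · change a.1 (b.1 v) ∈ W ↔ v ∈ W
      rw [ha2, hb2]
  one_mem' := ⟨fun _ _ => rfl, fun _ => Iff.rfl⟩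
  inv_mem' := by
    rintro a ⟨ha1, ha2⟩
    have hi : ∀ v, (a⁻¹).1 (a.1 v) = v := fun v => a.1.symm_apply_apply v
    have hj : ∀ v, a.1 ((a⁻¹).1 v) = v := fun v => a.1.apply_symm_apply v
    refine ⟨fun v hv => ?_, fun v => ?_⟩
    · have := hi v
      rwa [ha1 v hv] at this
    · rw [← ha2, hj]

theorem mem_FixW {A W : Submodule F V} {h : Γ} :
    h ∈ FixW Γ A W ↔ (∀ v ∈ A, h.1 v = v) ∧ ∀ v, h.1 v ∈ W ↔ v ∈ W := Iff.rfl

theorem ext_of_isCompl {A W : Submodule F V} (hc : IsCompl A W) {a b : V →ₗ[F] V} (h1 : ∀ v ∈ A, a v = b v)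
    (h2 : ∀ v ∈ W, a v = b v) (v : V) : a v = b v := by
  obtain ⟨s, hs, t, ht, rfl⟩ := Submodule.mem_sup.1
    (show v ∈ A ⊔ W by rw [hc.sup_eq_top]; exact Submodule.mem_top)
  rw [map_add, map_add, h1 s hs, h2 t ht]

/-- **Radical automorphisms and decompositions.** -/
theorem Comp.exists_normal [Finite ↥Γ] {x : MulAut (↥Γ ⧸ center ↥Γ)} {g : V ≃ₗ[F] V} (hx : Comp x g.toEquiv)
    (hRC : RC x) {A W : Submodule F V} (hc : IsCompl A W) (hgA : ∀ v, g v ∈ A ↔ v ∈ A)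
    (hgW : ∀ v, g v ∈ W ↔ v ∈ W) (y : ↥Γ) (hyA : ∀ v ∈ A, y.1 v = v) (hyW : ∀ v ∈ W, y.1 v = g v)
    (hne : (FixW Γ A W).map (QuotientGroup.mk' (center ↥Γ)) ≠ ⊤) :
    ∃ (hy : y ∈ FixW Γ A W) (N : Subgroup ↥(FixW Γ A W)), N.Normal ∧ Group.IsSolvable N ∧ ⟨y, hy⟩ ∈ N := by
  have hyW' : ∀ v, y.1 v ∈ W ↔ v ∈ W := by
    intro v
    obtain ⟨s, hs, t, ht, rfl⟩ := Submodule.mem_sup.1
      (show v ∈ A ⊔ W by rw [hc.sup_eq_top]; exact Submodule.mem_top)
    rw [map_add, hyA s hs, hyW t ht, W.add_mem_iff_left ((hgW t).2 ht), W.add_mem_iff_left ht]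
  have hyF : y ∈ FixW Γ A W := ⟨hyA, hyW'⟩
  set π := QuotientGroup.mk' (center ↥Γ) with hπ
  -- the action of `x`
  have hxy : ∀ h ∈ FixW Γ A W, x (π h) = π (y * h * y⁻¹) := by
    intro h hh
    apply hx.apply
    intro v
    have hmul : ∀ w, (y * h * y⁻¹).1 (y.1 w) = y.1 (h.1 w) := by
      intro w
      change y.1 (h.1 ((y⁻¹).1 (y.1 w))) = _
      congr 2
      exact y.1.symm_apply_apply w
    refine ext_of_isCompl hc (a := (y * h * y⁻¹).1.toLinearMap ∘ₗ g.toLinearMap)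
      (b := g.toLinearMap ∘ₗ h.1.toLinearMap) ?_ ?_ v
    · intro w hw
      change (y * h * y⁻¹).1 (g w) = g (h.1 w)
      have hgw := (hgA w).2 hw
      have h1 := hmul (g w)
      rw [hyA _ hgw, hh.1 _ hgw, hyA _ hgw] at h1
      rw [h1, hh.1 w hw]
    · intro w hw
      change (y * h * y⁻¹).1 (g w) = g (h.1 w)
      rw [← hyW w hw, hmul, hyW _ ((hh.2 w).2 hw)]
  set M := (FixW Γ A W).map π with hM
  have hinv : ∀ m ∈ M, x m ∈ M := by
    rintro _ ⟨h, hh, rfl⟩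
    rw [hxy h hh]
    exact ⟨_, mul_mem (mul_mem hyF hh) (inv_mem hyF), rfl⟩
  have hyM : π y ∈ M := ⟨y, hyF, rfl⟩
  have hrad : (⟨π y, hyM⟩ : M) ∈ solvableRadical M := by
    apply mem_rad_of_commutator
    rintro ⟨m, hm⟩
    have h1 := hRC M hne hinv m hm
    obtain ⟨h, hh, rfl⟩ := hm
    rw [hxy h hh] at h1
    have h2 : ((⟨π h, ⟨h, hh, rfl⟩⟩ : M)⁻¹ * ((⟨π y, hyM⟩ : M) * ⟨π h, ⟨h, hh, rfl⟩⟩ * (⟨π y, hyM⟩ : M)⁻¹) : M).1
        ∈ radIn M := by
      have h3 : ((⟨π h, ⟨h, hh, rfl⟩⟩ : M)⁻¹ *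
          ((⟨π y, hyM⟩ : M) * ⟨π h, ⟨h, hh, rfl⟩⟩ * (⟨π y, hyM⟩ : M)⁻¹) : M).1 = (π h)⁻¹ * π (y * h * y⁻¹) := by
        rw [map_mul, map_mul, map_inv]
        rfl
      rw [h3]
      exact h1
    exact mem_radIn_coe.1 h2
  let f : ↥(FixW Γ A W) →* ↥M := π.subgroupMap (FixW Γ A W)
  refine ⟨hyF, (solvableRadical M).comap f, (rad_normal M).comap f, ?_, hrad⟩
  refine isSolvable_comap f ?_ (rad_solvable M)
  intro a ha b _
  have h1 : π a = 1 := congrArg Subtype.val (MonoidHom.mem_ker.1 ha)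
  have h2 : (a : ↥Γ) ∈ center ↥Γ := (QuotientGroup.eq_one_iff (a : ↥Γ)).1 h1
  apply Subtype.ext
  exact (mem_center_iff.1 h2 b).symm

theorem Comp.eq_one_of_noRad [Finite ↥Γ] {x : MulAut (↥Γ ⧸ center ↥Γ)} {g : V ≃ₗ[F] V} (hx : Comp x g.toEquiv)
    (hRC : RC x) {A W : Submodule F V} (hc : IsCompl A W) (hgA : ∀ v, g v ∈ A ↔ v ∈ A)
    (hgW : ∀ v, g v ∈ W ↔ v ∈ W) {p : ℕ} (hgp : g ^ p = 1) (y : ↥Γ) (hyA : ∀ v ∈ A, y.1 v = v)
    (hyW : ∀ v ∈ W, y.1 v = g v)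
    (hne : (FixW Γ A W).map (QuotientGroup.mk' (center ↥Γ)) ≠ ⊤) (hnr : NoRad p ↥(FixW Γ A W)) :
    ∀ v ∈ W, g v = v := by
  obtain ⟨hy, N, hN, hs, hyN⟩ := hx.exists_normal hRC hc hgA hgW y hyA hyW hne
  have hypow : ∀ n : ℕ, (∀ v ∈ A, (y ^ n).1 v = v) ∧ ∀ v ∈ W, (y ^ n).1 v = (g ^ n) v ∧ (g ^ n) v ∈ W := by
    intro n
    induction n with
    | zero => exact ⟨fun _ _ => rfl, fun v hv => ⟨rfl, hv⟩⟩
    | succ n ih =>
      refine ⟨fun v hv => ?_, fun v hv => ⟨?_, ?_⟩⟩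
      · rw [pow_succ']
        change y.1 ((y ^ n).1 v) = v
        rw [ih.1 v hv, hyA v hv]
      · rw [pow_succ', pow_succ']
        change y.1 ((y ^ n).1 v) = g ((g ^ n) v)
        rw [(ih.2 v hv).1, hyW _ (ih.2 v hv).2]
      · rw [pow_succ']
        change g ((g ^ n) v) ∈ W
        rw [hgW]
        exact (ih.2 v hv).2
  have hyp : y ^ p = 1 := by
    apply Subtype.ext
    apply LinearEquiv.ext
    intro v
    refine ext_of_isCompl hc (a := (y ^ p).1.toLinearMap) (b := LinearMap.id) ?_ ?_ v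
    · intro w hw
      exact (hypow p).1 w hw
    · intro w hw
      change (y ^ p).1 w = w
      rw [((hypow p).2 w hw).1, hgp]
      rfl
  have h1 := hnr N hN hs ⟨y, hy⟩ hyN (Subtype.ext hyp)
  have h2 : y = 1 := congrArg Subtype.val h1
  intro v hv
  rw [← hyW v hv, h2]
  rfl

/-! ### the irreducible case -/

theorem Comp.cyc [Finite F] [FiniteDimensional F V] [Nontrivial V] [Finite ↥Γ] {x : MulAut (↥Γ ⧸ center ↥Γ)}
    {g : V ≃ₗ[F] V} (hx : Comp x g.toEquiv) (hgΓ : g ∈ Γ) {p : ℕ} [hp : Fact p.Prime] (hpF : (p : F) ≠ 0)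
    (hgp : g ^ p = 1) (hg1 : g ≠ 1)
    (hs : ∀ U : Submodule F V, (∀ v ∈ U, g v ∈ U) → U = ⊥ ∨ U = ⊤) : Cyc p x := by
  constructor
  · refine ⟨QuotientGroup.mk' (center ↥Γ) ⟨g, hgΓ⟩, ?_⟩
    ext k
    obtain ⟨h, rfl⟩ := QuotientGroup.mk'_surjective (center ↥Γ) k
    rw [MulAut.conj_apply, ← map_mul, ← map_inv, ← map_mul]
    apply hx.apply
    intro v
    change g (h.1 (g.symm (g v))) = g (h.1 v)
    rw [g.symm_apply_apply]
  · refine isCyclic_sylow_of_surjective (QuotientGroup.mk' (center ↥Γ)) (QuotientGroup.mk'_surjective _) ?_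
    intro P
    have hpow : ∀ (n : ℕ) (v : V), (g.toLinearMap ^ n) v = (g ^ n) v := by
      intro n v
      induction n with
      | zero => rfl
      | succ n ih => rw [pow_succ', pow_succ', Module.End.mul_apply, ih]; rfl
    have h1 : g.toLinearMap ^ p = 1 := by
      ext v
      rw [hpow, hgp]
      rfl
    have h2 : g.toLinearMap ≠ 1 := by
      intro h
      apply hg1
      apply LinearEquiv.ext
      intro v
      exact LinearMap.congr_fun h v
    have h3 : IsPGroup p ↥((P : Subgroup ↥Γ).map Γ.subtype) := P.isPGroup'.map _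
    have h4 := isCyclic_of_isPGroup hpF h1 h2 hs h3
    exact isCyclic_of_surjective ((P : Subgroup ↥Γ).equivMapOfInjective _ Γ.subtype_injective).symm
      ((P : Subgroup ↥Γ).equivMapOfInjective _ Γ.subtype_injective).symm.surjective

end Basic

end Cfsg.Agent.H952.Rc
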