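import Mathlib
import Cfsg.Agent.H952.RcEngine
import Cfsg.Agent.BpCl.Rows

/-!
# Invariant subspaces of semilinear isometries (helper952, for the rows of S3829)
-/

set_option autoImplicit false
set_option linter.unusedSectionVars false

namespace Cfsg.Agent.H952.Rc

open Subgroup Cfsg Cfsg.Agent.H459.Rad Cfsg.Agent.H459.Iface
open Cfsg.Agent.BpCl (Semi SemiIso Iso exists_glue)

universe u v

variable {F : Type u} {V : Type v} [Field F] [AddCommGroup V] [Module F V]

section Inv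

theorem inv_iff [Finite V] {g : Equiv.Perm V} {U : Submodule F V} (h : ∀ v ∈ U, g v ∈ U) (v : V) :
    g v ∈ U ↔ v ∈ U := by
  refine ⟨fun hv => ?_, h v⟩
  let f : U → U := fun u => ⟨g u, h u u.2⟩
  have hf : Function.Injective f := by
    intro a b hab
    exact Subtype.ext (g.injective (congrArg Subtype.val hab))
  obtain ⟨w, hw⟩ := (Finite.injective_iff_surjective.1 hf) ⟨g v, hv⟩
  have h1 : g w = g v := congrArg Subtype.val hw
  rw [← g.injective h1]
  exact w.2

variable {B : LinearMap.BilinForm F V}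

theorem orth_iff {g : Equiv.Perm V} {φ : F ≃+* F} (hg : ∀ u v, B (g u) (g v) = φ (B u v)) {U : Submodule F V}
    (hU : ∀ v, g v ∈ U ↔ v ∈ U) (v : V) : g v ∈ B.orthogonal U ↔ v ∈ B.orthogonal U := by
  rw [LinearMap.BilinForm.mem_orthogonal_iff, LinearMap.BilinForm.mem_orthogonal_iff]
  constructor
  · intro h n hn
    have h1 := h (g n) ((hU n).2 hn)
    rw [hg, map_eq_zero_iff φ φ.injective] at h1
    exact h1
  · intro h n hn
    obtain ⟨m, rfl⟩ := g.surjective n
    rw [hg, h m ((hU m).1 hn), map_zero]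

/-- the line spanned by a fixed vector is invariant -/
theorem span_inv {g : Equiv.Perm V} {φ : F ≃+* F} (hg : Semi φ g) {u : V} (hu : g u = u) (v : V) :
    g v ∈ Submodule.span F {u} ↔ v ∈ Submodule.span F {u} := by
  rw [Submodule.mem_span_singleton, Submodule.mem_span_singleton]
  constructor
  · rintro ⟨a, ha⟩
    refine ⟨φ.symm a, g.injective ?_⟩
    rw [hg.smul, hu, φ.apply_symm_apply, ha]
  · rintro ⟨a, rfl⟩
    exact ⟨φ a, by rw [hg.smul, hu]⟩

/-- a nonzero fixed vector from the field automorphism -/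
theorem exists_fixed {p : ℕ} (hp : p.Prime) {g : Equiv.Perm V} {φ : F ≃+* F} (hg : Semi φ g) (hgp : g ^ p = 1)
    (hφ : ∀ a, φ^[p] a = a) (hφ1 : φ ≠ RingEquiv.refl F) [Nontrivial V] : ∃ u : V, u ≠ 0 ∧ g u = u := by
  by_contra hcon
  push Not at hcon
  have h1 := Cfsg.Agent.BpCl.span_U hg hp hgp hφ hφ1
  have h2 : (Cfsg.Agent.BpCl.U hg : Set V) ⊆ {0} := by
    intro v hv
    by_contra h0
    exact hcon v h0 hv
  have h3 : Submodule.span F (Cfsg.Agent.BpCl.U hg : Set V) ≤ ⊥ := by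
    rw [Submodule.span_le]
    intro v hv
    have := h2 hv
    rw [Set.mem_singleton_iff] at this
    rw [this]
    exact Submodule.zero_mem _
  rw [h1, top_le_iff] at h3
  exact bot_ne_top h3

end Inv

section Res

variable {Γ : Subgroup (V ≃ₗ[F] V)}

variable (Γ) in
/-- restriction of `FixW Γ A W` to `W` -/
def resW (A W : Submodule F V) : ↥(FixW Γ A W) →* (W ≃ₗ[F] W) where
  toFun h :=
    { toFun := fun w => ⟨h.1.1 w, (h.2.2 w).2 w.2⟩
      invFun := fun w => ⟨(h⁻¹).1.1 w, ((h⁻¹).2.2 w).2 w.2⟩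
      map_add' := fun u v => Subtype.ext (map_add h.1.1 (u : V) v)
      map_smul' := fun a u => Subtype.ext (map_smul h.1.1 a (u : V))
      left_inv := fun u => Subtype.ext (h.1.1.symm_apply_apply _)
      right_inv := fun u => Subtype.ext (h.1.1.apply_symm_apply _) }
  map_one' := rfl
  map_mul' _ _ := rfl

theorem resW_apply {A W : Submodule F V} (h : ↥(FixW Γ A W)) (w : W) : (resW Γ A W h w : V) = h.1.1 w := rfl

theorem resW_injective {A W : Submodule F V} (hc : IsCompl A W) : Function.Injective (resW Γ A W) := by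
  intro a b hab
  apply Subtype.ext
  apply Subtype.ext
  apply LinearEquiv.ext
  intro v
  refine ext_of_isCompl hc (a := a.1.1.toLinearMap) (b := b.1.1.toLinearMap) ?_ ?_ v
  · intro w hw
    exact (a.2.1 w hw).trans (b.2.1 w hw).symm
  · intro w hw
    exact congrArg Subtype.val (LinearEquiv.congr_fun hab ⟨w, hw⟩)

/-- `1 ⊕ T` -/
theorem exists_ext {A W : Submodule F V} (hc : IsCompl A W) (T : W ≃ₗ[F] W) :
    ∃ h : V ≃ₗ[F] V, (∀ v ∈ A, h v = v) ∧ ∀ w : W, h w = T w := by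
  obtain ⟨h, hh⟩ := exists_glue hc (1 : A ≃ₗ[F] A) T
  refine ⟨h, fun v hv => ?_, fun w => ?_⟩
  · have := hh ⟨v, hv⟩ 0
    rw [map_zero, Submodule.coe_zero, add_zero, add_zero] at this
    exact this
  · have := hh 0 w
    rw [Submodule.coe_zero, zero_add, map_zero, Submodule.coe_zero, zero_add] at this
    exact this

theorem mem_iff_of_ext {A W : Submodule F V} (hc : IsCompl A W) {T : W ≃ₗ[F] W} {h : V ≃ₗ[F] V}
    (h1 : ∀ v ∈ A, h v = v) (h2 : ∀ w : W, h w = T w) (v : V) : h v ∈ W ↔ v ∈ W := by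
  obtain ⟨s, hs, t, ht, rfl⟩ := Submodule.mem_sup.1
    (show v ∈ A ⊔ W by rw [hc.sup_eq_top]; exact Submodule.mem_top)
  rw [map_add, h1 s hs, h2 ⟨t, ht⟩, W.add_mem_iff_left (T ⟨t, ht⟩).2, W.add_mem_iff_left ht]

/-- the range of the restriction -/
theorem mem_range_resW {A W : Submodule F V} (hc : IsCompl A W) {T : W ≃ₗ[F] W} {h : V ≃ₗ[F] V} (hΓ : h ∈ Γ)
    (h1 : ∀ v ∈ A, h v = v) (h2 : ∀ w : W, h w = T w) : T ∈ (resW Γ A W).range := by
  refine ⟨⟨⟨h, hΓ⟩, h1, mem_iff_of_ext hc h1 h2⟩, ?_⟩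
  apply LinearEquiv.ext
  intro w
  exact Subtype.ext (h2 w)

/-- the map which is `1` on `A` and `g` on `W` -/
theorem exists_part {A W : Submodule F V} (hc : IsCompl A W) {g : V ≃ₗ[F] V} (hgW : ∀ v, g v ∈ W ↔ v ∈ W) :
    ∃ h : V ≃ₗ[F] V, (∀ v ∈ A, h v = v) ∧ ∀ w ∈ W, h w = g w := by
  have hs : ∀ v, g.symm v ∈ W ↔ v ∈ W := by
    intro v
    rw [← hgW, g.apply_symm_apply]
  let T : W ≃ₗ[F] W :=
    { toFun := fun w => ⟨g w, (hgW w).2 w.2⟩
      invFun := fun w => ⟨g.symm w, (hs w).2 w.2⟩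
      map_add' := fun u v => Subtype.ext (map_add g (u : V) v)
      map_smul' := fun a u => Subtype.ext (map_smul g a (u : V))
      left_inv := fun u => Subtype.ext (g.symm_apply_apply _)
      right_inv := fun u => Subtype.ext (g.apply_symm_apply _) }
  obtain ⟨h, h1, h2⟩ := exists_ext hc T
  exact ⟨h, h1, fun w hw => h2 ⟨w, hw⟩⟩

end Res

end Cfsg.Agent.H952.Rc
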