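import Mathlib
import Cfsg.Agent.H952.RcNoRad
import Cfsg.Agent.LieClassical.OrthFourPlus
import Cfsg.Agent.LieClassical.OrthFourMinus
import Cfsg.Agent.SignalizersComponents.SLQuasisimple
import Cfsg.Agent.SignalizersComponents.Components
import Cfsg.Agent.S0276

/-!
# Orthogonal groups of dimension four (helper952, for the rows of S3829)

`Core p` for `O₄^±(q)`, `p ≥ 5`.
-/

set_option autoImplicit false
set_option linter.unusedSectionVars false

namespace Cfsg.Agent.H952.Rc

open Subgroup Cfsg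
open scoped commutatorElement Matrix MatrixGroups

section SL

variable {F : Type*} [Field F]

theorem sq_center_SL {z : SL(2, F)} (hz : z ∈ center SL(2, F)) : z ^ 2 = 1 := by
  obtain ⟨c, hc, h⟩ := Matrix.SpecialLinearGroup.mem_center_iff.1 hz
  rw [Fintype.card_fin] at hc
  apply Subtype.ext
  rw [Matrix.SpecialLinearGroup.coe_pow, ← h, ← map_pow, hc, map_one]
  rfl

theorem not_dvd_24 {p : ℕ} (hp : p.Prime) (h5 : 5 ≤ p) : ¬ p ∣ 24 := by
  intro h
  have h4 : p ∣ 2 ^ 3 * 3 := by simpa using h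
  rcases (Nat.Prime.dvd_mul hp).1 h4 with h5' | h5'
  · have := Nat.le_of_dvd (by norm_num) (hp.dvd_of_dvd_pow h5')
    omega
  · have := Nat.le_of_dvd (by norm_num) h5'
    omega

theorem noRad_SL_two [Finite F] {p : ℕ} (hp : p.Prime) (h5 : 5 ≤ p) : NoRad p SL(2, F) := by
  have := Fintype.ofFinite F
  have hodd : Odd p := hp.odd_of_ne_two (by omega)
  by_cases h4 : 4 ≤ Nat.card F
  · have hq := SignalizersComponents.SLQuasisimple.isQuasisimple_two (F := F) h4
    refine NoRad.of_dichotomy hodd ?_ (fun z hz => sq_center_SL hz) ?_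
    · exact (Group.isPerfect_def.1 (Cfsg.Agent.SignalizersComponents.Components.quasisimple_isPerfect hq))
    · intro N hN
      rcases Cfsg.Agent.SignalizersComponents.Components.quasisimple_normal hq N hN with h | h
      · exact Or.inr h
      · exact Or.inl h
  apply NoRad.of_not_dvd hp
  have hcard := Cfsg.Agent.S0276.card_sl_two (F := F) rfl
  rw [Nat.card_eq_fintype_card] at h4
  have hq : 2 ≤ Fintype.card F := Fintype.one_lt_card
  have h24 := not_dvd_24 hp h5
  have h6 : ¬ p ∣ 6 := fun h => h24 (h.trans (by norm_num))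
  rw [hcard]
  generalize Fintype.card F = q at *
  have hq4 : q < 4 := by omega
  interval_cases q
  · simpa using h6
  · simpa using h24

end SL

section General

variable {G S : Type*} [Group G] [Group S] {p : ℕ}

/-- the recognition of `Core` -/
theorem Core.of_hom (hp : Odd p) (f : S →* G) (hS : NoRad p S) (hc : f.range ≤ commutator G)
    (hk : ∀ a ∈ f.ker, ∀ b : S, a * b = b * a) (hk2 : ∀ a ∈ f.ker, a ^ 2 = 1) (hsq : ∀ y : G, y ^ 2 ∈ f.range) :
    Core p G := by
  refine ⟨f.range, hc, ?_, ?_⟩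
  · intro y hy
    obtain ⟨k, rfl⟩ := hp
    have h1 : y = (y ^ 2) ^ (k + 1) := by
      rw [← pow_mul, show 2 * (k + 1) = 2 * k + 1 + 1 by ring, pow_succ, hy, one_mul]
    rw [h1]
    exact pow_mem (hsq y) _
  · refine NoRad.of_surjective hp f.rangeRestrict f.rangeRestrict_surjective ?_ ?_ hS
    · intro a ha b _
      rw [MonoidHom.ker_rangeRestrict] at ha
      exact hk a ha b
    · intro a ha
      rw [MonoidHom.ker_rangeRestrict] at ha
      exact hk2 a ha

end General

section Plus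

open LieClassical.OrthFourCommon LieClassical.OrthFourPlus

variable {F : Type*} [Field F]

theorem psi_scalar (c : F) (hc : c ≠ 0) (p : Gam F) (h : ∃ s : SL(2, F) × SL(2, F),
    (p.1.1 : Matrix (Fin 2) (Fin 2) F) = c • (s.1 : Matrix (Fin 2) (Fin 2) F) ∧
    (p.1.2 : Matrix (Fin 2) (Fin 2) F) = c • (s.2 : Matrix (Fin 2) (Fin 2) F)) :
    psi p ∈ (phi (F := F)).range := by
  obtain ⟨s, h1, h2⟩ := h
  refine ⟨s, ?_⟩
  apply Subtype.ext
  apply LinearEquiv.ext
  intro X
  change ((s.1.toGL : GL (Fin 2) F) : Matrix (Fin 2) (Fin 2) F) * X *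
      ((s.2.toGL⁻¹ : GL (Fin 2) F) : Matrix (Fin 2) (Fin 2) F) = (psi p).1 X
  rw [psi_apply]
  have h3 : ((p.1.2⁻¹ : GL (Fin 2) F) : Matrix (Fin 2) (Fin 2) F) =
      c⁻¹ • ((s.2.toGL⁻¹ : GL (Fin 2) F) : Matrix (Fin 2) (Fin 2) F) := by
    have h4 : (p.1.2 : Matrix (Fin 2) (Fin 2) F) *
        (c⁻¹ • ((s.2.toGL⁻¹ : GL (Fin 2) F) : Matrix (Fin 2) (Fin 2) F)) = 1 := by
      rw [h2, smul_mul_smul_comm, mul_inv_cancel₀ hc, one_smul]
      exact Units.mul_inv s.2.toGL
    have h5 : ((p.1.2⁻¹ : GL (Fin 2) F) : Matrix (Fin 2) (Fin 2) F) * (p.1.2 : Matrix (Fin 2) (Fin 2) F) = 1 :=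
      Units.inv_mul p.1.2
    calc ((p.1.2⁻¹ : GL (Fin 2) F) : Matrix (Fin 2) (Fin 2) F)
        = ((p.1.2⁻¹ : GL (Fin 2) F) : Matrix (Fin 2) (Fin 2) F) * ((p.1.2 : Matrix (Fin 2) (Fin 2) F) *
          (c⁻¹ • ((s.2.toGL⁻¹ : GL (Fin 2) F) : Matrix (Fin 2) (Fin 2) F))) := by rw [h4, mul_one]
      _ = _ := by rw [← mul_assoc, h5, one_mul]
  rw [h3, h1, smul_mul_assoc, smul_mul_smul_comm, mul_inv_cancel₀ hc, one_smul]
  rfl

/-- pairs of determinant a square `c²` -/
theorem psi_mem_of_det {p : Gam F} {c : F} (hc : c ≠ 0) (h : (p.1.1 : Matrix (Fin 2) (Fin 2) F).det = c ^ 2) :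
    psi p ∈ (phi (F := F)).range := by
  have h2 : (p.1.2 : Matrix (Fin 2) (Fin 2) F).det = c ^ 2 := by
    rw [← h]
    have := p.2
    rw [mem_Gam] at this
    exact (congrArg Units.val this).symm
  refine psi_scalar c hc p ⟨(⟨c⁻¹ • (p.1.1 : Matrix (Fin 2) (Fin 2) F), ?_⟩,
    ⟨c⁻¹ • (p.1.2 : Matrix (Fin 2) (Fin 2) F), ?_⟩), ?_, ?_⟩
  · rw [Matrix.det_smul, h, Fintype.card_fin, ← mul_pow, inv_mul_cancel₀ hc, one_pow]
  · rw [Matrix.det_smul, h2, Fintype.card_fin, ← mul_pow, inv_mul_cancel₀ hc, one_pow]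
  · change (p.1.1 : Matrix (Fin 2) (Fin 2) F) = c • (c⁻¹ • (p.1.1 : Matrix (Fin 2) (Fin 2) F))
    rw [smul_smul, mul_inv_cancel₀ hc, one_smul]
  · change (p.1.2 : Matrix (Fin 2) (Fin 2) F) = c • (c⁻¹ • (p.1.2 : Matrix (Fin 2) (Fin 2) F))
    rw [smul_smul, mul_inv_cancel₀ hc, one_smul]

theorem tau_mul_tau : (tau : isom (dt F)) * tau = 1 := by
  apply Subtype.ext
  apply LinearEquiv.ext
  intro X
  change X.adjugate.adjugate = X
  rw [Matrix.adjugate_adjugate' X]; simp

theorem sq_mem_plus (y : isom (dt F)) : y ^ 2 ∈ (phi (F := F)).range := by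
  obtain ⟨p, h | h⟩ := exists_eq y
  · rw [h, ← map_pow]
    refine psi_mem_of_det (c := (p.1.1 : Matrix (Fin 2) (Fin 2) F).det) ?_ ?_
    · exact (Matrix.isUnits_det_units p.1.1).ne_zero
    · change ((p.1.1 ^ 2 : GL (Fin 2) F) : Matrix (Fin 2) (Fin 2) F).det = _
      rw [Units.val_pow_eq_pow_val, Matrix.det_pow]
  · have h1 : y ^ 2 = psi (p * sw p) := by
      rw [map_mul, ← tau_conj, h, pow_two]
      have h2 : (tau : isom (dt F))⁻¹ = tau := inv_eq_of_mul_eq_one_left tau_mul_tau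
      rw [h2, mul_assoc, mul_assoc]
    rw [h1]
    refine psi_mem_of_det (c := (p.1.1 : Matrix (Fin 2) (Fin 2) F).det) ?_ ?_
    · exact (Matrix.isUnits_det_units p.1.1).ne_zero
    · change ((p.1.1 * p.1.2 : GL (Fin 2) F) : Matrix (Fin 2) (Fin 2) F).det = _
      have h2 : (p.1.2 : Matrix (Fin 2) (Fin 2) F).det = (p.1.1 : Matrix (Fin 2) (Fin 2) F).det := by
        have := p.2
        rw [mem_Gam] at this
        exact (congrArg Units.val this).symm
      rw [Units.val_mul, Matrix.det_mul, h2, pow_two]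

theorem ker_plus {s : SL(2, F) × SL(2, F)} (hs : s ∈ (phi (F := F)).ker) : s ∈ center (SL(2, F) × SL(2, F)) := by
  have hs1 : phi s = 1 := hs
  have h1 := fst_eq_snd_of_phi_eq_one hs1
  have h2 : ∀ X : Matrix (Fin 2) (Fin 2) F, (s.1 : Matrix (Fin 2) (Fin 2) F) * X = X * s.1 := by
    intro X
    have h3 : (phi s).1 X = X := by rw [hs1]; rfl
    change ((s.1.toGL : GL (Fin 2) F) : Matrix (Fin 2) (Fin 2) F) * X *
      ((s.2.toGL⁻¹ : GL (Fin 2) F) : Matrix (Fin 2) (Fin 2) F) = X at h3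
    have h4 : ((s.1.toGL : GL (Fin 2) F) : Matrix (Fin 2) (Fin 2) F) * X =
        X * ((s.2.toGL : GL (Fin 2) F) : Matrix (Fin 2) (Fin 2) F) := by
      conv_rhs => rw [← h3]
      rw [mul_assoc, mul_assoc, Units.inv_mul, mul_one]
    rw [← h1] at h4
    exact h4
  have h3 : ∀ t : SL(2, F), s.1 * t = t * s.1 := fun t => Subtype.ext (h2 t)
  rw [Subgroup.mem_center_iff]
  intro t
  refine Prod.ext ?_ ?_
  · exact (h3 t.1).symm
  · change t.2 * s.2 = s.2 * t.2
    rw [← h1]
    exact (h3 t.2).symm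

theorem sq_center_prod {s : SL(2, F) × SL(2, F)} (hs : s ∈ center (SL(2, F) × SL(2, F))) : s ^ 2 = 1 := by
  have h := mem_center_iff.1 hs
  refine Prod.ext ?_ ?_
  · refine sq_center_SL (mem_center_iff.2 fun t => ?_)
    exact congrArg Prod.fst (h (t, 1))
  · refine sq_center_SL (mem_center_iff.2 fun t => ?_)
    exact congrArg Prod.snd (h (1, t))

theorem core_plus [Finite F] {p : ℕ} (hp : p.Prime) (h5 : 5 ≤ p) : Core p ↥(isom (dt F)) := by
  have hodd : Odd p := hp.odd_of_ne_two (by omega)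
  have hS : NoRad p (SL(2, F) × SL(2, F)) := (noRad_SL_two hp h5).prod (noRad_SL_two hp h5)
  by_cases ha : ∃ a : F, a ≠ 0 ∧ a ≠ 1
  · obtain ⟨a, ha0, ha1⟩ := ha
    refine Core.of_hom hodd phi hS (le_commutator a ha0 ha1) ?_ ?_ sq_mem_plus
    · intro s hs t
      exact (mem_center_iff.1 (ker_plus hs) t).symm
    · intro s hs
      exact sq_center_prod (ker_plus hs)
  · push Not at ha
    -- the field with two elements
    refine ⟨⊥, bot_le, ?_, fun N _ _ y _ _ => Subsingleton.elim _ _⟩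
    intro y hy
    rw [mem_bot]
    have := Fintype.ofFinite F
    have hq : Fintype.card F = 2 := by
      classical
      have h1 : Fintype.card F ≤ 2 := by
        have : (Finset.univ : Finset F) ⊆ {0, 1} := by
          intro t _
          by_cases h0 : t = 0
          · simp [h0]
          · simp [ha t h0]
        exact (Finset.card_le_card this).trans (Finset.card_le_two)
      have h2 : 2 ≤ Fintype.card F := Fintype.one_lt_card
      omega
    have hcard := Cfsg.Agent.S0276.card_sl_two (F := F) rfl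
    rw [hq] at hcard
    obtain ⟨k, rfl⟩ := hodd
    have h1 : y = (y ^ 2) ^ (k + 1) := by
      rw [← pow_mul, show 2 * (k + 1) = 2 * k + 1 + 1 by ring, pow_succ, hy, one_mul]
    have h2 : y ∈ (phi (F := F)).range := by
      rw [h1]
      exact pow_mem (sq_mem_plus y) _
    obtain ⟨s, rfl⟩ := h2
    have h3 : s ^ (2 * k + 1) ∈ (phi (F := F)).ker := by rw [MonoidHom.mem_ker, map_pow, hy]
    have h4 := sq_center_prod (ker_plus h3)
    have h6 : Nat.card (SL(2, F) × SL(2, F)) = 36 := by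
      rw [Nat.card_prod, hcard]; norm_num
    have h7 : orderOf s ∣ 36 := h6 ▸ orderOf_dvd_natCard s
    have h8 : orderOf s ∣ (2 * k + 1) * 2 := by
      apply orderOf_dvd_of_pow_eq_one
      rw [pow_mul, h4]
    have h9 : Nat.Coprime (orderOf s) (2 * k + 1) := by
      apply Nat.Coprime.symm
      rw [Nat.Prime.coprime_iff_not_dvd hp]
      intro h
      have h10 : (2 * k + 1) ∣ 24 ^ 2 := (h.trans h7).trans (by norm_num)
      exact not_dvd_24 hp h5 (hp.dvd_of_dvd_pow h10)
    have h10 : orderOf s ∣ 2 := h9.dvd_of_dvd_mul_left h8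
    have h11 : s ^ 2 = 1 := orderOf_dvd_iff_pow_eq_one.1 h10
    refine eq_one_of_two ⟨k, rfl⟩ ?_ hy
    rw [← map_pow, h11, map_one]

end Plus

section Minus

open LieClassical.OrthFourCommon LieClassical.OrthFourMinus QuadraticAlgebra

variable {F : Type*} [Field F] {c d : F}

/-- elements of `Gam` whose determinant is the square of a norm one element -/
theorem psi_mem_of_det_minus {p : Gam F c d} {u : E F c d} (hu : norm u = 1)
    (h : (p.1 : ME F c d).det = u ^ 2) : psi p ∈ (phi (F := F) (c := c) (d := d)).range := by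
  have hus : norm (star u) = 1 := by rw [QuadraticAlgebra.norm_star]; exact hu
  have huu : u * star u = 1 := by rw [← algebraMap_norm_eq_mul_star, hu, map_one]
  have h1 : psi p = psi (scal (star u) hus * p) := by rw [map_mul, psi_scal, one_mul]
  rw [phi_range, h1]
  refine ⟨_, ?_, rfl⟩
  change (scal (star u) hus * p).1.det = 1
  change ((scal (star u) hus).1 * p.1).det = 1
  rw [map_mul]
  ext1
  rw [Units.val_mul, Matrix.GeneralLinearGroup.val_det_apply, Matrix.GeneralLinearGroup.val_det_apply]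
  change ((star u) • (1 : ME F c d)).det * _ = _
  rw [Matrix.det_smul, Matrix.det_one, mul_one, Fintype.card_fin, h, ← mul_pow, mul_comm, huu, one_pow]
  rfl

theorem tau_mul_tau_minus : (tau : isom (Q c d)) * tau = 1 := by
  apply Subtype.ext
  apply LinearEquiv.ext
  intro v
  change (tau (c := c) (d := d)).1 ((tau (c := c) (d := d)).1 v) = v
  rw [tau_apply, tau_apply, star_star]

theorem sq_mem_minus (hgen : ∀ g : isom (Q c d), ∃ p : Gam F c d, g = psi p ∨ g = psi p * tau)
    (y : isom (Q c d)) : y ^ 2 ∈ (phi (F := F) (c := c) (d := d)).range := by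
  obtain ⟨p, h | h⟩ := hgen y
  · rw [h, ← map_pow]
    refine psi_mem_of_det_minus (u := (p.1 : ME F c d).det) p.2 ?_
    change ((p.1 ^ 2 : GL (Fin 2) (E F c d)) : ME F c d).det = _
    rw [Units.val_pow_eq_pow_val, Matrix.det_pow]
  · have h1 : y ^ 2 = psi (p * sw p) := by
      rw [map_mul, ← tau_conj, h, pow_two]
      have h2 : (tau : isom (Q c d))⁻¹ = tau := inv_eq_of_mul_eq_one_left tau_mul_tau_minus
      rw [h2, mul_assoc, mul_assoc]
    rw [h1]
    refine psi_mem_of_det_minus (u := 1) (map_one _) ?_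
    change ((p.1 * (sw p).1 : GL (Fin 2) (E F c d)) : ME F c d).det = _
    rw [Units.val_mul, Matrix.det_mul]
    change _ * ((starRingEnd (E F c d)).mapMatrix (p.1 : ME F c d)).det = _
    rw [← RingHom.map_det]
    change (p.1 : ME F c d).det * star (p.1 : ME F c d).det = _
    rw [← algebraMap_norm_eq_mul_star, show norm (p.1 : ME F c d).det = 1 from p.2, map_one, one_pow]

theorem core_minus [Finite F] [hab : Fact (∀ r : F, r ^ 2 ≠ c + d * r)] {p : ℕ} (hp : p.Prime) (h5 : 5 ≤ p) :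
    Core p ↥(isom (Q c d)) := by
  have hodd : Odd p := hp.odd_of_ne_two (by omega)
  have hfin : Finite (E F c d) := Finite.of_equiv _ (QuadraticAlgebra.equivProd c d).symm
  have hS : NoRad p SL(2, E F c d) := noRad_SL_two (F := E F c d) hp h5
  refine Core.of_hom hodd phi hS le_commutator ?_ ?_ (sq_mem_minus (exists_eq norm_surjective))
  · intro s hs t
    exact (mem_center_iff.1 (mem_center_of_phi_eq_one (MonoidHom.mem_ker.1 hs)) t).symm
  · intro s hs
    exact sq_center_SL (F := E F c d) (mem_center_of_phi_eq_one (MonoidHom.mem_ker.1 hs))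

end Minus

end Cfsg.Agent.H952.Rc
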