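import Mathlib
import Cfsg.Agent.H952.RcForm
import Cfsg.Agent.H952.RcFour

/-!
# Radical automorphisms of orthogonal groups (helper952, for the rows of S3829)
-/

set_option autoImplicit false
set_option linter.unusedSectionVars false

namespace Cfsg.Agent.H952.Rc

open Subgroup Cfsg Cfsg.Agent.H459.Rad Cfsg.Agent.H459.Iface QuadraticMap
open Cfsg.Agent.BpCl (Semi SemiIso)
open Cfsg.Agent.LieClassical.OrthCore Cfsg.Agent.LieClassical.OrthTrans Cfsg.Agent.LieClassical.OrthSimple
open scoped commutatorElement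

universe u v

section Core

variable {F : Type*} {V : Type*} [Field F] [AddCommGroup V] [Module F V] {Q : QuadraticForm F V}

/-- squares of isometries lie in `E Q` -/
theorem sq_mem_E [FiniteDimensional F V] (hG : Good Q) {h : V ≃ₗ[F] V} (hh : h ∈ O Q) : h * h ∈ E Q := by
  have h1 := hh
  rw [O_eq_closure hG.nondeg] at h1
  have key : ∀ h : V ≃ₗ[F] V, h ∈ closure (reflSet Q ∪ siegelSet Q) → h ∈ O Q ∧ h * h ∈ E Q := by
    intro h hh
    refine ⟨by rw [O_eq_closure hG.nondeg]; exact hh, ?_⟩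
    induction hh using closure_induction with
    | mem x hx =>
      rcases hx with ⟨v, hv, rfl⟩ | hx
      · rw [refl_mul_self]
        exact one_mem _
      · exact mul_mem (subset_closure hx) (subset_closure hx)
    | one => rw [one_mul]; exact one_mem _
    | mul a b ha hb iha ihb =>
      have ha' : a ∈ O Q := by rw [O_eq_closure hG.nondeg]; exact ha
      have hb' : b ∈ O Q := by rw [O_eq_closure hG.nondeg]; exact hb
      have e : a * b * (a * b) = (a * a) * ⁅a⁻¹, b⁆ * (b * b) := by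
        rw [commutatorElement_def]
        group
      rw [e]
      exact mul_mem (mul_mem iha (hG.commutator_le_E (commutator_mem_commutator (inv_mem ha') hb'))) ihb
    | inv a ha iha =>
      have e : a⁻¹ * a⁻¹ = (a * a)⁻¹ := by group
      rw [e]
      exact inv_mem iha
  exact (key h h1).2

/-- isometries of odd order lie in `E Q` -/
theorem mem_E_of_odd [FiniteDimensional F V] (hG : Good Q) {h : V ≃ₗ[F] V} (hh : h ∈ O Q) {p : ℕ} (hp : Odd p)
    (hhp : h ^ p = 1) : h ∈ E Q := by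
  obtain ⟨k, rfl⟩ := hp
  have h1 : h = (h * h) ^ (k + 1) := by
    rw [← pow_two, ← pow_mul, show 2 * (k + 1) = 2 * k + 1 + 1 by ring, pow_succ, hhp, one_mul]
  rw [h1]
  exact pow_mem (sq_mem_E hG hh) _

theorem center_scalar_orth (hG : Good Q) {Γ : Subgroup (V ≃ₗ[F] V)} (hΓ : Γ = E Q) {z : ↥Γ} (hz : z ∈ center ↥Γ) :
    ∃ c : F, ∀ v, z.1 v = c • v := by
  subst hΓ
  have hN1 : (center ↥(E Q)).map (E Q).subtype ≤ E Q := by
    rintro _ ⟨z, _, rfl⟩
    exact z.2
  have hN2 : ∀ g ∈ E Q, ∀ n ∈ (center ↥(E Q)).map (E Q).subtype,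
      g * n * g⁻¹ ∈ (center ↥(E Q)).map (E Q).subtype := by
    rintro g hg _ ⟨z, hz, rfl⟩
    refine ⟨z, hz, ?_⟩
    have h1 := congrArg Subtype.val (mem_center_iff.1 hz ⟨g, hg⟩)
    change z.1 = g * z.1 * g⁻¹
    change g * z.1 = z.1 * g at h1
    rw [h1, mul_inv_cancel_right]
  rcases good_normal_dichotomy hG hN1 hN2 with h | h
  · exact h _ ⟨z, hz, rfl⟩
  · exfalso
    obtain ⟨g, hg, hg1⟩ := good_E_ne_bot hG
    apply hg1
    have h1 : ⁅E Q, E Q⁆ ≤ ⊥ := by
      rw [commutator_le]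
      intro a ha b hb
      rw [← h] at ha
      obtain ⟨a', ha', rfl⟩ := ha
      rw [mem_bot, commutatorElement_eq_one_iff_mul_comm]
      exact (congrArg Subtype.val (mem_center_iff.1 ha' ⟨b, hb⟩)).symm
    rw [hG.E_perfect] at h1
    exact mem_bot.1 (h1 hg)

theorem sq_eq_one_of_scalar (hG : Good Q) {z : V ≃ₗ[F] V} (hz : z ∈ O Q) {c : F} (hc : ∀ v, z v = c • v) :
    z ^ 2 = 1 := by
  have h1 : ∃ v, Q v ≠ 0 := by
    by_contra hcon
    push Not at hcon
    obtain ⟨x, y, h⟩ := hG.exists_hyp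
    have h2 := h.pair
    unfold polar at h2
    rw [hcon, hcon, hcon, sub_zero, sub_zero] at h2
    exact one_ne_zero h2.symm
  obtain ⟨v, hv⟩ := h1
  have h2 := hz v
  rw [hc, QuadraticMap.map_smul, smul_eq_mul] at h2
  have h3 : c * c = 1 := by
    have h4 : (c * c - 1) * Q v = 0 := by rw [sub_mul, one_mul, h2, sub_self]
    rcases mul_eq_zero.1 h4 with h5 | h5
    · exact sub_eq_zero.1 h5
    · exact absurd h5 hv
  apply LinearEquiv.ext
  intro w
  rw [pow_two]
  change z (z w) = w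
  rw [hc, hc, smul_smul, h3, one_smul]

theorem noRad_E [FiniteDimensional F V] (hG : Good Q) {p : ℕ} (hp : Odd p) : NoRad p ↥(E Q) := by
  refine NoRad.of_dichotomy hp ?_ ?_ ?_
  · rw [← (Subgroup.map_injective (E Q).subtype_injective).eq_iff, commutator_def,
      Subgroup.map_commutator, ← MonoidHom.range_eq_map, Subgroup.range_subtype, hG.E_perfect]
  · intro z hz
    obtain ⟨c, hc⟩ := center_scalar_orth hG rfl hz
    exact Subtype.ext (sq_eq_one_of_scalar hG (E_le_O z.2) hc)
  · intro N hN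
    have hN1 : N.map (E Q).subtype ≤ E Q := by
      rintro _ ⟨z, _, rfl⟩
      exact z.2
    have hN2 : ∀ g ∈ E Q, ∀ n ∈ N.map (E Q).subtype, g * n * g⁻¹ ∈ N.map (E Q).subtype := by
      rintro g hg _ ⟨n, hn, rfl⟩
      exact ⟨⟨g, hg⟩ * n * ⟨g, hg⟩⁻¹, hN.conj_mem n hn _, rfl⟩
    rcases good_normal_dichotomy hG hN1 hN2 with h | h
    · left
      intro n hn
      obtain ⟨c, hc⟩ := h _ ⟨n, hn, rfl⟩
      rw [mem_center_iff]
      intro g
      apply Subtype.ext
      apply LinearEquiv.ext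
      intro v
      change g.1 (n.1 v) = n.1 (g.1 v)
      have hc' : ∀ v, n.1 v = c • v := hc
      rw [hc', hc', map_smul]
    · right
      rw [eq_top_iff]
      intro g _
      have h1 : g.1 ∈ N.map (E Q).subtype := by rw [h]; exact g.2
      obtain ⟨n, hn, hng⟩ := h1
      have : n = g := Subtype.ext hng
      rw [← this]
      exact hn

theorem core_big [FiniteDimensional F V] (hG : Good Q) {p : ℕ} (hp : Odd p) : Core p ↥(O Q) := by
  refine ⟨(E Q).subgroupOf (O Q), ?_, ?_, ?_⟩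
  · have h1 : ((E Q).subgroupOf (O Q)).map (O Q).subtype ≤ (commutator ↥(O Q)).map (O Q).subtype := by
      rw [commutator_def, Subgroup.map_commutator, ← MonoidHom.range_eq_map, Subgroup.range_subtype,
        hG.commutator_eq_E]
      rintro _ ⟨h, hh, rfl⟩
      exact mem_subgroupOf.1 hh
    exact (map_le_map_iff_of_injective (O Q).subtype_injective).1 h1
  · intro y hy
    rw [mem_subgroupOf]
    exact mem_E_of_odd hG y.2 hp (congrArg Subtype.val hy)
  · exact (noRad_E hG hp).congr (subgroupOfEquivOfLe E_le_O).symm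

end Core

section Four

variable {F : Type*} {V : Type*} [Field F] [Finite F] [AddCommGroup V] [Module F V] {Q : QuadraticForm F V}

/-- **`Core p` for orthogonal groups of dimension at least four.** -/
theorem core_orth [FiniteDimensional F V] (hQ : Nondeg Q) (hd : 4 ≤ Module.finrank F V) {p : ℕ} (hp : p.Prime)
    (h5 : 5 ≤ p) : Core p ↥(O Q) := by
  have hodd : Odd p := hp.odd_of_ne_two (by omega)
  by_cases hd5 : 5 ≤ Module.finrank F V
  · exact core_big (Cfsg.Agent.LieClassical.OrthFinite.good_of_finite hQ hd5) hodd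
  have hd4 : Module.finrank F V = 4 := by omega
  have hN := GenOrth.normal_form (Module.finrank F V) hQ rfl
  rw [hd4] at hN
  rcases hN with ⟨k, hk, -⟩ | ⟨k, hk, hs⟩ | ⟨k, hk, a, b, hab, hs⟩
  · omega
  · have hk1 : k = 2 := by omega
    subst hk1
    obtain ⟨e⟩ := BpCl.nonempty_of_sim hs
    obtain ⟨ε⟩ := LieClassical.OrthFourCommon.exists_isometryGroup_equiv (LieClassical.OrthFourPlus.coord F)
      (Cfsg.quadFormPlus 2 F) (LieClassical.OrthFourPlus.dt F) LieClassical.OrthFourPlus.coord_det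
    exact ((core_plus hp h5).congr ε.symm).congr e
  · have hk1 : k = 1 := by omega
    subst hk1
    obtain ⟨e⟩ := BpCl.nonempty_of_sim hs
    have : Fact (∀ r : F, r ^ 2 ≠ -b + a * r) := ⟨fun r hr => by
      have := (hab (-r) 1 (by linear_combination hr)).2
      exact one_ne_zero this⟩
    obtain ⟨ε⟩ := LieClassical.OrthFourCommon.exists_isometryGroup_equiv (LieClassical.OrthFourMinus.coord F (-b) a)
      (Cfsg.quadFormMinus 1 F a b) (LieClassical.OrthFourMinus.Q (-b) a) (LieClassical.OrthFourMinus.Q_coord a b)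
    exact ((core_minus hp h5).congr ε.symm).congr e

end Four

section Main

variable {F : Type u} {V : Type v} [Field F] [AddCommGroup V] [Module F V] {Q : QuadraticForm F V}
  {Γ : Subgroup (V ≃ₗ[F] V)}

/-- vectors fixed by `E Q` are zero -/
theorem eq_zero_of_fixed (hG : Good Q) {a : V} (h : ∀ k ∈ E Q, k a = a) : a = 0 := by
  by_contra ha
  obtain ⟨x, y, hxy⟩ := hG.exists_hyp
  obtain ⟨u, hu, hua⟩ := exists_sing_polar_one hG.nondeg hxy ha
  have hu0 : u ≠ 0 := by
    rintro rfl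
    rw [polar_zero_left] at hua
    exact one_ne_zero hua.symm
  obtain ⟨u', huu'⟩ := exists_hyp hG.nondeg hu hu0
  obtain ⟨w, hw0, hw, huw, hu'w⟩ := hG.perp u u' huu'
  have h1 := h _ (siegel_mem_E hu huw)
  rw [siegel_apply, hua, hw, one_smul, zero_mul, zero_smul, sub_zero] at h1
  have h2 : w = polar Q w a • u := by
    have h3 : a + w - polar Q w a • u - a = 0 := by rw [h1, sub_self]
    have h4 : w - polar Q w a • u = 0 := by
      rw [← h3]; abel
    exact sub_eq_zero.1 h4
  have h3 : polar Q u' w = polar Q w a := by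
    conv_lhs => rw [h2]
    rw [polar_smul_right, huu'.pair', smul_eq_mul, mul_one]
  rw [hu'w] at h3
  rw [← h3, zero_smul] at h2
  exact hw0 h2

theorem orth_ne_top (hG : Good Q) (hΓ : Γ = E Q) {A W : Submodule F V} (hA0 : A ≠ ⊥) :
    (FixW Γ A W).map (QuotientGroup.mk' (center ↥Γ)) ≠ ⊤ := by
  intro htop
  obtain ⟨a, ha, ha0⟩ := Submodule.exists_mem_ne_zero_of_ne_bot hA0
  apply ha0
  apply eq_zero_of_fixed hG
  have h1 : ∀ k : ↥Γ, ∃ h ∈ FixW Γ A W, ∃ z ∈ center ↥Γ, k = h * z := by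
    intro k
    have h2 : QuotientGroup.mk' (center ↥Γ) k ∈ (FixW Γ A W).map (QuotientGroup.mk' (center ↥Γ)) := by
      rw [htop]; exact mem_top _
    obtain ⟨h, hh, heq⟩ := h2
    exact ⟨h, hh, h⁻¹ * k, QuotientGroup.eq.1 heq, by group⟩
  have h2 : commutator ↥Γ ≤ FixW Γ A W := by
    rw [commutator_def, commutator_le]
    intro k _ l _
    obtain ⟨h, hh, z, hz, rfl⟩ := h1 k
    obtain ⟨h', hh', z', hz', rfl⟩ := h1 l
    have e : ⁅h * z, h' * z'⁆ = ⁅h, h'⁆ := by
      have hz1 := Subgroup.mem_center_iff.1 hz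
      have hz2 := Subgroup.mem_center_iff.1 hz'
      rw [commutatorElement_def, commutatorElement_def, mul_inv_rev, mul_inv_rev]
      calc h * z * (h' * z') * (z⁻¹ * h⁻¹) * (z'⁻¹ * h'⁻¹)
          = h * (z * (h' * z')) * (z⁻¹ * h⁻¹) * (z'⁻¹ * h'⁻¹) := by group
        _ = h * ((h' * z') * z) * (z⁻¹ * h⁻¹) * (z'⁻¹ * h'⁻¹) := by rw [hz1]
        _ = h * h' * (z' * h⁻¹) * (z'⁻¹ * h'⁻¹) := by group
        _ = h * h' * (h⁻¹ * z') * (z'⁻¹ * h'⁻¹) := by rw [hz2]
        _ = h * h' * h⁻¹ * h'⁻¹ := by group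
    rw [e]
    exact mul_mem (mul_mem (mul_mem hh hh') (inv_mem hh)) (inv_mem hh')
  have h3 : commutator ↥Γ = ⊤ := by
    subst hΓ
    rw [← (Subgroup.map_injective (E Q).subtype_injective).eq_iff, commutator_def,
      Subgroup.map_commutator, ← MonoidHom.range_eq_map, Subgroup.range_subtype, hG.E_perfect]
  rw [h3, top_le_iff] at h2
  intro k hk
  have h4 : (⟨k, by rw [hΓ]; exact hk⟩ : ↥Γ) ∈ FixW Γ A W := by rw [h2]; exact mem_top _
  exact h4.1 a ha

theorem noRad_orth [Finite F] [FiniteDimensional F V] {p : ℕ} (hp : p.Prime) (h5 : 5 ≤ p) (hG : Good Q)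
    (hΓ : Γ = E Q) {A W : Submodule F V} (hc : IsCompl A W) (hAW : ∀ a ∈ A, ∀ w ∈ W, polar Q a w = 0)
    (hW : 4 ≤ Module.finrank F W) : NoRad p ↥(FixW Γ A W) := by
  subst hΓ
  let Q' : QuadraticForm F W := Q.comp W.subtype
  have hQ' : ∀ w : W, Q' w = Q w := fun _ => rfl
  have hpol' : ∀ u v : W, polar Q' u v = polar Q (u : V) v := fun _ _ => rfl
  have hWA : ∀ w ∈ W, ∀ a ∈ A, polar Q w a = 0 := fun w hw a ha => by rw [polar_comm, hAW a ha w hw]
  have hnd : Nondeg Q' := by
    intro u hu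
    apply Subtype.ext
    apply hG.nondeg
    intro v
    obtain ⟨s, hs, t, ht, rfl⟩ := Submodule.mem_sup.1
      (show v ∈ A ⊔ W by rw [hc.sup_eq_top]; exact Submodule.mem_top)
    rw [polar_add_right, hWA u u.2 s hs, zero_add]
    exact hu ⟨t, ht⟩
  have hcore := core_orth hnd hW hp h5
  -- the extension of an isometry of `W`
  have hext : ∀ T : W ≃ₗ[F] W, T ∈ O Q' → ∃ h ∈ O Q, (∀ v ∈ A, h v = v) ∧ ∀ w : W, h w = T w := by
    intro T hT
    obtain ⟨h, h1, h2⟩ := exists_ext hc T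
    refine ⟨h, ?_, h1, h2⟩
    intro v
    obtain ⟨s, hs, t, ht, rfl⟩ := Submodule.mem_sup.1
      (show v ∈ A ⊔ W by rw [hc.sup_eq_top]; exact Submodule.mem_top)
    have h3 : h t = T ⟨t, ht⟩ := h2 ⟨t, ht⟩
    have h4 : Q (T ⟨t, ht⟩ : V) = Q t := hT ⟨t, ht⟩
    rw [map_add, h1 s hs, h3, Q_add, Q_add, h4, hAW s hs _ (T ⟨t, ht⟩).2, hAW s hs t ht]
  have hRO : (resW (E Q) A W).range ≤ O Q' := by
    rintro _ ⟨h, rfl⟩ w
    exact E_le_O h.1.2 w
  have hcom : commutator ↥(O Q') ≤ (resW (E Q) A W).range.subgroupOf (O Q') := by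
    rw [commutator_def, commutator_le]
    intro a _ b _
    rw [mem_subgroupOf]
    obtain ⟨a', ha', ha1, ha2⟩ := hext a.1 a.2
    obtain ⟨b', hb', hb1, hb2⟩ := hext b.1 b.2
    have hi : ∀ (T : W ≃ₗ[F] W) (h : V ≃ₗ[F] V), (∀ v ∈ A, h v = v) → (∀ w : W, h w = T w) →
        (∀ v ∈ A, h⁻¹ v = v) ∧ ∀ w : W, h⁻¹ w = T⁻¹ w := by
      intro T h h1 h2
      refine ⟨fun v hv => ?_, fun w => ?_⟩
      · have : h.symm (h v) = v := h.symm_apply_apply v
        rw [h1 v hv] at this
        exact this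
      · have : h.symm (h ((T⁻¹ w : W) : V)) = T⁻¹ w := h.symm_apply_apply _
        rw [h2] at this
        have h3 : T (T⁻¹ w) = w := T.apply_symm_apply w
        rw [h3] at this
        exact this
    refine mem_range_resW hc (h := ⁅a', b'⁆) ?_ ?_ ?_
    · exact hG.commutator_le_E (commutator_mem_commutator ha' hb')
    · intro v hv
      rw [commutatorElement_def]
      change a' (b' (a'⁻¹ (b'⁻¹ v))) = v
      rw [(hi _ _ hb1 hb2).1 v hv, (hi _ _ ha1 ha2).1 v hv, hb1 v hv, ha1 v hv]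
    · intro w
      rw [commutatorElement_def]
      change a' (b' (a'⁻¹ (b'⁻¹ w))) = _
      rw [(hi _ _ hb1 hb2).2 w, (hi _ _ ha1 ha2).2 _, hb2, ha2]
      rfl
  have h6 := hcore.noRad hcom
  have h7 : NoRad p ↥(resW (E Q) A W).range := h6.congr (subgroupOfEquivOfLe hRO)
  exact h7.congr (MonoidHom.ofInjective (resW_injective hc)).symm

/-- the decomposition argument -/
theorem orth_split [Finite F] [FiniteDimensional F V] {p : ℕ} (hp : p.Prime) (h5 : 5 ≤ p) (hG : Good Q)
    (hΓ : Γ = E Q) {x : MulAut (↥Γ ⧸ center ↥Γ)} {g : V ≃ₗ[F] V} (hx : Comp x g.toEquiv) (hRC : RC x)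
    (hgO : g ∈ O Q) (hgp : g ^ p = 1) {A W : Submodule F V} (hc : IsCompl A W)
    (hAW : ∀ a ∈ A, ∀ w ∈ W, polar Q a w = 0) (hA : ∀ v, g v ∈ A ↔ v ∈ A) (hW : ∀ v, g v ∈ W ↔ v ∈ W)
    (hA0 : A ≠ ⊥) (hW4 : 4 ≤ Module.finrank F W) : ∀ v ∈ W, g v = v := by
  have hVf : Finite V := Module.finite_of_finite F
  have hf0 : Finite (V ≃ₗ[F] V) := Finite.of_injective (fun h : V ≃ₗ[F] V => (h : V → V)) DFunLike.coe_injective
  obtain ⟨y, hy1, hy2⟩ := exists_part hc hW
  have hyO : y ∈ O Q := by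
    intro v
    obtain ⟨s, hs, t, ht, rfl⟩ := Submodule.mem_sup.1
      (show v ∈ A ⊔ W by rw [hc.sup_eq_top]; exact Submodule.mem_top)
    rw [map_add, hy1 s hs, hy2 t ht, Q_add, Q_add, hgO t, hAW s hs _ ((hW t).2 ht), hAW s hs t ht]
  have hypow : ∀ n : ℕ, (∀ v ∈ A, (y ^ n) v = v) ∧ ∀ v ∈ W, (y ^ n) v = (g ^ n) v ∧ (g ^ n) v ∈ W := by
    intro n
    induction n with
    | zero => exact ⟨fun _ _ => rfl, fun v hv => ⟨rfl, hv⟩⟩
    | succ n ih =>
      refine ⟨fun v hv => ?_, fun v hv => ⟨?_, ?_⟩⟩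
      · rw [pow_succ']
        change y ((y ^ n) v) = v
        rw [ih.1 v hv, hy1 v hv]
      · rw [pow_succ', pow_succ']
        change y ((y ^ n) v) = g ((g ^ n) v)
        rw [(ih.2 v hv).1, hy2 _ (ih.2 v hv).2]
      · rw [pow_succ']
        change g ((g ^ n) v) ∈ W
        rw [hW]
        exact (ih.2 v hv).2
  have hyp : y ^ p = 1 := by
    apply LinearEquiv.ext
    intro v
    refine ext_of_isCompl hc (a := (y ^ p).toLinearMap) (b := LinearMap.id) ?_ ?_ v
    · intro w hw
      exact (hypow p).1 w hw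
    · intro w hw
      change (y ^ p) w = w
      rw [((hypow p).2 w hw).1, hgp]
      rfl
  have hodd : Odd p := hp.odd_of_ne_two (by omega)
  have hyΓ : y ∈ Γ := by rw [hΓ]; exact mem_E_of_odd hG hyO hodd hyp
  exact hx.eq_one_of_noRad hRC hc hA hW hgp ⟨y, hyΓ⟩ hy1 hy2 (orth_ne_top hG hΓ hA0)
    (noRad_orth hp h5 hG hΓ hc hAW hW4)

theorem polarBilin_refl (Q : QuadraticForm F V) : LinearMap.BilinForm.IsRefl (polarBilin Q) := by
  intro u v h
  change polar Q u v = 0 at h
  change polar Q v u = 0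
  rw [polar_comm, h]

/-- **Orthogonal groups**, the semilinear isometry normalised. -/
theorem orth_norm [Finite F] [FiniteDimensional F V] {r p : ℕ} [hr : Fact r.Prime] [hp : Fact p.Prime]
    [CharP F r] (h5 : 5 ≤ p) (hpF : (p : F) ≠ 0) (hQ : Nondeg Q) (hd : 7 ≤ Module.finrank F V) (hΓ : Γ = E Q)
    {x : MulAut (↥Γ ⧸ center ↥Γ)}
    {g : Equiv.Perm V} {φ : F ≃+* F} (hg : SemiIso (fun u _ => Q u) φ 1 g) (hgp : g ^ p = 1)
    (hφ : ∀ a, φ^[p] a = a) (hx : Comp x g) (hx1 : x ≠ 1) (hRC : RC x) : FixR r x ∨ Cyc p x := by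
  have hG : Good Q := Cfsg.Agent.LieClassical.OrthFinite.good_of_finite hQ (by omega)
  have hVf : Finite V := Module.finite_of_finite F
  have hf0 : Finite (V ≃ₗ[F] V) := Finite.of_injective (fun h : V ≃ₗ[F] V => (h : V → V)) DFunLike.coe_injective
  have hVn : Nontrivial V := Module.nontrivial_of_finrank_pos (R := F) (by omega)
  have hQg : ∀ u, Q (g u) = φ (Q u) := fun u => by
    have := hg.form u u
    rwa [one_mul] at this
  have hform : ∀ u v, polarBilin Q (g u) (g v) = φ (polarBilin Q u v) := by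
    intro u v
    change polar Q (g u) (g v) = φ (polar Q u v)
    unfold polar
    rw [← hg.add, hQg, hQg, hQg, map_sub, map_sub]
  have hodd : Odd p := hp.out.odd_of_ne_two (by omega)
  have hrefl := polarBilin_refl Q
  -- a totally singular invariant subspace
  have hts : ∀ U : Submodule F V, U ≠ ⊥ → (∀ u ∈ U, g u ∈ U) → (∀ u ∈ U, Q u = 0) → FixR r x := by
    intro U hU0 hU hUQ
    obtain ⟨u, hu, hu0⟩ := Submodule.exists_mem_ne_zero_of_ne_bot hU0
    have hU' := inv_iff hU
    have hUU : ∀ u ∈ U, ∀ v ∈ U, polar Q u v = 0 := by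
      intro u hu v hv
      unfold polar
      rw [hUQ _ (U.add_mem hu hv), hUQ u hu, hUQ v hv, sub_zero, sub_zero]
    have hUP : U ≤ LinearMap.BilinForm.orthogonal (polarBilin Q) U := fun v hv w hw => hUU w hw v hv
    obtain ⟨w, hw, hwu⟩ : ∃ w ∈ LinearMap.BilinForm.orthogonal (polarBilin Q) U, w ∉ Submodule.span F {u} := by
      by_contra hcon
      push Not at hcon
      have h1 : LinearMap.BilinForm.orthogonal (polarBilin Q) U ≤ Submodule.span F {u} := hcon
      have h2 := Submodule.finrank_mono h1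
      have h3 := Submodule.finrank_mono hUP
      have h4 := finrank_span_singleton (K := F) hu0
      have h6 := LinearMap.BilinForm.finrank_add_finrank_orthogonal hrefl U
      omega
    have hu' : Q u = 0 := hUQ u hu
    have hw' : polar Q u w = 0 := hw u hu
    have hmem : siegel Q u w hu' hw' ∈ Γ := by rw [hΓ]; exact siegel_mem_E hu' hw'
    refine hx.fixR_unip hg.add (U := U) (P := LinearMap.BilinForm.orthogonal (polarBilin Q) U) hUP hU'
      (orth_iff hform hU') ⟨_, hmem⟩ ?_ ?_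
    · refine ⟨fun v hv => ?_, fun v hv => ?_, fun v => ?_⟩
      · change siegel Q u w hu' hw' v = v
        have h1 : polar Q w v = 0 := by rw [polar_comm]; exact hw v hv
        rw [siegel_apply, hUU u hu v hv, h1, zero_smul, zero_smul, mul_zero, zero_smul, add_zero, sub_zero, sub_zero]
      · change siegel Q u w hu' hw' v - v ∈ U
        have h1 : polar Q u v = 0 := hv u hu
        rw [siegel_apply, h1, zero_smul, mul_zero, zero_smul, add_zero, sub_zero, sub_sub_cancel_left]
        exact U.neg_mem (U.smul_mem _ hu)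
      · change siegel Q u w hu' hw' v - v ∈ LinearMap.BilinForm.orthogonal (polarBilin Q) U
        have e : siegel Q u w hu' hw' v - v = polar Q u v • w - polar Q w v • u - (Q w * polar Q u v) • u := by
          rw [siegel_apply]; abel
        rw [e]
        exact Submodule.sub_mem _ (Submodule.sub_mem _ (Submodule.smul_mem _ _ hw)
          (Submodule.smul_mem _ _ (hUP hu))) (Submodule.smul_mem _ _ (hUP hu))
    · intro hz
      obtain ⟨c, hc⟩ := center_scalar_orth hG hΓ hz
      have hc' : ∀ v, siegel Q u w hu' hw' v = c • v := hc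
      have h1 := hc' u
      have h2 : polar Q u u = 0 := polar_self_of_sing hu'
      have h3 : polar Q w u = 0 := by rw [polar_comm]; exact hw'
      rw [siegel_apply, h2, h3, zero_smul, zero_smul, mul_zero, zero_smul, add_zero, sub_zero, sub_zero] at h1
      have hc1 : c = 1 := by
        have h4 : (c - 1) • u = 0 := by rw [sub_smul, one_smul, ← h1, sub_self]
        rcases smul_eq_zero.1 h4 with h5 | h5
        · exact sub_eq_zero.1 h5
        · exact absurd h5 hu0
      obtain ⟨u', huu'⟩ := exists_hyp hG.nondeg hu' hu0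
      have h4 := hc' u'
      rw [siegel_apply, huu'.pair, hc1, one_smul, one_smul, mul_one] at h4
      apply hwu
      rw [Submodule.mem_span_singleton]
      refine ⟨polar Q w u' + Q w, ?_⟩
      have h6 : u' + w - polar Q w u' • u - Q w • u - u' = 0 := by rw [h4, sub_self]
      rw [add_smul]
      have h7 : w - (polar Q w u' • u + Q w • u) = 0 := by rw [← h6]; abel
      exact (sub_eq_zero.1 h7).symm
  have hsing : ∀ u : V, u ≠ 0 → g u = u → Q u = 0 → FixR r x := by
    intro u hu0 hu hQu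
    refine hts (Submodule.span F {u}) ?_ (fun v hv => (span_inv hg.toSemi hu v).2 hv) ?_
    · rw [Ne, Submodule.span_singleton_eq_bot]
      exact hu0
    · intro v hv
      obtain ⟨a, rfl⟩ := Submodule.mem_span_singleton.1 hv
      rw [QuadraticMap.map_smul, hQu, smul_zero]
  by_cases hφ1 : φ = RingEquiv.refl F
  swap
  · -- a field automorphism is involved
    left
    have hspan := Cfsg.Agent.BpCl.span_U hg.toSemi hp.out hgp hφ hφ1
    obtain ⟨ι, _, b, b0, hb⟩ := Cfsg.Agent.BpCl.exists_basis hg.toSemi hspan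
    have h1 : Module.finrank F V = Fintype.card ι := Module.finrank_eq_card_basis b
    have h2 : Module.finrank (Cfsg.Agent.BpCl.K0 φ) (Cfsg.Agent.BpCl.U hg.toSemi) = Fintype.card ι :=
      Module.finrank_eq_card_basis b0
    have hfd : Module.Finite (Cfsg.Agent.BpCl.K0 φ) (Cfsg.Agent.BpCl.U hg.toSemi) := Module.Finite.of_basis b0
    obtain ⟨w, -, hw0, hw⟩ := Cfsg.Agent.LieClassical.OrthFinite.exists_sing_mem
      (Q := Cfsg.Agent.BpCl.quad0 hg) (⊤ : Submodule (Cfsg.Agent.BpCl.K0 φ) (Cfsg.Agent.BpCl.U hg.toSemi))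
      (by rw [finrank_top]; omega)
    have h3 : Q (w : V) = 0 := by
      rw [← Cfsg.Agent.BpCl.quad0_coe hg w, hw]
      rfl
    exact hsing w (fun h => hw0 (Subtype.ext h)) w.2 h3
  subst hφ1
  obtain ⟨g', hg'⟩ := Cfsg.Agent.BpCl.exists_linear hg.toSemi
  have hgg : ∀ v, g v = g' v := fun v => by rw [← hg']; rfl
  have hgO : g' ∈ O Q := fun v => by rw [← hgg, hQg]; rfl
  have hx' : Comp x g'.toEquiv := by rw [hg']; exact hx
  have hgp' : g' ^ p = 1 := by
    apply LinearEquiv.ext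
    intro v
    rw [Cfsg.Agent.BpCl.lin_pow, hg', hgp]
    rfl
  have hg1 : g' ≠ 1 := by
    intro h
    apply hx1
    ext k
    obtain ⟨h', rfl⟩ := QuotientGroup.mk'_surjective (center ↥Γ) k
    rw [hx'.apply (h' := h') (fun v => by rw [h]; rfl)]
    rfl
  have hg'Γ : g' ∈ Γ := by rw [hΓ]; exact mem_E_of_odd hG hgO hodd hgp'
  have hform' : ∀ u v, polarBilin Q (g' u) (g' v) = polarBilin Q u v := fun u v => polar_map hgO u v
  by_contra hno
  push Not at hno
  obtain ⟨hnoF, hnoC⟩ := hno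
  -- the fixed space
  have hW0 : Module.finrank F (BpCl.W0 g') ≤ 2 := by
    by_contra hcon
    obtain ⟨w, hw, hw0, hQw⟩ := Cfsg.Agent.LieClassical.OrthFinite.exists_sing_mem (Q := Q) (BpCl.W0 g') (by omega)
    exact hnoF (hsing w hw0 (by rw [hgg]; exact BpCl.mem_W0.1 hw) hQw)
  have hcW := BpCl.isCompl_W hgp' hpF
  by_cases hfix : BpCl.W0 g' = ⊥
  · -- no fixed vectors
    have hno0 : ∀ v, g' v = v → v = 0 := by
      intro v hv
      have : v ∈ BpCl.W0 g' := BpCl.mem_W0.2 hv
      rwa [hfix, Submodule.mem_bot] at this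
    apply hnoC
    refine hx'.cyc hg'Γ hpF hgp' hg1 ?_
    intro A hgA
    by_contra hcon
    push Not at hcon
    obtain ⟨hAb, hAt⟩ := hcon
    have hA' : ∀ v, g' v ∈ A ↔ v ∈ A := inv_iff (g := g'.toEquiv) hgA
    have hW' : ∀ v, g' v ∈ LinearMap.BilinForm.orthogonal (polarBilin Q) A ↔ v ∈ LinearMap.BilinForm.orthogonal (polarBilin Q) A :=
      orth_iff (g := g'.toEquiv) (φ := RingEquiv.refl F) hform' hA'
    have hdisj : Disjoint A (LinearMap.BilinForm.orthogonal (polarBilin Q) A) := by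
      rw [Submodule.disjoint_def]
      intro v hvA hvW
      -- the singular vectors in the radical
      let D : Submodule F V :=
        { carrier := {v | (v ∈ A ∧ v ∈ LinearMap.BilinForm.orthogonal (polarBilin Q) A) ∧ Q v = 0}
          add_mem' := by
            rintro a b ⟨⟨ha1, ha2⟩, ha3⟩ ⟨⟨hb1, hb2⟩, hb3⟩
            refine ⟨⟨A.add_mem ha1 hb1, Submodule.add_mem _ ha2 hb2⟩, ?_⟩
            have h1 : polar Q a b = 0 := hb2 a ha1
            rw [Q_add, ha3, hb3, h1, add_zero, add_zero]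
          zero_mem' := ⟨⟨A.zero_mem, Submodule.zero_mem _⟩, QuadraticMap.map_zero Q⟩
          smul_mem' := by
            rintro c a ⟨⟨ha1, ha2⟩, ha3⟩
            refine ⟨⟨A.smul_mem c ha1, Submodule.smul_mem _ c ha2⟩, ?_⟩
            rw [QuadraticMap.map_smul, ha3, smul_zero] }
      have hD : D = ⊥ := by
        by_contra hD
        apply hnoF
        refine hts D hD ?_ (fun u hu => hu.2)
        rintro u ⟨⟨h1, h2⟩, h3⟩
        rw [hgg]
        exact ⟨⟨(hA' u).2 h1, (hW' u).2 h2⟩, by rw [hgO u, h3]⟩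
      have h1 : g' v - v ∈ D := by
        refine ⟨⟨A.sub_mem ((hA' v).2 hvA) hvA, Submodule.sub_mem _ ((hW' v).2 hvW) hvW⟩, ?_⟩
        have h2 : polar Q (g' v) v = 0 := hvW _ ((hA' v).2 hvA)
        have h3 : polar Q v v = 0 := hvW v hvA
        rw [polar_self'] at h3
        rw [sub_eq_add_neg, Q_add, polar_neg_right, h2, QuadraticMap.map_neg, hgO v, neg_zero, add_zero, ← two_mul]
        exact h3
      rw [hD, Submodule.mem_bot, sub_eq_zero] at h1
      exact hno0 v h1
    have hc : IsCompl A (LinearMap.BilinForm.orthogonal (polarBilin Q) A) :=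
      (LinearMap.BilinForm.isCompl_orthogonal_iff_disjoint hrefl).2 hdisj
    have hAW : ∀ a ∈ A, ∀ w ∈ LinearMap.BilinForm.orthogonal (polarBilin Q) A, polar Q a w = 0 := fun a ha w hw => hw a ha
    have hW0' : LinearMap.BilinForm.orthogonal (polarBilin Q) A ≠ ⊥ := by
      intro h
      apply hAt
      have := hc.sup_eq_top
      rwa [h, sup_bot_eq] at this
    have hsum := Submodule.finrank_add_eq_of_isCompl hc
    rcases Nat.lt_or_ge (Module.finrank F (LinearMap.BilinForm.orthogonal (polarBilin Q) A)) 4 with h4 | h4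
    · have key := orth_split hp.out h5 hG hΓ hx' hRC hgO hgp' hc.symm
        (fun a ha w hw => by rw [polar_comm]; exact hAW w hw a ha) hW' hA' hW0' (by omega)
      obtain ⟨w, hw, hw0⟩ := Submodule.exists_mem_ne_zero_of_ne_bot hAb
      exact hw0 (hno0 w (key w hw))
    · have key := orth_split hp.out h5 hG hΓ hx' hRC hgO hgp' hc hAW hA' hW' hAb h4
      obtain ⟨w, hw, hw0⟩ := Submodule.exists_mem_ne_zero_of_ne_bot hW0'
      exact hw0 (hno0 w (key w hw))
  · -- fixed vectors
    have hsum := Submodule.finrank_add_eq_of_isCompl hcW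
    have hAW : ∀ a ∈ BpCl.W0 g', ∀ w ∈ BpCl.W1 p g', polar Q a w = 0 := fun a ha w hw =>
      (BpCl.bilin_cross (B := polarBilin Q) hform' hpF ha hw).1
    have hA' : ∀ v, g' v ∈ BpCl.W0 g' ↔ v ∈ BpCl.W0 g' :=
      inv_iff (g := g'.toEquiv) fun v hv => BpCl.W0_map (fun _ => rfl) hv
    have hW' : ∀ v, g' v ∈ BpCl.W1 p g' ↔ v ∈ BpCl.W1 p g' :=
      inv_iff (g := g'.toEquiv) fun v hv => BpCl.W1_map (fun _ => rfl) hv
    have key := orth_split hp.out h5 hG hΓ hx' hRC hgO hgp' hcW hAW hA' hW' hfix (by omega)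
    apply hg1
    apply LinearEquiv.ext
    intro v
    exact ext_of_isCompl hcW (a := g'.toLinearMap) (b := LinearMap.id) (fun w hw => BpCl.mem_W0.1 hw)
      (fun w hw => key w hw) v

end Main

end Cfsg.Agent.H952.Rc
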