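import Mathlib
import Cfsg.Agent.H952.RcForm

/-!
# Radical automorphisms of symplectic groups (helper952, for the rows of S3829)
-/

set_option autoImplicit false
set_option linter.unusedSectionVars false

namespace Cfsg.Agent.H952.Rc

open Subgroup Cfsg Cfsg.Agent.H459.Rad Cfsg.Agent.H459.Iface
open Cfsg.Agent.BpCl (Semi SemiIso Iso mem_Iso)
open Cfsg.Agent.ClassicalGeometry.SympBasic Cfsg.Agent.ClassicalGeometry.SympAutSemi

universe u v

/-! ### `NoRad` for symplectic groups -/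

theorem sq_center {F : Type*} [Field F] {m : ℕ} {z : Matrix.symplecticGroup (Fin m) F}
    (hz : z ∈ center ↥(Matrix.symplecticGroup (Fin m) F)) : z ^ 2 = 1 := by
  obtain ⟨a, ha⟩ := (LieClassical.SympCenter.mem_center_iff m z).1 hz
  have h1 := (SymplecticGroup.mem_iff).1 z.2
  rw [ha, Matrix.transpose_smul, Matrix.transpose_one, smul_mul_assoc, one_mul, mul_smul_comm, mul_one, smul_smul] at h1
  apply Subtype.ext
  change (z ^ 2).1 = 1
  have h2 : (z ^ 2).1 = z.1 * z.1 := by rw [pow_two]; rfl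
  rw [h2, ha, smul_mul_smul_comm, mul_one]
  have h3 : (a * a) • (Matrix.J (Fin m) F * Matrix.J (Fin m) F) = Matrix.J (Fin m) F * Matrix.J (Fin m) F := by
    rw [← smul_mul_assoc, h1]
  rw [Matrix.J_squared, smul_neg, neg_inj] at h3
  exact h3

theorem noRad_symplectic {F : Type*} [Field F] [Finite F] {p : ℕ} (hp : p.Prime) (h5 : 5 ≤ p) (m : ℕ) :
    NoRad p ↥(Matrix.symplecticGroup (Fin m) F) := by
  have := Fintype.ofFinite F
  have hodd : Odd p := hp.odd_of_ne_two (by omega)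
  by_cases h : 3 ≤ m ∨ (m = 2 ∧ 3 ≤ Fintype.card F) ∨ 4 ≤ Fintype.card F
  · have hperf := LieClassical.SympPerfect.commutator_eq_top h
    have hgen : transvGroup m F = ⊤ := Cfsg.Agent.S0765.result m
    refine NoRad.of_dichotomy hodd hperf (fun z hz => sq_center hz) fun N hN => ?_
    by_cases hle : N ≤ center _
    · exact Or.inl hle
    · right
      rw [eq_top_iff, ← hperf]
      exact LieClassical.SympSimple.commutator_le_of_not_le_center hgen N hle
  push Not at h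
  obtain ⟨h1, h2, h3⟩ := h
  have hq : 2 ≤ Fintype.card F := Fintype.one_lt_card
  have hcard := LieClassical.SympCount.card_symplecticGroup (F := F) m
  rcases Nat.lt_or_ge m 2 with hm | hm
  · apply NoRad.of_not_dvd hp
    have h24 : ¬ p ∣ 24 := by
      intro h
      have h4 : p ∣ 2 ^ 3 * 3 := by simpa using h
      rcases (Nat.Prime.dvd_mul hp).1 h4 with h5' | h5'
      · have := Nat.le_of_dvd (by norm_num) (hp.dvd_of_dvd_pow h5')
        omega
      · have := Nat.le_of_dvd (by norm_num) h5'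
        omega
    have h6 : ¬ p ∣ 6 := fun h => h24 (h.trans (by norm_num))
    interval_cases m
    · rw [hcard]; simp [hp.one_lt.ne']
    · rw [hcard]
      generalize Fintype.card F = q at *
      interval_cases q
      · simpa using h6
      · simpa using h24
  · have hm2 : m = 2 := by omega
    subst hm2
    have hq2 : Fintype.card F = 2 := by have := h2 rfl; omega
    obtain ⟨e⟩ := LieClassical.SpFourTwo.nonempty_equiv_perm hq2
    refine NoRad.congr e.symm ?_
    have hs : IsSimpleGroup (alternatingGroup (Fin 6)) := alternatingGroup.isSimpleGroup (by simp)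
    refine noRad_of_subgroup (L := alternatingGroup (Fin 6)) ?_ ?_
    · intro N hN hsol y hy hyp
      rcases hN.eq_bot_or_eq_top with h | h
      · rw [h, mem_bot] at hy
        exact hy
      · subst h
        exfalso
        have h4 : Group.IsSolvable ↥(alternatingGroup (Fin 6)) :=
          Group.isSolvable_of_surjective (f := (⊤ : Subgroup ↥(alternatingGroup (Fin 6))).subtype)
            fun g => ⟨⟨g, mem_top g⟩, rfl⟩
        have h5 : Group.IsSolvable (Equiv.Perm (Fin 6)) := by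
          have h6 : Group.IsSolvable ↥(Equiv.Perm.sign (α := Fin 6)).ker := h4
          exact Group.isSolvable_of_ker_le_range (f := (Equiv.Perm.sign (α := Fin 6)).ker.subtype)
            (g := Equiv.Perm.sign (α := Fin 6)) (by rw [range_subtype])
        exact Equiv.Perm.not_isSolvable (Fin 6) (by simp; norm_num) h5
    · intro y hy
      rw [Equiv.Perm.mem_alternatingGroup]
      have h4 : Equiv.Perm.sign y ^ p = 1 := by rw [← map_pow, hy, map_one]
      exact eq_one_of_two hodd (Int.units_sq _) h4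

/-! ### the symplectic group of a form -/

section Main

variable {F : Type u} {V : Type v} [Field F] [AddCommGroup V] [Module F V] {B : LinearMap.BilinForm F V}

theorem tv_aux {u : V} (hu : B u u = 0) (v : V) : B (B v u • u) u = 0 := by
  rw [map_smul, LinearMap.smul_apply, hu, smul_zero]

/-- the transvection `v ↦ v + B(v, u) u` -/
def tv (B : LinearMap.BilinForm F V) (u : V) (hu : B u u = 0) : V ≃ₗ[F] V where
  toFun v := v + B v u • u
  invFun v := v - B v u • u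
  map_add' v w := by rw [map_add, LinearMap.add_apply, add_smul]; abel
  map_smul' a v := by
    rw [map_smul, LinearMap.smul_apply, RingHom.id_apply, smul_add, smul_eq_mul, mul_smul]
  left_inv v := by
    change v + B v u • u - B (v + B v u • u) u • u = v
    rw [map_add, LinearMap.add_apply, tv_aux hu, add_zero, add_sub_cancel_right]
  right_inv v := by
    change v - B v u • u + B (v - B v u • u) u • u = v
    rw [map_sub, LinearMap.sub_apply, tv_aux hu, sub_zero, sub_add_cancel]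

theorem tv_apply {u : V} (hu : B u u = 0) (v : V) : tv B u hu v = v + B v u • u := rfl

variable {Γ : Subgroup (V ≃ₗ[F] V)}

theorem swap (hA : B.IsAlt) (u v : V) : B u v = -B v u := (LinearMap.IsAlt.neg hA v u).symm

theorem exists_ne_sp (hA : B.IsAlt) (hnd : ∀ u, (∀ v, B u v = 0) → u = 0) {u : V} (hu : u ≠ 0) : ∃ v, B v u ≠ 0 := by
  by_contra hcon
  push Not at hcon
  apply hu
  apply hnd
  intro v
  rw [swap hA, hcon v, neg_zero]

theorem tv_mem (hA : B.IsAlt) (hΓ : ∀ h : V ≃ₗ[F] V, h ∈ Γ ↔ ∀ u v, B (h u) (h v) = B u v) (u : V) :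
    tv B u (hA u) ∈ Γ := by
  rw [hΓ]
  intro v w
  rw [tv_apply, tv_apply]
  simp only [map_add, map_smul, LinearMap.add_apply, LinearMap.smul_apply, smul_eq_mul]
  have h1 : B u u = 0 := hA u
  have h2 := swap hA u w
  rw [h1, h2]
  ring

theorem center_scalar_sp (hA : B.IsAlt) (hnd : ∀ u, (∀ v, B u v = 0) → u = 0)
    (hΓ : ∀ h : V ≃ₗ[F] V, h ∈ Γ ↔ ∀ u v, B (h u) (h v) = B u v) {z : ↥Γ} (hz : z ∈ center ↥Γ) (u : V) :
    ∃ c : F, z.1 u = c • u := by
  by_cases hu : u = 0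
  · exact ⟨0, by rw [hu, map_zero, smul_zero]⟩
  obtain ⟨v, hv⟩ := exists_ne_sp hA hnd hu
  have h1 := mem_center_iff.1 hz ⟨_, tv_mem hA hΓ u⟩
  have h2 : tv B u (hA u) (z.1 v) = z.1 (tv B u (hA u) v) :=
    LinearEquiv.congr_fun (congrArg Subtype.val h1) v
  rw [tv_apply, tv_apply, map_add, map_smul, add_right_inj] at h2
  refine ⟨(B v u)⁻¹ * B (z.1 v) u, ?_⟩
  rw [mul_smul, h2, smul_smul, inv_mul_cancel₀ hv, one_smul]

theorem tv_not_mem_center (hA : B.IsAlt) (hnd : ∀ u, (∀ v, B u v = 0) → u = 0)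
    (hΓ : ∀ h : V ≃ₗ[F] V, h ∈ Γ ↔ ∀ u v, B (h u) (h v) = B u v) {u : V} (hu : u ≠ 0) :
    (⟨_, tv_mem hA hΓ u⟩ : ↥Γ) ∉ center ↥Γ := by
  intro hz
  obtain ⟨v, hv⟩ := exists_ne_sp hA hnd hu
  obtain ⟨c, hc⟩ := center_scalar_sp hA hnd hΓ hz v
  change tv B u (hA u) v = c • v at hc
  rw [tv_apply] at hc
  have h1 : B (v + B v u • u) u = B (c • v) u := by rw [hc]
  rw [map_add, LinearMap.add_apply, tv_aux (hA u), add_zero, map_smul, LinearMap.smul_apply, smul_eq_mul] at h1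
  have hc1 : c = 1 := by
    have h3 : (c - 1) * B v u = 0 := by rw [sub_mul, one_mul, ← h1, sub_self]
    rcases mul_eq_zero.1 h3 with h4 | h4
    · exact sub_eq_zero.1 h4
    · exact absurd h4 hv
  rw [hc1, one_smul, add_eq_left] at hc
  rcases smul_eq_zero.1 hc with h4 | h4
  · exact hv h4
  · exact hu h4

theorem sp_ne_top (hA : B.IsAlt) (hnd : ∀ u, (∀ v, B u v = 0) → u = 0)
    (hΓ : ∀ h : V ≃ₗ[F] V, h ∈ Γ ↔ ∀ u v, B (h u) (h v) = B u v) {A W : Submodule F V} (hc : IsCompl A W)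
    (hAW : ∀ a ∈ A, ∀ w ∈ W, B a w = 0) (hA0 : A ≠ ⊥) (hW0 : W ≠ ⊥) :
    (FixW Γ A W).map (QuotientGroup.mk' (center ↥Γ)) ≠ ⊤ := by
  intro htop
  obtain ⟨a, ha, ha0⟩ := Submodule.exists_mem_ne_zero_of_ne_bot hA0
  obtain ⟨w, hw, hw0⟩ := Submodule.exists_mem_ne_zero_of_ne_bot hW0
  -- `a'` in `A` not orthogonal to `a`
  obtain ⟨a', ha', haa⟩ : ∃ a' ∈ A, B a' a ≠ 0 := by
    obtain ⟨v, hv⟩ := exists_ne_sp hA hnd ha0
    obtain ⟨s, hs, t, ht, rfl⟩ := Submodule.mem_sup.1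
      (show v ∈ A ⊔ W by rw [hc.sup_eq_top]; exact Submodule.mem_top)
    refine ⟨s, hs, ?_⟩
    rw [map_add, LinearMap.add_apply, swap hA t a, hAW a ha t ht, neg_zero, add_zero] at hv
    exact hv
  have h1 : QuotientGroup.mk' (center ↥Γ) ⟨_, tv_mem hA hΓ (a + w)⟩ ∈
      (FixW Γ A W).map (QuotientGroup.mk' (center ↥Γ)) := by rw [htop]; exact mem_top _
  obtain ⟨h, hh, heq⟩ := h1
  have h2 : h⁻¹ * ⟨_, tv_mem hA hΓ (a + w)⟩ ∈ center ↥Γ := QuotientGroup.eq.1 heq
  obtain ⟨c, hc'⟩ := center_scalar_sp hA hnd hΓ h2 a'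
  have h3 : tv B (a + w) (hA _) a' = h.1 (c • a') := by
    rw [← hc']
    change _ = h.1 ((h⁻¹).1 (tv B (a + w) (hA _) a'))
    exact (h.1.apply_symm_apply _).symm
  rw [hh.1 _ (A.smul_mem c ha'), tv_apply] at h3
  have h4 : B a' (a + w) = B a' a := by rw [map_add, hAW a' ha' w hw, add_zero]
  rw [h4] at h3
  have h5 : B a' a • w = c • a' - a' - B a' a • a := by
    rw [← h3, smul_add]
    abel
  have h6 : B a' a • w ∈ A := by
    rw [h5]
    exact A.sub_mem (A.sub_mem (A.smul_mem c ha') ha') (A.smul_mem _ ha)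
  have h7 : w ∈ A := (Submodule.smul_mem_iff A haa).1 h6
  exact hw0 (Submodule.disjoint_def.1 hc.disjoint w h7 hw)

theorem noRad_sp [Finite F] [FiniteDimensional F V] {p : ℕ} (hp : p.Prime) (h5 : 5 ≤ p) (hA : B.IsAlt)
    (hnd : ∀ u, (∀ v, B u v = 0) → u = 0)
    (hΓ : ∀ h : V ≃ₗ[F] V, h ∈ Γ ↔ ∀ u v, B (h u) (h v) = B u v) {A W : Submodule F V} (hc : IsCompl A W)
    (hAW : ∀ a ∈ A, ∀ w ∈ W, B a w = 0) : NoRad p ↥(FixW Γ A W) := by
  have hWA : ∀ w ∈ W, ∀ a ∈ A, B w a = 0 := fun w hw a ha => by rw [swap hA, hAW a ha w hw, neg_zero]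
  let B' : LinearMap.BilinForm F W := B.restrict W
  have hB' : ∀ u v : W, B' u v = B u v := fun _ _ => rfl
  have hA' : B'.IsAlt := fun u => hA u
  have hnd' : ∀ u, (∀ v, B' u v = 0) → u = 0 := by
    intro u hu
    apply Subtype.ext
    apply hnd
    intro v
    obtain ⟨s, hs, t, ht, rfl⟩ := Submodule.mem_sup.1
      (show v ∈ A ⊔ W by rw [hc.sup_eq_top]; exact Submodule.mem_top)
    rw [map_add, hWA u u.2 s hs, zero_add]
    exact hu ⟨t, ht⟩
  have hr : (resW Γ A W).range = Iso (fun u v : W => B' u v) := by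
    apply le_antisymm
    · rintro _ ⟨h, rfl⟩ u v
      exact (hΓ h.1.1).1 h.1.2 u v
    · intro T hT
      obtain ⟨h, h1, h2⟩ := exists_ext hc T
      refine mem_range_resW hc ?_ h1 h2
      rw [hΓ]
      intro v v'
      obtain ⟨s, hs, t, ht, rfl⟩ := Submodule.mem_sup.1
        (show v ∈ A ⊔ W by rw [hc.sup_eq_top]; exact Submodule.mem_top)
      obtain ⟨s', hs', t', ht', rfl⟩ := Submodule.mem_sup.1
        (show v' ∈ A ⊔ W by rw [hc.sup_eq_top]; exact Submodule.mem_top)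
      have h3 : h t = T ⟨t, ht⟩ := h2 ⟨t, ht⟩
      have h4 : h t' = T ⟨t', ht'⟩ := h2 ⟨t', ht'⟩
      have h5 : B (T ⟨t, ht⟩ : V) (T ⟨t', ht'⟩ : V) = B t t' := hT ⟨t, ht⟩ ⟨t', ht'⟩
      simp only [map_add, LinearMap.add_apply]
      rw [h1 s hs, h1 s' hs', h3, h4, h5, hAW s hs _ (T ⟨t', ht'⟩).2, hWA _ (T ⟨t, ht⟩).2 s' hs', hAW s hs t' ht',
        hWA t ht s' hs']
  obtain ⟨k, e, he⟩ := Cfsg.Agent.BpCl.exists_coords hA' hnd'
  obtain ⟨f⟩ := Cfsg.Agent.BpCl.nonempty_symp e he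
  have h6 : NoRad p ↥(resW Γ A W).range := by
    rw [hr]
    exact (noRad_symplectic hp h5 k).congr f
  exact h6.congr (MonoidHom.ofInjective (resW_injective hc)).symm

/-- **Symplectic groups**, the semilinear isometry normalised. -/
theorem sp_norm [Finite F] [FiniteDimensional F V] [Nontrivial V] {r p : ℕ} [hr : Fact r.Prime] [hp : Fact p.Prime]
    [CharP F r] (h5 : 5 ≤ p) (hpF : (p : F) ≠ 0) (hA : B.IsAlt) (hnd : ∀ u, (∀ v, B u v = 0) → u = 0)
    (hΓ : ∀ h : V ≃ₗ[F] V, h ∈ Γ ↔ ∀ u v, B (h u) (h v) = B u v) {x : MulAut (↥Γ ⧸ center ↥Γ)}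
    {g : Equiv.Perm V} {φ : F ≃+* F} (hg : SemiIso (fun u v => B u v) φ 1 g) (hgp : g ^ p = 1)
    (hφ : ∀ a, φ^[p] a = a) (hx : Comp x g) (hx1 : x ≠ 1) (hRC : RC x) : FixR r x ∨ Cyc p x := by
  have hVf : Finite V := Module.finite_of_finite F
  have hf0 : Finite (V ≃ₗ[F] V) := Finite.of_injective (fun h : V ≃ₗ[F] V => (h : V → V)) DFunLike.coe_injective
  have hform : ∀ u v, B (g u) (g v) = φ (B u v) := fun u v => by
    have := hg.form u v
    rwa [one_mul] at this
  -- a totally isotropic invariant subspace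
  have hts : ∀ U : Submodule F V, U ≠ ⊥ → (∀ u ∈ U, g u ∈ U) → (∀ u ∈ U, ∀ v ∈ U, B u v = 0) → FixR r x := by
    intro U hU0 hU hUU
    obtain ⟨u, hu, hu0⟩ := Submodule.exists_mem_ne_zero_of_ne_bot hU0
    have hU' := inv_iff hU
    refine hx.fixR_unip hg.add (U := U) (P := B.orthogonal U) (fun v hv w hw => hUU w hw v hv) hU'
      (orth_iff hform hU') ⟨_, tv_mem hA hΓ u⟩ ?_ (tv_not_mem_center hA hnd hΓ hu0)
    refine ⟨fun v hv => ?_, fun v hv => ?_, fun v => ?_⟩
    · change tv B u (hA u) v = v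
      rw [tv_apply, hUU v hv u hu, zero_smul, add_zero]
    · change tv B u (hA u) v - v ∈ U
      rw [tv_apply, add_sub_cancel_left]
      exact U.smul_mem _ hu
    · change tv B u (hA u) v - v ∈ B.orthogonal U
      rw [tv_apply, add_sub_cancel_left]
      exact Submodule.smul_mem _ _ (fun w hw => hUU w hw u hu)
  by_cases hfix : ∃ u : V, u ≠ 0 ∧ g u = u
  · left
    obtain ⟨u, hu0, hu⟩ := hfix
    refine hts (Submodule.span F {u}) ?_ (fun v hv => (span_inv hg.toSemi hu v).2 hv) ?_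
    · rw [Ne, Submodule.span_singleton_eq_bot]
      exact hu0
    · intro v hv w hw
      obtain ⟨a, rfl⟩ := Submodule.mem_span_singleton.1 hv
      obtain ⟨b, rfl⟩ := Submodule.mem_span_singleton.1 hw
      rw [map_smul, map_smul, LinearMap.smul_apply, hA u, smul_zero, smul_zero]
  by_cases hφ1 : φ = RingEquiv.refl F
  swap
  · exact absurd (exists_fixed hp.out hg.toSemi hgp hφ hφ1) hfix
  subst hφ1
  obtain ⟨g', hg'⟩ := Cfsg.Agent.BpCl.exists_linear hg.toSemi
  have hgg : ∀ v, g v = g' v := fun v => by rw [← hg']; rfl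
  have hform' : ∀ u v, B (g' u) (g' v) = B u v := fun u v => by rw [← hgg, ← hgg, hform]; rfl
  have hg'Γ : g' ∈ Γ := (hΓ g').2 hform'
  have hx' : Comp x g'.toEquiv := by rw [hg']; exact hx
  have hgp' : g' ^ p = 1 := by
    apply LinearEquiv.ext
    intro v
    rw [Cfsg.Agent.BpCl.lin_pow, hg', hgp]
    rfl
  have hg1 : g' ≠ 1 := by
    intro h
    obtain ⟨u, hu⟩ := exists_ne (0 : V)
    apply hfix
    exact ⟨u, hu, by rw [hgg, h]; rfl⟩
  by_cases hirr : ∀ U : Submodule F V, (∀ v ∈ U, g' v ∈ U) → U = ⊥ ∨ U = ⊤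
  · right
    exact hx'.cyc hg'Γ hpF hgp' hg1 hirr
  push Not at hirr
  obtain ⟨A, hgA, hAb, hAt⟩ := hirr
  left
  by_contra hno
  have hrefl : B.IsRefl := hA.isRefl
  have hA' : ∀ v, g' v ∈ A ↔ v ∈ A := inv_iff (g := g'.toEquiv) hgA
  have hW' : ∀ v, g' v ∈ B.orthogonal A ↔ v ∈ B.orthogonal A :=
    orth_iff (g := g'.toEquiv) (φ := RingEquiv.refl F) hform' hA'
  have hdisj : Disjoint A (B.orthogonal A) := by
    rw [disjoint_iff]
    by_contra hne
    apply hno
    refine hts _ hne ?_ ?_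
    · rintro u ⟨hu1, hu2⟩
      rw [hgg]
      exact ⟨(hA' u).2 hu1, (hW' u).2 hu2⟩
    · rintro u ⟨hu1, hu2⟩ v ⟨hv1, hv2⟩
      exact hv2 u hu1
  have hc : IsCompl A (B.orthogonal A) := (LinearMap.BilinForm.isCompl_orthogonal_iff_disjoint hrefl).2 hdisj
  have hAW : ∀ a ∈ A, ∀ w ∈ B.orthogonal A, B a w = 0 := fun a ha w hw => hw a ha
  have hW0 : B.orthogonal A ≠ ⊥ := by
    intro h
    apply hAt
    have := hc.sup_eq_top
    rwa [h, sup_bot_eq] at this
  obtain ⟨y, hy1, hy2⟩ := exists_part hc hW'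
  have hyΓ : y ∈ Γ := by
    rw [hΓ]
    intro v v'
    obtain ⟨s, hs, t, ht, rfl⟩ := Submodule.mem_sup.1
      (show v ∈ A ⊔ B.orthogonal A by rw [hc.sup_eq_top]; exact Submodule.mem_top)
    obtain ⟨s', hs', t', ht', rfl⟩ := Submodule.mem_sup.1
      (show v' ∈ A ⊔ B.orthogonal A by rw [hc.sup_eq_top]; exact Submodule.mem_top)
    have hWA : ∀ w ∈ B.orthogonal A, ∀ a ∈ A, B w a = 0 := fun w hw a ha => by
      rw [swap hA, hAW a ha w hw, neg_zero]
    simp only [map_add, LinearMap.add_apply]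
    rw [hy1 s hs, hy1 s' hs', hy2 t ht, hy2 t' ht', hform', hAW s hs _ ((hW' t').2 ht'),
      hWA _ ((hW' t).2 ht) s' hs', hAW s hs t' ht', hWA t ht s' hs']
  have key := hx'.eq_one_of_noRad hRC hc hA' hW' hgp' ⟨y, hyΓ⟩ hy1 hy2
    (sp_ne_top hA hnd hΓ hc hAW hAb hW0) (noRad_sp hp.out h5 hA hnd hΓ hc hAW)
  obtain ⟨w, hw, hw0⟩ := Submodule.exists_mem_ne_zero_of_ne_bot hW0
  exact hfix ⟨w, hw0, by rw [hgg]; exact key w hw⟩

end Main

end Cfsg.Agent.H952.Rc
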