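import Mathlib

/-!
Elementary geometry of alternating forms on subspaces of a fixed finite-dimensional space:
non-degenerate subspaces, orthogonal families, invariant subspaces of isometries.
-/

set_option autoImplicit false

namespace Cfsg.Agent.H952.Alt

open Module Submodule

variable {F V : Type*} [Field F] [AddCommGroup V] [Module F V]

/-- The form `B` is non-degenerate on the subspace `W`. -/
def Nd (B : LinearMap.BilinForm F V) (W : Submodule F V) : Prop :=
  ∀ u ∈ W, u ≠ 0 → ∃ v ∈ W, B u v ≠ 0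

/-- `W` is totally isotropic. -/
def TI (B : LinearMap.BilinForm F V) (W : Submodule F V) : Prop :=
  ∀ u ∈ W, ∀ v ∈ W, B u v = 0

/-- `W` is mapped into itself by `x`. -/
def Inv (x : Module.End F V) (W : Submodule F V) : Prop := ∀ v ∈ W, x v ∈ W

section basic

variable {B : LinearMap.BilinForm F V}

theorem swap (hA : B.IsAlt) (u v : V) : B u v = - B v u := (hA.neg_eq v u).symm

theorem eq_zero_swap (hA : B.IsAlt) {u v : V} (h : B u v = 0) : B v u = 0 := by
  rw [swap hA, h, neg_zero]

theorem ne_zero_swap (hA : B.IsAlt) {u v : V} (h : B u v ≠ 0) : B v u ≠ 0 := by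
  rw [swap hA]; exact neg_ne_zero.2 h

theorem mem_orth (hA : B.IsAlt) {W : Submodule F V} {v : V} :
    v ∈ B.orthogonal W ↔ ∀ u ∈ W, B v u = 0 := by
  rw [LinearMap.BilinForm.mem_orthogonal_iff]
  exact ⟨fun h u hu => eq_zero_swap hA (h u hu), fun h u hu => eq_zero_swap hA (h u hu)⟩

theorem Nd.disjoint (hA : B.IsAlt) {W : Submodule F V} (hW : Nd B W) :
    Disjoint W (B.orthogonal W) := by
  rw [Submodule.disjoint_def]
  intro v hv hv'
  by_contra h0
  obtain ⟨u, hu, hne⟩ := hW v hv h0
  exact hne ((mem_orth hA).1 hv' u hu)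

theorem Nd.of_disjoint (hA : B.IsAlt) {W : Submodule F V} (h : Disjoint W (B.orthogonal W)) :
    Nd B W := by
  intro u hu h0
  by_contra hne
  push Not at hne
  exact h0 ((Submodule.disjoint_def.1 h) u hu ((mem_orth hA).2 hne))

theorem Nd.bot : Nd B (⊥ : Submodule F V) := by
  intro u hu h0
  exact absurd ((Submodule.mem_bot F).1 hu) h0

theorem Nd.sup (hA : B.IsAlt) {W W' : Submodule F V} (hW : Nd B W) (hW' : Nd B W')
    (ho : ∀ u ∈ W, ∀ v ∈ W', B u v = 0) : Nd B (W ⊔ W') := by
  intro v hv h0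
  obtain ⟨a, ha, b, hb, rfl⟩ := Submodule.mem_sup.1 hv
  by_cases ha0 : a = 0
  · have hb0 : b ≠ 0 := by
      rintro rfl
      exact h0 (by rw [ha0, add_zero])
    obtain ⟨c, hc, hne⟩ := hW' b hb hb0
    refine ⟨c, Submodule.mem_sup_right hc, ?_⟩
    rw [ha0, zero_add]
    exact hne
  · obtain ⟨c, hc, hne⟩ := hW a ha ha0
    refine ⟨c, Submodule.mem_sup_left hc, ?_⟩
    rw [map_add, LinearMap.add_apply, eq_zero_swap hA (ho c hc b hb), add_zero]
    exact hne

theorem disjoint_of_orth (hA : B.IsAlt) {W W' : Submodule F V} (hW : Nd B W)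
    (ho : ∀ u ∈ W, ∀ v ∈ W', B u v = 0) : Disjoint W W' := by
  rw [Submodule.disjoint_def]
  intro v hv hv'
  by_contra h0
  obtain ⟨u, hu, hne⟩ := hW v hv h0
  exact hne (eq_zero_swap hA (ho u hu v hv'))

/-- A hyperbolic plane. -/
theorem Nd.pair (hA : B.IsAlt) {u w : V} (h : B u w ≠ 0) : Nd B (span F {u, w}) := by
  intro v hv h0
  obtain ⟨a, b, rfl⟩ := Submodule.mem_span_pair.1 hv
  by_cases ha : a = 0
  · have hb : b ≠ 0 := by
      rintro rfl
      exact h0 (by rw [ha, zero_smul, zero_smul, add_zero])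
    refine ⟨u, Submodule.subset_span (by simp), ?_⟩
    simp only [map_add, map_smul, LinearMap.add_apply, LinearMap.smul_apply, smul_eq_mul,
      hA.self_eq_zero, mul_zero, zero_add]
    exact mul_ne_zero hb (ne_zero_swap hA h)
  · refine ⟨w, Submodule.subset_span (by simp), ?_⟩
    simp only [map_add, map_smul, LinearMap.add_apply, LinearMap.smul_apply, smul_eq_mul,
      hA.self_eq_zero, mul_zero, add_zero]
    exact mul_ne_zero ha h

theorem finrank_pair (hA : B.IsAlt) {u w : V} (h : B u w ≠ 0) :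
    finrank F (span F {u, w} : Submodule F V) = 2 := by
  have hli : LinearIndependent F ![u, w] := by
    rw [LinearIndependent.pair_iff]
    intro s t hst
    have h1 : B (s • u + t • w) w = 0 := by rw [hst, map_zero, LinearMap.zero_apply]
    have h2 : B (s • u + t • w) u = 0 := by rw [hst, map_zero, LinearMap.zero_apply]
    simp only [map_add, map_smul, LinearMap.add_apply, LinearMap.smul_apply, smul_eq_mul,
      hA.self_eq_zero, mul_zero, add_zero, zero_add] at h1 h2
    exact ⟨(mul_eq_zero.1 h1).resolve_right h, (mul_eq_zero.1 h2).resolve_right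
      (ne_zero_swap hA h)⟩
  have := finrank_span_eq_card hli
  rw [Matrix.range_cons, Matrix.range_cons, Matrix.range_empty, Set.union_empty,
    Set.singleton_union, Fintype.card_fin] at this
  exact this

end basic

section split

variable [FiniteDimensional F V] {B : LinearMap.BilinForm F V}

theorem Nd.isCompl (hA : B.IsAlt) {W : Submodule F V} (hW : Nd B W) :
    IsCompl W (B.orthogonal W) :=
  (LinearMap.BilinForm.isCompl_orthogonal_iff_disjoint hA.isRefl).2 (hW.disjoint hA)

theorem split_sup (hA : B.IsAlt) {W E : Submodule F V} (hE : Nd B E) (hEW : E ≤ W) :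
    E ⊔ (W ⊓ B.orthogonal E) = W := by
  apply le_antisymm (sup_le hEW inf_le_left)
  intro v hv
  have : v ∈ E ⊔ B.orthogonal E := by
    rw [(hE.isCompl hA).sup_eq_top]; exact Submodule.mem_top
  obtain ⟨a, ha, b, hb, rfl⟩ := Submodule.mem_sup.1 this
  have hbW : b ∈ W := by
    have := Submodule.sub_mem _ hv (hEW ha)
    rwa [add_sub_cancel_left] at this
  exact Submodule.add_mem_sup ha ⟨hbW, hb⟩

theorem split_orth (hA : B.IsAlt) {W E : Submodule F V} :
    ∀ u ∈ E, ∀ v ∈ W ⊓ B.orthogonal E, B u v = 0 := fun u hu v hv =>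
  eq_zero_swap hA ((mem_orth hA).1 hv.2 u hu)

theorem split_nd (hA : B.IsAlt) {W E : Submodule F V} (hW : Nd B W) (hE : Nd B E)
    (hEW : E ≤ W) : Nd B (W ⊓ B.orthogonal E) := by
  intro v hv h0
  obtain ⟨w, hw, hne⟩ := hW v hv.1 h0
  rw [← split_sup hA hE hEW] at hw
  obtain ⟨a, ha, b, hb, rfl⟩ := Submodule.mem_sup.1 hw
  refine ⟨b, hb, ?_⟩
  rw [map_add, (mem_orth hA).1 hv.2 a ha, zero_add] at hne
  exact hne

theorem split_finrank (hA : B.IsAlt) {W E : Submodule F V} (hE : Nd B E)
    (hEW : E ≤ W) : finrank F E + finrank F (W ⊓ B.orthogonal E : Submodule F V) =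
      finrank F W := by
  have h1 := Submodule.finrank_sup_add_finrank_inf_eq E (W ⊓ B.orthogonal E)
  rw [split_sup hA hE hEW, (disjoint_of_orth hA hE (split_orth hA)).eq_bot, finrank_bot] at h1
  omega

theorem Inv.map_eq {x : Module.End F V} (hinj : Function.Injective x) {W : Submodule F V}
    (hW : Inv x W) : W.map x = W := by
  apply Submodule.eq_of_le_of_finrank_eq
  · rw [Submodule.map_le_iff_le_comap]; exact hW
  · exact (Submodule.equivMapOfInjective x hinj W).symm.finrank_eq

theorem Inv.of_map_eq {x : Module.End F V} {W : Submodule F V}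
    (hW : W.map x = W) : Inv x W := fun v hv => by
  have := Submodule.mem_map_of_mem (f := x) hv
  rwa [hW] at this

theorem split_inv (hA : B.IsAlt) {x : Module.End F V} (hinj : Function.Injective x)
    (hx : ∀ u v, B (x u) (x v) = B u v) {W E : Submodule F V} (hW : Inv x W) (hE : Inv x E) :
    Inv x (W ⊓ B.orthogonal E) := by
  intro v hv
  refine ⟨hW v hv.1, ?_⟩
  rw [SetLike.mem_coe, mem_orth hA]
  intro u hu
  rw [← hE.map_eq hinj] at hu
  obtain ⟨u', hu', rfl⟩ := hu
  rw [hx]
  exact (mem_orth hA).1 hv.2 u' hu'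

omit [FiniteDimensional F V] in
theorem Inv.sup {x : Module.End F V} {W W' : Submodule F V} (hW : Inv x W) (hW' : Inv x W') :
    Inv x (W ⊔ W') := by
  intro v hv
  obtain ⟨a, ha, b, hb, rfl⟩ := Submodule.mem_sup.1 hv
  rw [map_add]
  exact Submodule.add_mem_sup (hW a ha) (hW' b hb)

omit [FiniteDimensional F V] in
theorem Inv.inf {x : Module.End F V} {W W' : Submodule F V} (hW : Inv x W) (hW' : Inv x W') :
    Inv x (W ⊓ W') := fun v hv => ⟨hW v hv.1, hW' v hv.2⟩

/-- In a non-degenerate space, two vectors `u, y` with `u` not a multiple of `y` are separated by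
a vector orthogonal to `y`. -/
theorem exists_sep (hA : B.IsAlt) {W : Submodule F V} (hW : Nd B W) {u y : V} (hu : u ∈ W)
    (hy : y ∈ W) (h : ∀ w ∈ W, B y w = 0 → B u w = 0) : ∃ c : F, u = c • y := by
  by_cases hy0 : y = 0
  · refine ⟨0, ?_⟩
    by_contra hu0
    rw [zero_smul] at hu0
    obtain ⟨w, hw, hne⟩ := hW u hu hu0
    exact hne (h w hw (by rw [hy0, map_zero, LinearMap.zero_apply]))
  · obtain ⟨w1, hw1, hne⟩ := hW y hy hy0
    refine ⟨B u w1 / B y w1, ?_⟩
    by_contra hu0
    obtain ⟨w, hw, hne2⟩ := hW (u - (B u w1 / B y w1) • y)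
      (Submodule.sub_mem _ hu (Submodule.smul_mem _ _ hy)) (sub_ne_zero.2 hu0)
    apply hne2
    have h1 : B u (w - (B y w / B y w1) • w1) = 0 := by
      apply h _ (Submodule.sub_mem _ hw (Submodule.smul_mem _ _ hw1))
      rw [map_sub, map_smul, smul_eq_mul, div_mul_cancel₀ _ hne, sub_self]
    rw [map_sub, map_smul, smul_eq_mul] at h1
    rw [map_sub, map_smul, LinearMap.sub_apply, LinearMap.smul_apply, smul_eq_mul]
    have h2 : B u w = B y w / B y w1 * B u w1 := sub_eq_zero.1 h1
    rw [h2]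
    field_simp
    ring

end split

/-! ### Orthogonal families -/

/-- A pairwise orthogonal family of non-degenerate subspaces. -/
structure OrthFam {ι : Type*} (B : LinearMap.BilinForm F V) (E : ι → Submodule F V) : Prop where
  nd : ∀ i, Nd B (E i)
  orth : ∀ i j, i ≠ j → ∀ u ∈ E i, ∀ v ∈ E j, B u v = 0

section fam

variable {B : LinearMap.BilinForm F V} {ι : Type*} {E : ι → Submodule F V}

theorem orth_iSup {W : Submodule F V} (hA : B.IsAlt) {κ : Sort*} {D : κ → Submodule F V}
    (h : ∀ k, ∀ u ∈ W, ∀ v ∈ D k, B u v = 0) : ∀ u ∈ W, ∀ v ∈ ⨆ k, D k, B u v = 0 := by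
  have h1 : ⨆ k, D k ≤ B.orthogonal W := by
    refine iSup_le fun k v hv => ?_
    rw [mem_orth hA]
    exact fun u hu => eq_zero_swap hA (h k u hu v hv)
  intro u hu v hv
  exact eq_zero_swap hA ((mem_orth hA).1 (h1 hv) u hu)

theorem OrthFam.indep (hA : B.IsAlt) (h : OrthFam B E) : iSupIndep E := by
  intro i
  refine disjoint_of_orth hA (h.nd i) ?_
  refine orth_iSup hA fun j => ?_
  refine orth_iSup hA fun hj => ?_
  exact h.orth i j (Ne.symm hj)

theorem OrthFam.orth_sup (hA : B.IsAlt) (h : OrthFam B E) {i : ι} {s : Finset ι} (hi : i ∉ s) :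
    ∀ u ∈ E i, ∀ v ∈ s.sup E, B u v = 0 := by
  rw [Finset.sup_eq_iSup]
  refine orth_iSup hA fun j => ?_
  refine orth_iSup hA fun hj => ?_
  exact h.orth i j (fun hij => hi (hij ▸ hj))

theorem OrthFam.orth_sup_sup (hA : B.IsAlt) (h : OrthFam B E) {s s' : Finset ι}
    (hs : Disjoint s s') : ∀ u ∈ s.sup E, ∀ v ∈ s'.sup E, B u v = 0 := by
  intro u hu v hv
  have key : ∀ w ∈ s'.sup E, ∀ z ∈ s.sup E, B w z = 0 := by
    rw [Finset.sup_eq_iSup (s := s)]
    refine orth_iSup hA fun j => ?_
    refine orth_iSup hA fun hj => ?_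
    intro w hw z hz
    exact eq_zero_swap hA (h.orth_sup hA (Finset.disjoint_left.1 hs hj) z hz w hw)
  exact eq_zero_swap hA (key v hv u hu)

theorem OrthFam.nd_sup (hA : B.IsAlt) (h : OrthFam B E) (s : Finset ι) : Nd B (s.sup E) := by
  classical
  induction s using Finset.induction_on with
  | empty => rw [Finset.sup_empty]; exact Nd.bot
  | insert i s hi ih =>
    rw [Finset.sup_insert]
    exact (h.nd i).sup hA ih (h.orth_sup hA hi)

theorem OrthFam.finrank_sup (hA : B.IsAlt) [FiniteDimensional F V] (h : OrthFam B E)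
    (s : Finset ι) : finrank F (s.sup E : Submodule F V) = ∑ i ∈ s, finrank F (E i) := by
  classical
  induction s using Finset.induction_on with
  | empty => rw [Finset.sup_empty, finrank_bot, Finset.sum_empty]
  | insert i s hi ih =>
    rw [Finset.sup_insert, Finset.sum_insert hi, ← ih]
    have h1 := Submodule.finrank_sup_add_finrank_inf_eq (E i) (s.sup E)
    rw [(disjoint_of_orth hA (h.nd i) (h.orth_sup hA hi)).eq_bot, finrank_bot] at h1
    omega

end fam

end Cfsg.Agent.H952.Alt
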