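import Mathlib
import Cfsg.Agent.H952.Jordan
import Cfsg.Agent.H952.Alt

/-!
Elements of prime order `r` different from the characteristic acting on a space over a finite
field: fixed points and commutators, dimensions of invariant subspaces, cyclic subspaces.
-/

set_option autoImplicit false

namespace Cfsg.Agent.H952.Semi

open Module Submodule Polynomial
open Cfsg.Agent.H952.Alt (Inv)

variable {F V : Type*} [Field F] [AddCommGroup V] [Module F V] {x : Module.End F V}

theorem Inv.pow {W : Submodule F V} (hW : Inv x W) (k : ℕ) : Inv (x ^ k) W := by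
  induction k with
  | zero => intro v hv; simpa using hv
  | succ k ih =>
    intro v hv
    rw [pow_succ, Module.End.mul_apply]
    exact ih _ (hW v hv)

theorem Inv.aeval {W : Submodule F V} (hW : Inv x W) (g : F[X]) : Inv (aeval x g) W := by
  intro v hv
  rw [aeval_eq_sum_range, LinearMap.sum_apply]
  refine Submodule.sum_mem _ fun k _ => ?_
  rw [LinearMap.smul_apply]
  exact Submodule.smul_mem _ _ (Inv.pow hW k v hv)

theorem mem_ker_sub {v : V} : v ∈ LinearMap.ker (x - 1) ↔ x v = v := by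
  rw [LinearMap.mem_ker, LinearMap.sub_apply, Module.End.one_apply, sub_eq_zero]

theorem eq_zero_of_fixed_comm {r : ℕ} (hx : x ^ r = 1) (hr : (r : F) ≠ 0) {w v : V}
    (hv : x v = v) (hw : x w = w + v) : v = 0 := by
  have h : ∀ k : ℕ, (x ^ k) w = w + (k : F) • v := by
    intro k
    induction k with
    | zero => simp
    | succ k ih =>
      rw [pow_succ', Module.End.mul_apply, ih, map_add, map_smul, hv, hw, Nat.cast_succ, add_smul,
        one_smul, add_assoc, add_comm v]
  have h1 := h r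
  rw [hx, Module.End.one_apply] at h1
  have h2 : (r : F) • v = 0 := by
    have := congrArg (fun y => y - w) h1
    simpa using this.symm
  exact (smul_eq_zero.1 h2).resolve_left hr

theorem disjoint_ker_map {r : ℕ} (hx : x ^ r = 1) (hr : (r : F) ≠ 0) (W : Submodule F V) :
    Disjoint (LinearMap.ker (x - 1)) (W.map (x - 1)) := by
  rw [Submodule.disjoint_def]
  intro v hv hv'
  obtain ⟨w, _, rfl⟩ := hv'
  refine eq_zero_of_fixed_comm hx hr (w := w) (mem_ker_sub.1 hv) ?_
  rw [LinearMap.sub_apply, Module.End.one_apply, add_sub_cancel]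

theorem map_sub_le {W : Submodule F V} (hW : Inv x W) : W.map (x - 1) ≤ W := by
  rintro _ ⟨w, hw, rfl⟩
  rw [LinearMap.sub_apply, Module.End.one_apply]
  exact Submodule.sub_mem _ (hW w hw) hw

theorem inv_map_sub {W : Submodule F V} (hW : Inv x W) : Inv x (W.map (x - 1)) := by
  rintro _ ⟨w, hw, rfl⟩
  refine ⟨x w, hW w hw, ?_⟩
  simp [LinearMap.sub_apply]

theorem inv_inf_ker {W : Submodule F V} (hW : Inv x W) :
    Inv x (W ⊓ LinearMap.ker (x - 1)) := by
  intro v hv
  refine ⟨hW v hv.1, ?_⟩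
  have h := mem_ker_sub.1 hv.2
  rw [h]
  exact hv.2

section fd

variable [FiniteDimensional F V]

theorem finrank_fix_add {W : Submodule F V} :
    finrank F (W ⊓ LinearMap.ker (x - 1) : Submodule F V) + finrank F (W.map (x - 1)) =
      finrank F W := by
  have := Jordan.finrank_map_add (x - 1) W
  rw [inf_comm] at this
  omega

theorem sup_fix_comm {r : ℕ} (hx : x ^ r = 1) (hr : (r : F) ≠ 0) {W : Submodule F V}
    (hW : Inv x W) : (W ⊓ LinearMap.ker (x - 1)) ⊔ W.map (x - 1) = W := by
  apply Submodule.eq_of_le_of_finrank_eq (sup_le inf_le_left (map_sub_le hW))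
  have h1 := Submodule.finrank_sup_add_finrank_inf_eq (W ⊓ LinearMap.ker (x - 1)) (W.map (x - 1))
  have h2 : (W ⊓ LinearMap.ker (x - 1)) ⊓ W.map (x - 1) = ⊥ :=
    ((disjoint_ker_map hx hr W).mono_left inf_le_right).eq_bot
  rw [h2, finrank_bot] at h1
  have h3 := finrank_fix_add (x := x) (W := W)
  omega

/-- Dimensions of invariant subspaces without fixed points. -/
theorem orderOf_dvd_finrank [Fintype F] {r : ℕ} [Fact r.Prime] (hx : x ^ r = 1)
    {W : Submodule F V} (hW : Inv x W) (hfix : W ⊓ LinearMap.ker (x - 1) = ⊥) :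
    orderOf ((Fintype.card F : ℕ) : ZMod r) ∣ finrank F W := by
  classical
  haveI : Finite V := Module.finite_of_finite F
  haveI : Fintype W := Fintype.ofFinite W
  let f : Function.End W := fun w => ⟨x w, hW w w.2⟩
  have hf : ∀ k : ℕ, ∀ w : W, (((f ^ k) w : W) : V) = (x ^ k) (w : V) := by
    intro k
    induction k with
    | zero => intro w; rw [pow_zero, pow_zero]; rfl
    | succ k ih =>
      intro w
      rw [pow_succ, pow_succ, Module.End.mul_apply]
      exact ih (f w)
  have hf1 : f ^ r ^ 1 = 1 := by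
    rw [pow_one]
    funext w
    apply Subtype.ext
    rw [hf, hx]
    rfl
  have h1 := Equiv.Perm.card_fixedPoints_modEq hf1
  have h2 : Fintype.card (Function.fixedPoints f) = 1 := by
    rw [Fintype.card_eq_one_iff]
    refine ⟨⟨0, ?_⟩, ?_⟩
    · apply Subtype.ext
      show x 0 = 0
      exact map_zero x
    · rintro ⟨w, hw⟩
      have hw' : x (w : V) = w := congrArg Subtype.val hw
      have : (w : V) ∈ W ⊓ LinearMap.ker (x - 1) := ⟨w.2, mem_ker_sub.2 hw'⟩
      rw [hfix, Submodule.mem_bot] at this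
      exact Subtype.ext (Subtype.ext this)
  rw [h2, Module.card_eq_pow_finrank (K := F) (V := W)] at h1
  apply orderOf_dvd_of_pow_eq_one
  have h3 := (ZMod.natCast_eq_natCast_iff _ _ r).2 h1
  push_cast at h3
  exact h3

end fd

/-! ### Cyclic subspaces -/

/-- The map `g ↦ g(x) v`. -/
noncomputable def ev (x : Module.End F V) (v : V) : F[X] →ₗ[F] V :=
  (LinearMap.applyₗ v).comp (aeval x).toLinearMap

theorem ev_apply (x : Module.End F V) (v : V) (g : F[X]) : ev x v g = aeval x g v := rfl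

/-- The cyclic subspace generated by `v`. -/
noncomputable def cyc (x : Module.End F V) (v : V) : Submodule F V := LinearMap.range (ev x v)

theorem mem_cyc (x : Module.End F V) (v : V) : v ∈ cyc x v := ⟨1, by simp [ev_apply]⟩

theorem inv_cyc (x : Module.End F V) (v : V) : Inv x (cyc x v) := by
  rintro _ ⟨g, rfl⟩
  refine ⟨X * g, ?_⟩
  rw [ev_apply, ev_apply, map_mul, aeval_X, Module.End.mul_apply]

theorem cyc_le {W : Submodule F V} (hW : Inv x W) {v : V} (hv : v ∈ W) : cyc x v ≤ W := by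
  rintro _ ⟨g, rfl⟩
  exact Inv.aeval hW g v hv

theorem finrank_cyc_le [FiniteDimensional F V] {φ : F[X]} (hφ : φ ≠ 0) {v : V}
    (hv : aeval x φ v = 0) : finrank F (cyc x v) ≤ φ.natDegree := by
  have h : cyc x v ≤ (degreeLT F φ.natDegree).map (ev x v) := by
    rintro _ ⟨g, rfl⟩
    refine ⟨g % φ, ?_, ?_⟩
    · rw [SetLike.mem_coe, mem_degreeLT, ← degree_eq_natDegree hφ]
      exact EuclideanDomain.mod_lt g hφ
    · rw [ev_apply, ev_apply]
      conv_rhs => rw [← EuclideanDomain.div_add_mod g φ]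
      rw [mul_comm φ, map_add, LinearMap.add_apply, map_mul, Module.End.mul_apply, hv, map_zero,
        zero_add]
  have h2 : finrank F (degreeLT F φ.natDegree) = φ.natDegree := by
    rw [(degreeLTEquiv F φ.natDegree).finrank_eq, finrank_fin_fun]
  haveI : FiniteDimensional F (degreeLT F φ.natDegree) :=
    (degreeLTEquiv F φ.natDegree).symm.finiteDimensional
  calc finrank F (cyc x v) ≤ finrank F ((degreeLT F φ.natDegree).map (ev x v)) :=
        Submodule.finrank_mono h
    _ ≤ finrank F (degreeLT F φ.natDegree) := Submodule.finrank_map_le _ _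
    _ = φ.natDegree := h2

/-- Some vector of a non-zero invariant subspace is killed by an irreducible factor of
`X^r - 1`. -/
theorem exists_factor {r : ℕ} (hr0 : 0 < r) (hx : x ^ r = 1) {W : Submodule F V} (hW : Inv x W)
    (hW0 : W ≠ ⊥) : ∃ φ : F[X], Irreducible φ ∧ φ ∣ X ^ r - 1 ∧
      ∃ v ∈ W, v ≠ 0 ∧ aeval x φ v = 0 := by
  have hne : (X ^ r - 1 : F[X]) ≠ 0 := by
    have := X_pow_sub_C_ne_zero hr0 (1 : F)
    simpa using this
  have key : ∀ g : F[X], g ∣ X ^ r - 1 → ∀ v ∈ W, v ≠ 0 → aeval x g v = 0 →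
      ∃ φ : F[X], Irreducible φ ∧ φ ∣ X ^ r - 1 ∧ ∃ v ∈ W, v ≠ 0 ∧ aeval x φ v = 0 := by
    intro g
    induction g using WfDvdMonoid.induction_on_irreducible with
    | zero => intro h; exact absurd (zero_dvd_iff.1 h) hne
    | unit u hu =>
      intro _ v _ hv0 hv
      exfalso
      obtain ⟨u', hu'⟩ := hu.exists_left_inv
      apply hv0
      have : aeval x (u' * u) v = 0 := by rw [map_mul, Module.End.mul_apply, hv, map_zero]
      rwa [hu', map_one, Module.End.one_apply] at this
    | mul a φ ha hφ ih =>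
      intro hdvd v hvW hv0 hv
      by_cases h : aeval x a v = 0
      · exact ih ((Dvd.intro_left _ rfl).trans hdvd) v hvW hv0 h
      · refine ⟨φ, hφ, (Dvd.intro _ rfl).trans hdvd, aeval x a v, Inv.aeval hW a v hvW, h, ?_⟩
        rw [← Module.End.mul_apply, ← map_mul]
        exact hv
  obtain ⟨v, hv, hv0⟩ := Submodule.exists_mem_ne_zero_of_ne_bot hW0
  refine key (X ^ r - 1) dvd_rfl v hv hv0 ?_
  rw [map_sub, map_pow, aeval_X, map_one, hx, sub_self, LinearMap.zero_apply]

/-- Degrees of the irreducible factors of `X^r - 1` over the field with `q` elements. -/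
theorem natDegree_dvd [Fintype F] {r i : ℕ} (hi : r ∣ Fintype.card F ^ i - 1) {φ : F[X]}
    (hφ : Irreducible φ) (hdvd : φ ∣ X ^ r - 1) : φ.natDegree ∣ i := by
  apply hφ.natDegree_dvd_of_dvd_X_pow_card_pow_sub_X
  rw [Nat.card_eq_fintype_card]
  obtain ⟨k, hk⟩ := hi
  have h1 : (X ^ r - 1 : F[X]) ∣ X ^ (Fintype.card F ^ i - 1) - 1 := by
    rw [hk, pow_mul]
    simpa using sub_dvd_pow_sub_pow (X ^ r : F[X]) 1 k
  have h2 : (X ^ Fintype.card F ^ i - X : F[X]) = X * (X ^ (Fintype.card F ^ i - 1) - 1) := by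
    rw [mul_sub, mul_one, ← pow_succ', Nat.sub_add_cancel
      (Nat.one_le_pow _ _ Fintype.card_pos)]
  rw [h2]
  exact hdvd.trans (h1.trans (Dvd.intro_left _ rfl))

/-- `r` divides `q^i - 1` for the order `i` of `q`. -/
theorem dvd_pow_orderOf_sub_one {q r : ℕ} (hq : 0 < q) :
    r ∣ q ^ (orderOf ((q : ℕ) : ZMod r)) - 1 := by
  have h1 : ((q ^ (orderOf ((q : ℕ) : ZMod r)) - 1 : ℕ) : ZMod r) = 0 := by
    rw [Nat.cast_sub (Nat.one_le_pow _ _ hq), Nat.cast_pow, pow_orderOf_eq_one, Nat.cast_one,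
      sub_self]
  exact (ZMod.natCast_eq_zero_iff _ _).1 h1

theorem dvd_pow_sub_one_iff {q r : ℕ} (hq : 0 < q) (n : ℕ) :
    r ∣ q ^ n - 1 ↔ orderOf ((q : ℕ) : ZMod r) ∣ n := by
  rw [orderOf_dvd_iff_pow_eq_one, ← ZMod.natCast_eq_zero_iff,
    Nat.cast_sub (Nat.one_le_pow _ _ hq), Nat.cast_pow, Nat.cast_one, sub_eq_zero]

/-- The cyclic subspace of a vector killed by an irreducible factor. -/
theorem finrank_cyc [FiniteDimensional F V] [Fintype F] {r : ℕ} [Fact r.Prime]
    (hx : x ^ r = 1) (hord : 0 < orderOf ((Fintype.card F : ℕ) : ZMod r))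
    {W : Submodule F V} (hW : Inv x W) (hfix : W ⊓ LinearMap.ker (x - 1) = ⊥) {φ : F[X]}
    (hφ : Irreducible φ) (hdvd : φ ∣ X ^ r - 1) {v : V} (hv : v ∈ W) (hv0 : v ≠ 0)
    (hφv : aeval x φ v = 0) :
    finrank F (cyc x v) = orderOf ((Fintype.card F : ℕ) : ZMod r) := by
  apply le_antisymm
  · exact (finrank_cyc_le hφ.ne_zero hφv).trans (Nat.le_of_dvd hord
      (natDegree_dvd (dvd_pow_orderOf_sub_one Fintype.card_pos) hφ hdvd))
  · apply Nat.le_of_dvd
    · rw [Module.finrank_pos_iff_exists_ne_zero]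
      exact ⟨⟨v, mem_cyc x v⟩, fun h => hv0 (congrArg Subtype.val h)⟩
    · apply orderOf_dvd_finrank hx (inv_cyc x v)
      rw [eq_bot_iff, ← hfix]
      exact inf_le_inf_right _ (cyc_le hW hv)

end Cfsg.Agent.H952.Semi
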