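import Mathlib

/-!
Counting orbits: the number of elements of an orbit divides the group order; free actions of the
symmetric group on injective families.
-/

set_option autoImplicit false

namespace Cfsg.Agent.H952.CountGen

/-- Orbit-stabiliser for an action given by a function. -/
theorem card_orbit {G X : Type*} [Group G] (act : G → X → X) (h1 : ∀ x, act 1 x = x)
    (hmul : ∀ g h x, act (g * h) x = act g (act h x)) (P : X → Prop) (x0 : X)
    (hx0 : P x0) (hP : ∀ g x, P x → P (act g x)) (htrans : ∀ x, P x → ∃ g, act g x0 = x) :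
    ∃ S : Subgroup G, (∀ g, g ∈ S ↔ act g x0 = x0) ∧
      Nat.card S * Nat.card {x // P x} = Nat.card G := by
  letI : MulAction G X := { smul := act, one_smul := h1, mul_smul := hmul }
  refine ⟨MulAction.stabilizer G x0, fun g => Iff.rfl, ?_⟩
  rw [← Subgroup.card_mul_index (MulAction.stabilizer G x0), MulAction.index_stabilizer,
    ← Nat.card_coe_set_eq]
  congr 1
  apply Nat.card_congr
  apply Equiv.subtypeEquivRight
  intro x
  constructor
  · intro hx
    obtain ⟨g, hg⟩ := htrans x hx
    exact ⟨g, hg⟩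
  · rintro ⟨g, rfl⟩
    exact hP g x0 hx0

theorem card_dvd {G X : Type*} [Group G] (act : G → X → X) (h1 : ∀ x, act 1 x = x)
    (hmul : ∀ g h x, act (g * h) x = act g (act h x)) (P : X → Prop)
    (hP : ∀ g x, P x → P (act g x)) (htrans : ∀ x y, P x → P y → ∃ g, act g x = y) :
    Nat.card {x // P x} ∣ Nat.card G ∨ Nat.card {x // P x} = 0 := by
  by_cases h : ∃ x0, P x0
  · obtain ⟨x0, hx0⟩ := h
    obtain ⟨S, _, hS⟩ := card_orbit act h1 hmul P x0 hx0 hP (fun x hx => htrans x0 x hx0 hx)
    exact Or.inl (Dvd.intro_left _ hS)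
  · right
    haveI : IsEmpty {x // P x} := ⟨fun x => h ⟨x.1, x.2⟩⟩
    exact Nat.card_of_isEmpty

/-- Injective families closed under permutation: their number is divisible by `t!`. -/
theorem factorial_dvd {X : Type*} (t : ℕ) (P : (Fin t → X) → Prop)
    (hinj : ∀ D, P D → Function.Injective D)
    (hperm : ∀ (D) (σ : Equiv.Perm (Fin t)), P D → P (D ∘ σ)) :
    Nat.factorial t ∣ Nat.card {D // P D} := by
  letI : MulAction (Equiv.Perm (Fin t)) {D // P D} :=
    { smul := fun σ D => ⟨D.1 ∘ ⇑(σ⁻¹), hperm D.1 σ⁻¹ D.2⟩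
      one_smul := fun D => Subtype.ext (by
        show D.1 ∘ ⇑((1 : Equiv.Perm (Fin t))⁻¹) = D.1
        rw [inv_one]
        rfl)
      mul_smul := fun σ τ D => Subtype.ext (by
        show D.1 ∘ ⇑((σ * τ)⁻¹) = (D.1 ∘ ⇑(τ⁻¹)) ∘ ⇑(σ⁻¹)
        rw [mul_inv_rev]
        rfl) }
  have hstab : ∀ D : {D // P D}, MulAction.stabilizer (Equiv.Perm (Fin t)) D = ⊥ := by
    intro D
    rw [eq_bot_iff]
    intro σ hσ
    rw [Subgroup.mem_bot]
    have h1 : D.1 ∘ ⇑(σ⁻¹) = D.1 := congrArg Subtype.val hσ
    have h2 : σ⁻¹ = 1 := by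
      ext j
      have := congrFun h1 j
      exact congrArg Fin.val (hinj D.1 D.2 this)
    exact inv_eq_one.1 h2
  rw [Nat.card_congr (MulAction.selfEquivOrbitsQuotientProd hstab), Nat.card_prod]
  refine Dvd.dvd.mul_left ?_ _
  rw [Nat.card_eq_fintype_card, Fintype.card_perm, Fintype.card_fin]

/-- From the number of unordered families to the number of ordered ones. -/
theorem dvd_of_dvd_div {X : Type*} (t : ℕ) (P : (Fin t → X) → Prop)
    (hinj : ∀ D, P D → Function.Injective D)
    (hperm : ∀ (D) (σ : Equiv.Perm (Fin t)), P D → P (D ∘ σ)) {r : ℕ}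
    (h : r ∣ Nat.card {D // P D} / Nat.factorial t) : r ∣ Nat.card {D // P D} :=
  h.trans (Nat.div_dvd_of_dvd (factorial_dvd t P hinj hperm))

/-- A fixed point free involution forces an even number of elements. -/
theorem even_card {X : Type*} [Finite X] (f : X → X) (hf : ∀ x, f (f x) = x)
    (hne : ∀ x, f x ≠ x) : 2 ∣ Nat.card X := by
  classical
  haveI := Fintype.ofFinite X
  let f' : Function.End X := f
  have hf' : f' ^ 2 ^ 1 = 1 := by
    funext x
    exact hf x
  haveI : Fact (Nat.Prime 2) := ⟨Nat.prime_two⟩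
  have h1 := Equiv.Perm.card_fixedPoints_modEq hf'
  have h2 : Fintype.card (Function.fixedPoints f') = 0 := by
    rw [Fintype.card_eq_zero_iff]
    exact ⟨fun x => hne x.1 x.2⟩
  rw [h2] at h1
  rw [Nat.card_eq_fintype_card]
  exact (Nat.modEq_zero_iff_dvd).1 h1

end Cfsg.Agent.H952.CountGen
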