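import Mathlib
import Cfsg.Agent.H952.Jordan

/-!
Operators of order `p` in characteristic `p` permuting the summands of a direct sum decomposition.
-/

set_option autoImplicit false

namespace Cfsg.Agent.H952.Jordan

open Module

variable {F V : Type*} [Field F] [AddCommGroup V] [Module F V]

theorem X_sub_one_pow (p : ℕ) [Fact p.Prime] [CharP F p] :
    ((Polynomial.X : Polynomial F) - 1) ^ (p - 1) =
      ∑ k ∈ Finset.range p, (Polynomial.X : Polynomial F) ^ k := by
  have hp : 0 < p := (Fact.out : p.Prime).pos
  have h0 : ((Polynomial.X : Polynomial F) - 1) ≠ 0 := by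
    have := Polynomial.X_sub_C_ne_zero (1 : F)
    simpa using this
  apply mul_left_cancel₀ h0
  rw [mul_geom_sum, ← pow_succ', Nat.sub_add_cancel hp, sub_pow_char, one_pow]

theorem sub_one_pow (p : ℕ) [Fact p.Prime] [CharP F p] (x : Module.End F V) :
    (x - 1) ^ (p - 1) = ∑ k ∈ Finset.range p, x ^ k := by
  have h := congrArg (Polynomial.aeval x) (X_sub_one_pow (F := F) p)
  simpa using h

theorem sub_one_pow_eq_zero (p : ℕ) [Fact p.Prime] [CharP F p] (x : Module.End F V)
    (hx : x ^ p = 1) : (x - 1) ^ p = 0 := by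
  have h : ((Polynomial.X : Polynomial F) - 1) ^ p = Polynomial.X ^ p - 1 := by
    rw [sub_pow_char, one_pow]
  have h := congrArg (Polynomial.aeval x) h
  simpa [hx] using h

/-- If `x` of order `p` permutes the summands of a decomposition and `(x-1)^(p-1)` has small rank,
then it fixes every summand. -/
theorem perm_eq_one {t : ℕ} (p : ℕ) [Fact p.Prime] [CharP F p] [FiniteDimensional F V]
    (x : Module.End F V) (hx : x ^ p = 1) (a : ℕ) (D : Fin t → Submodule F V)
    (hind : iSupIndep D) (ha : 0 < a) (hD : ∀ j, finrank F (D j) = a) (σ : Equiv.Perm (Fin t))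
    (hσ : ∀ j, (D j).map x = D (σ j)) (hr : finrank F (LinearMap.range ((x - 1) ^ (p - 1))) < a) :
    ∀ j, σ j = j := by
  intro j
  by_contra hj
  have hne : ∀ i, D i ≠ ⊥ := by
    intro i hi
    have := hD i
    rw [hi, finrank_bot] at this
    omega
  have hpow : ∀ k i, (D i).map (x ^ k) = D ((σ ^ k) i) := by
    intro k
    induction k with
    | zero => intro i; simp [Module.End.one_eq_id]
    | succ k ih =>
      intro i
      rw [pow_succ', Module.End.mul_eq_comp, Submodule.map_comp, ih, hσ, pow_succ',
        Equiv.Perm.mul_apply]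
  have hinj : Function.Injective D := hind.injective hne
  have hσp : (σ ^ p) j = j := by
    apply hinj
    rw [← hpow, hx, Module.End.one_eq_id, Submodule.map_id]
  have hmin : ∀ k, 0 < k → k < p → (σ ^ k) j ≠ j := by
    intro k hk hkp hkj
    have h1 : Function.IsPeriodicPt σ k j := by
      rw [Function.IsPeriodicPt, Function.IsFixedPt, ← Equiv.Perm.coe_pow]
      exact hkj
    have h2 : Function.IsPeriodicPt σ p j := by
      rw [Function.IsPeriodicPt, Function.IsFixedPt, ← Equiv.Perm.coe_pow]
      exact hσp
    have h3 := h1.gcd h2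
    have h4 : Nat.gcd k p = 1 := by
      have := ((Nat.Prime.coprime_iff_not_dvd (Fact.out : p.Prime)).2
        (fun h => absurd (Nat.le_of_dvd hk h) (by omega)))
      exact this.symm
    rw [h4] at h3
    exact hj (by simpa [Function.IsPeriodicPt, Function.IsFixedPt] using h3)
  have hle : a ≤ finrank F (LinearMap.range ((x - 1) ^ (p - 1))) := by
    rw [← hD j]
    have hinj2 : Function.Injective (((x - 1) ^ (p - 1)).domRestrict (D j)) := by
      rw [injective_iff_map_eq_zero]
      rintro ⟨v, hv⟩ h0
      apply Subtype.ext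
      show v = 0
      have h0' : ((x - 1) ^ (p - 1)) v = 0 := h0
      rw [sub_one_pow (F := F) p x, ← Finset.sum_erase_add _ _
        (Finset.mem_range.2 (Fact.out : p.Prime).pos), LinearMap.add_apply, pow_zero,
        Module.End.one_apply, LinearMap.sum_apply] at h0'
      have h1 : ∑ k ∈ (Finset.range p).erase 0, (x ^ k) v ∈ ⨆ i, ⨆ (_ : i ≠ j), D i := by
        refine Submodule.sum_mem _ fun k hk => ?_
        rw [Finset.mem_erase, Finset.mem_range] at hk
        have h2 : (x ^ k) v ∈ D ((σ ^ k) j) := by
          rw [← hpow]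
          exact Submodule.mem_map_of_mem hv
        exact (le_iSup₂ (f := fun i (_ : i ≠ j) => D i) ((σ ^ k) j)
          (hmin k (Nat.pos_of_ne_zero hk.1) hk.2)) h2
      have h3 : v = -∑ k ∈ (Finset.range p).erase 0, (x ^ k) v :=
        eq_neg_of_add_eq_zero_right h0'
      have h4 : v ∈ ⨆ i, ⨆ (_ : i ≠ j), D i := by
        rw [h3]
        exact Submodule.neg_mem _ h1
      have := (hind j).le_bot ⟨hv, h4⟩
      simpa using this
    have h5 := LinearMap.finrank_range_of_inj hinj2
    rw [← h5, LinearMap.range_domRestrict]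
    exact Submodule.finrank_mono (LinearMap.map_le_range)
  omega

/-- Jordan types are additive in direct sums. -/
theorem finrank_map_sup (N : Module.End F V) [FiniteDimensional F V] (A B : Submodule F V)
    (hA : A.map N ≤ A) (hB : B.map N ≤ B) (hAB : Disjoint A B) (k : ℕ) :
    finrank F ((A ⊔ B).map (N ^ k)) = finrank F (A.map (N ^ k)) + finrank F (B.map (N ^ k)) := by
  have hpow : ∀ (W : Submodule F V), W.map N ≤ W → ∀ k, W.map (N ^ k) ≤ W := by
    intro W hW k
    induction k with
    | zero => rw [pow_zero, Module.End.one_eq_id, Submodule.map_id]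
    | succ k ih =>
      rw [pow_succ, Module.End.mul_eq_comp, Submodule.map_comp]
      exact (Submodule.map_mono hW).trans ih
  rw [Submodule.map_sup]
  have h1 := Submodule.finrank_sup_add_finrank_inf_eq (A.map (N ^ k)) (B.map (N ^ k))
  have h2 : A.map (N ^ k) ⊓ B.map (N ^ k) = ⊥ :=
    (hAB.mono (hpow A hA k) (hpow B hB k)).eq_bot
  rw [h2, finrank_bot] at h1
  omega

end Cfsg.Agent.H952.Jordan
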