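import Mathlib
import Cfsg.Agent.H952.SympSemi
import Cfsg.Agent.H952.PermBlocks

/-!
Isometries of odd prime order `r` of an alternating form: orthogonal decompositions into invariant
non-degenerate subspaces of equal dimension; elements permuting a decomposition.
-/

set_option autoImplicit false

namespace Cfsg.Agent.H952.SympSemi

open Module Submodule Polynomial
open Cfsg.Agent.H952.Alt Cfsg.Agent.H952.Semi

variable {F V : Type*} [Field F] [AddCommGroup V] [Module F V] {x : Module.End F V}
  {B : LinearMap.BilinForm F V}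

section comm

variable [FiniteDimensional F V]

theorem nd_fix {r : ℕ} (hrF : (r : F) ≠ 0) (hxr : x ^ r = 1)
    (hx : ∀ u v, B (x u) (x v) = B u v) {W : Submodule F V} (hW : Nd B W) (hWx : Inv x W) :
    Nd B (W ⊓ LinearMap.ker (x - 1)) :=
  left_nd hW (sup_fix_comm hxr hrF hWx) (orth_fix_comm hx W W)

theorem nd_comm (hA : B.IsAlt) {r : ℕ} (hrF : (r : F) ≠ 0) (hxr : x ^ r = 1)
    (hx : ∀ u v, B (x u) (x v) = B u v) {W : Submodule F V} (hW : Nd B W) (hWx : Inv x W) :
    Nd B (W.map (x - 1)) :=
  right_nd hA hW (sup_fix_comm hxr hrF hWx) (orth_fix_comm hx W W)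

omit [FiniteDimensional F V] in
theorem comm_inf_ker {r : ℕ} (hrF : (r : F) ≠ 0) (hxr : x ^ r = 1) (W : Submodule F V) :
    W.map (x - 1) ⊓ LinearMap.ker (x - 1) = ⊥ := by
  rw [inf_comm]
  exact (disjoint_ker_map hxr hrF W).eq_bot

theorem cc_dvd_comm [Fintype F] (hA : B.IsAlt) {r : ℕ} [Fact r.Prime] (hrF : (r : F) ≠ 0)
    (hxr : x ^ r = 1) (hx : ∀ u v, B (x u) (x v) = B u v) {W : Submodule F V} (hW : Nd B W)
    (hWx : Inv x W) : cc (Fintype.card F) r ∣ finrank F (W.map (x - 1)) :=
  cc_dvd_finrank hA hxr (nd_comm hA hrF hxr hx hW hWx) (inv_map_sub hWx)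
    (comm_inf_ker hrF hxr W)

/-- Extension of an orthogonal decomposition by one summand. -/
theorem cons_fam (hA : B.IsAlt) {W E : Submodule F V} (hE : Nd B E) (hEW : E ≤ W) {t : ℕ}
    {D : Fin t → Submodule F V} (hD : OrthFam B D) (hs : ⨆ j, D j = W ⊓ B.orthogonal E) :
    OrthFam B (Fin.cons E D : Fin (t + 1) → Submodule F V) ∧
      ⨆ j, (Fin.cons E D : Fin (t + 1) → Submodule F V) j = W := by
  have hle : ∀ j, D j ≤ W ⊓ B.orthogonal E := fun j => hs ▸ le_iSup D j
  refine ⟨⟨?_, ?_⟩, ?_⟩
  · intro j
    refine Fin.cases ?_ (fun i => ?_) j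
    · exact hE
    · exact hD.nd i
  · intro i j
    refine Fin.cases ?_ (fun i => ?_) i
    · refine Fin.cases ?_ (fun j => ?_) j
      · intro h; exact absurd rfl h
      · intro _ u hu v hv
        exact split_orth hA u hu v (hle j hv)
    · refine Fin.cases ?_ (fun j => ?_) j
      · intro _ u hu v hv
        exact eq_zero_swap hA (split_orth hA v hv u (hle i hu))
      · intro h u hu v hv
        exact hD.orth i j (fun hij => h (by rw [hij])) u hu v hv
  · apply le_antisymm
    · refine iSup_le fun j => ?_
      refine Fin.cases ?_ (fun i => ?_) j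
      · exact hEW
      · exact (hle i).trans inf_le_left
    · rw [← split_sup hA hE hEW, ← hs]
      refine sup_le ?_ (iSup_le fun j => ?_)
      · exact le_iSup (Fin.cons E D : Fin (t + 1) → Submodule F V) 0
      · exact le_iSup (Fin.cons E D : Fin (t + 1) → Submodule F V) j.succ

end comm

theorem exists_bins [FiniteDimensional F V] [Fintype F] (hA : B.IsAlt) {r : ℕ}
    [Fact r.Prime] (hr2 : r ≠ 2) (hrF : (r : F) ≠ 0) (hxr : x ^ r = 1)
    (hx : ∀ u v, B (x u) (x v) = B u v)
    (hord : 0 < orderOf ((Fintype.card F : ℕ) : ZMod r)) (a : ℕ) (ha : Even a) (t : ℕ) :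
    ∀ W : Submodule F V, Nd B W → Inv x W → finrank F W = a * t →
      finrank F (W.map (x - 1)) ≤
        cc (Fintype.card F) r * (a / cc (Fintype.card F) r) * t →
      ∃ D : Fin t → Submodule F V, OrthFam B D ∧ (∀ j, finrank F (D j) = a) ∧
        ⨆ j, D j = W ∧ ∀ j, (D j).map x = D j := by
  have hinj := injective_of_pow (Fact.out : r.Prime).pos hxr
  set c := cc (Fintype.card F) r with hc
  have hc0 : 0 < c := cc_pos hord
  induction t with
  | zero =>
    intro W _ _ hf _
    refine ⟨fun i => i.elim0, ⟨fun i => i.elim0, fun i => i.elim0⟩, fun i => i.elim0, ?_,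
      fun i => i.elim0⟩
    rw [iSup_of_empty]
    rw [mul_zero] at hf
    exact (Submodule.finrank_eq_zero.1 hf).symm
  | succ t ih =>
    intro W hW hWx hf hle
    set ℓ := a % c with hℓ
    set b := a / c with hb
    have hab : c * b + ℓ = a := Nat.div_add_mod a c
    have hR := nd_comm hA hrF hxr hx hW hWx
    have hRx : Inv x (W.map (x - 1)) := inv_map_sub hWx
    have hC := nd_fix hrF hxr hx hW hWx
    obtain ⟨k, hk⟩ : c ∣ finrank F (W.map (x - 1)) := cc_dvd_comm hA hrF hxr hx hW hWx
    have hkb : k ≤ b * (t + 1) := by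
      rw [hk, mul_assoc] at hle
      exact Nat.le_of_mul_le_mul_left hle hc0
    have hCf := finrank_fix_add (x := x) (W := W)
    rw [hk, hf] at hCf
    set m := min k b with hm
    have hmk : m ≤ k := min_le_left _ _
    have hmb : m ≤ b := min_le_right _ _
    have hcm : c * m ≤ c * b := Nat.mul_le_mul_left c hmb
    have hcmk : c * m ≤ c * k := Nat.mul_le_mul_left c hmk
    obtain ⟨E1, hE1R, hE1, hE1x, hE1f⟩ := exists_mul hA hr2 hrF hxr hx hord m
      (W.map (x - 1)) hR hRx (comm_inf_ker hrF hxr W) (by rw [hk]; exact hcmk)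
    rw [← hc] at hE1f
    have hev : Even (a - c * m) := by
      have h1 : Even (c * m) := (cc_even _ _).mul_right m
      rw [Nat.even_sub (by omega)]
      exact ⟨fun _ => h1, fun _ => ha⟩
    obtain ⟨e, he⟩ := hev
    have hCle : a - c * m ≤ finrank F (W ⊓ LinearMap.ker (x - 1) : Submodule F V) := by
      rcases le_total k b with hkb' | hkb'
      · have hmk' : m = k := min_eq_left hkb'
        rw [hmk']
        have : a * (t + 1) = a * t + a := by ring
        omega
      · have hmb' : m = b := min_eq_right hkb'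
        rw [hmb']
        have h1 : c * k ≤ c * (b * (t + 1)) := Nat.mul_le_mul_left c hkb
        have h2 : a * (t + 1) = c * (b * (t + 1)) + ℓ * (t + 1) := by
          rw [← hab]; ring
        have h3 : ℓ ≤ ℓ * (t + 1) := Nat.le_mul_of_pos_right ℓ (by omega)
        omega
    obtain ⟨E2, hE2C, hE2, hE2f⟩ := exists_even_dim hA e (W ⊓ LinearMap.ker (x - 1)) hC
      (by omega)
    have hE2x : Inv x E2 := by
      intro v hv
      rw [mem_ker_sub.1 (hE2C hv).2]
      exact hv
    have ho : ∀ u ∈ E1, ∀ v ∈ E2, B u v = 0 := fun u hu v hv =>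
      eq_zero_swap hA (orth_fix_comm hx W W v (hE2C hv) u (hE1R hu))
    have hd12 := disjoint_of_orth hA hE1 ho
    set E := E1 ⊔ E2 with hE
    have hEn : Nd B E := hE1.sup hA hE2 ho
    have hEx : Inv x E := hE1x.sup hE2x
    have hEW : E ≤ W := sup_le (hE1R.trans (map_sub_le hWx)) (hE2C.trans inf_le_left)
    have hEf : finrank F E = a := by
      have h1 := Submodule.finrank_sup_add_finrank_inf_eq E1 E2
      rw [hd12.eq_bot, finrank_bot] at h1
      rw [hE]
      omega
    have hWf := split_finrank hA hEn hEW
    set W' := W ⊓ B.orthogonal E with hW'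
    have hW'x : Inv x W' := split_inv hA hinj hx hWx hEx
    have hW'n : Nd B W' := split_nd hA hW hEn hEW
    have hEm : finrank F (E.map (x - 1)) = c * m := by
      have h1 := Jordan.finrank_map_sup (x - 1) E1 E2 (map_sub_le hE1x) (map_sub_le hE2x) hd12 1
      rw [pow_one] at h1
      rw [hE, h1]
      have h2 : E2.map (x - 1) = ⊥ := by
        rw [eq_bot_iff]
        rintro _ ⟨v, hv, rfl⟩
        rw [Submodule.mem_bot]
        exact (hE2C hv).2
      have h3 := finrank_fix_add (x := x) (W := E1)
      have h4 : E1 ⊓ LinearMap.ker (x - 1) = ⊥ := by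
        rw [eq_bot_iff, ← comm_inf_ker hrF hxr W]
        exact inf_le_inf_right _ hE1R
      rw [h4, finrank_bot] at h3
      rw [h2, finrank_bot]
      omega
    have hW'm : finrank F (W'.map (x - 1)) = c * k - c * m := by
      have h1 := Jordan.finrank_map_sup (x - 1) E W' (map_sub_le hEx) (map_sub_le hW'x)
        (disjoint_of_orth hA hEn (split_orth hA)) 1
      rw [pow_one, split_sup hA hEn hEW, hEm, hk] at h1
      omega
    obtain ⟨D, hD, hDf, hDs, hDx⟩ := ih W' hW'n hW'x
      (by rw [hEf, hf] at hWf; have : a * (t + 1) = a * t + a := by ring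
          omega)
      (by
        rw [hW'm, ← Nat.mul_sub, mul_assoc]
        apply Nat.mul_le_mul_left
        have h1 : b * (t + 1) = b * t + b := by ring
        rcases le_total k b with hkb' | hkb'
        · have hmk' : m = k := min_eq_left hkb'
          omega
        · have hmb' : m = b := min_eq_right hkb'
          omega)
    obtain ⟨h1, h2⟩ := cons_fam hA hEn hEW hD hDs
    refine ⟨Fin.cons E D, h1, ?_, h2, ?_⟩
    · intro j
      refine Fin.cases ?_ (fun i => ?_) j
      · exact hEf
      · exact hDf i
    · intro j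
      refine Fin.cases ?_ (fun i => ?_) j
      · exact hEx.map_eq hinj
      · exact hDx i

/-! ### Elements permuting a decomposition -/

theorem pow_ne {α : Type*} (σ : Equiv.Perm α) (p : ℕ) [Fact p.Prime] (j : α)
    (hσp : (σ ^ p) j = j) (hj : σ j ≠ j) : ∀ k, 0 < k → k < p → (σ ^ k) j ≠ j := by
  intro k hk hkp hkj
  have h1 : Function.IsPeriodicPt σ k j := by
    rw [Function.IsPeriodicPt, Function.IsFixedPt, ← Equiv.Perm.coe_pow]
    exact hkj
  have h2 : Function.IsPeriodicPt σ p j := by
    rw [Function.IsPeriodicPt, Function.IsFixedPt, ← Equiv.Perm.coe_pow]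
    exact hσp
  have h3 := h1.gcd h2
  have h4 : Nat.gcd k p = 1 := by
    have := ((Nat.Prime.coprime_iff_not_dvd (Fact.out : p.Prime)).2
      (fun h => absurd (Nat.le_of_dvd hk h) (by omega)))
    exact this.symm
  rw [h4] at h3
  exact hj (by simpa [Function.IsPeriodicPt, Function.IsFixedPt] using h3)

theorem finrank_sup_le [FiniteDimensional F V] {ι : Type*} (D : ι → Submodule F V) (a : ℕ)
    (hD : ∀ j, finrank F (D j) = a) (s : Finset ι) :
    finrank F (s.sup D : Submodule F V) ≤ a * s.card := by
  classical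
  induction s using Finset.induction_on with
  | empty => simp
  | insert i s hi ih =>
    rw [Finset.sup_insert, Finset.card_insert_of_notMem hi]
    have h1 := Submodule.finrank_add_le_finrank_add_finrank (D i) (s.sup D)
    rw [hD i] at h1
    rw [mul_add, mul_one]
    omega

theorem moved [FiniteDimensional F V] {t : ℕ} {r : ℕ} [Fact r.Prime] (hxr : x ^ r = 1) (a : ℕ)
    (ha : 0 < a) (D : Fin t → Submodule F V) (hind : iSupIndep D) (htop : ⨆ j, D j = ⊤)
    (hD : ∀ j, finrank F (D j) = a) (hn : finrank F V = a * t) (σ : Equiv.Perm (Fin t))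
    (hσ : ∀ j, (D j).map x = D (σ j)) {j : Fin t} (hj : σ j ≠ j) :
    a ≤ finrank F (LinearMap.ker (x - 1)) ∧ a * (r - 1) ≤ finrank F (LinearMap.range (x - 1)) := by
  classical
  have hr := (Fact.out : r.Prime)
  have hne : ∀ i, D i ≠ ⊥ := by
    intro i hi
    have := hD i
    rw [hi, finrank_bot] at this
    omega
  have hpow : ∀ k i, (D i).map (x ^ k) = D ((σ ^ k) i) := by
    intro k
    induction k with
    | zero => intro i; simp [Module.End.one_eq_id]
    | succ k ih =>
      intro i
      rw [pow_succ', Module.End.mul_eq_comp, Submodule.map_comp, ih, hσ, pow_succ',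
        Equiv.Perm.mul_apply]
  have hinj : Function.Injective D := hind.injective hne
  have hσp : (σ ^ r) j = j := by
    apply hinj
    rw [← hpow, hxr, Module.End.one_eq_id, Submodule.map_id]
  have hmin := pow_ne σ r j hσp hj
  constructor
  · -- the sum over the orbit is injective on `D j`
    set S : Module.End F V := ∑ k ∈ Finset.range r, x ^ k with hS
    have hS1 : (x - 1) * S = 0 := by
      rw [hS, mul_geom_sum, hxr, sub_self]
    have hle : (D j).map S ≤ LinearMap.ker (x - 1) := by
      rintro _ ⟨v, _, rfl⟩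
      rw [LinearMap.mem_ker, ← Module.End.mul_apply, hS1, LinearMap.zero_apply]
    have hinj2 : Function.Injective (S.domRestrict (D j)) := by
      rw [injective_iff_map_eq_zero]
      rintro ⟨v, hv⟩ h0
      apply Subtype.ext
      show v = 0
      have h0' : S v = 0 := h0
      rw [hS, ← Finset.sum_erase_add _ _ (Finset.mem_range.2 hr.pos), LinearMap.add_apply,
        pow_zero, Module.End.one_apply, LinearMap.sum_apply] at h0'
      have h1 : ∑ k ∈ (Finset.range r).erase 0, (x ^ k) v ∈ ⨆ i, ⨆ (_ : i ≠ j), D i := by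
        refine Submodule.sum_mem _ fun k hk => ?_
        rw [Finset.mem_erase, Finset.mem_range] at hk
        have h2 : (x ^ k) v ∈ D ((σ ^ k) j) := by
          rw [← hpow]
          exact Submodule.mem_map_of_mem hv
        exact (le_iSup₂ (f := fun i (_ : i ≠ j) => D i) ((σ ^ k) j)
          (hmin k (Nat.pos_of_ne_zero hk.1) hk.2)) h2
      have h3 : v = -∑ k ∈ (Finset.range r).erase 0, (x ^ k) v :=
        eq_neg_of_add_eq_zero_right h0'
      have h4 : v ∈ ⨆ i, ⨆ (_ : i ≠ j), D i := by
        rw [h3]
        exact Submodule.neg_mem _ h1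
      have := (hind j).le_bot ⟨hv, h4⟩
      simpa using this
    have h5 := LinearMap.finrank_range_of_inj hinj2
    rw [LinearMap.range_domRestrict, hD] at h5
    rw [← h5]
    exact Submodule.finrank_mono hle
  · set T : Finset (Fin t) := (Finset.range (r - 1)).image (fun k => (σ ^ (k + 1)) j) with hT
    have hTc : T.card = r - 1 := by
      rw [hT, Finset.card_image_of_injOn, Finset.card_range]
      have key : ∀ k l : ℕ, k < l → l < r - 1 → (σ ^ (k + 1)) j ≠ (σ ^ (l + 1)) j := by
        intro k l hkl hl h
        refine hmin (l - k) (by omega) (by omega) ?_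
        apply (σ ^ (k + 1)).injective
        rw [← Equiv.Perm.mul_apply, ← pow_add, h]
        congr 2
        omega
      intro k hk l hl h
      rw [Finset.mem_coe, Finset.mem_range] at hk hl
      rcases lt_trichotomy k l with hkl | hkl | hkl
      · exact absurd h (key k l hkl hl)
      · exact hkl
      · exact absurd h.symm (key l k hkl hk)
    set Z : Submodule F V := (Finset.univ \ T).sup D with hZ
    have hle : ∀ k, k ≤ r - 1 → D ((σ ^ k) j) ≤ LinearMap.range (x - 1) ⊔ Z := by
      intro k
      induction k with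
      | zero =>
        intro _
        refine le_sup_of_le_right ?_
        refine Finset.le_sup (f := D) ?_
        rw [Finset.mem_sdiff, hT, Finset.mem_image]
        refine ⟨Finset.mem_univ _, ?_⟩
        rintro ⟨k, hk, hk'⟩
        rw [Finset.mem_range] at hk
        rw [pow_zero, Equiv.Perm.one_apply] at hk'
        exact hmin (k + 1) (by omega) (by omega) hk'
      | succ k ih =>
        intro hk
        rw [pow_succ', Equiv.Perm.mul_apply, ← hσ]
        rintro _ ⟨v, hv, rfl⟩
        have h1 : x v = (x - 1) v + v := by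
          rw [LinearMap.sub_apply, Module.End.one_apply, sub_add_cancel]
        rw [h1]
        exact Submodule.add_mem _ (Submodule.mem_sup_left ⟨v, rfl⟩) (ih (by omega) hv)
    have htop2 : LinearMap.range (x - 1) ⊔ Z = ⊤ := by
      rw [eq_top_iff, ← htop]
      refine iSup_le fun i => ?_
      by_cases hi : i ∈ T
      · rw [hT, Finset.mem_image] at hi
        obtain ⟨k, hk, rfl⟩ := hi
        rw [Finset.mem_range] at hk
        exact hle (k + 1) (by omega)
      · refine le_sup_of_le_right ?_
        exact Finset.le_sup (f := D) (Finset.mem_sdiff.2 ⟨Finset.mem_univ _, hi⟩)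
    have h1 := Submodule.finrank_add_le_finrank_add_finrank (LinearMap.range (x - 1)) Z
    rw [htop2, finrank_top, hn] at h1
    have h2 := finrank_sup_le D a hD (Finset.univ \ T)
    rw [← hZ, Finset.card_sdiff_of_subset (Finset.subset_univ _), Finset.card_univ,
      Fintype.card_fin, hTc, Nat.mul_sub] at h2
    have h3 : r - 1 ≤ t := by
      rw [← hTc]
      calc T.card ≤ Finset.univ.card := Finset.card_le_univ T
        _ = t := by rw [Finset.card_univ, Fintype.card_fin]
    have h4 : a * (r - 1) ≤ a * t := Nat.mul_le_mul_left a h3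
    omega

end Cfsg.Agent.H952.SympSemi
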