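import Mathlib
import Cfsg.Agent.H952.Alt

/-!
Isometries `x` of an alternating form with `x²` scalar: the space is an orthogonal sum of
hyperbolic planes permuted by `x`.
-/

set_option autoImplicit false

namespace Cfsg.Agent.H952.Alt

open Module Submodule

variable {F V : Type*} [Field F] [AddCommGroup V] [Module F V]

/-- `W` is an orthogonal sum of non-degenerate planes permuted by `x` (through an involution). -/
def HasAtoms (B : LinearMap.BilinForm F V) (x : Module.End F V) (W : Submodule F V) : Prop :=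
  ∃ (ι : Type) (_ : Fintype ι) (E : ι → Submodule F V) (τ : ι → ι), OrthFam B E ∧
    (∀ i, finrank F (E i) = 2) ∧ (∀ i, τ (τ i) = i) ∧ (∀ i, (E i).map x = E (τ i)) ∧
    ⨆ i, E i = W

variable {B : LinearMap.BilinForm F V} {x : Module.End F V}

theorem HasAtoms.bot : HasAtoms B x ⊥ :=
  ⟨Empty, inferInstance, Empty.elim, Empty.elim,
    ⟨fun i => i.elim, fun i => i.elim⟩, fun i => i.elim, fun i => i.elim, fun i => i.elim,
    iSup_of_empty _⟩

theorem HasAtoms.single {E : Submodule F V} (hE : Nd B E) (hE2 : finrank F E = 2)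
    (hEx : E.map x = E) : HasAtoms B x E :=
  ⟨Unit, inferInstance, fun _ => E, fun i => i,
    ⟨fun _ => hE, fun i j hij => absurd (Subsingleton.elim i j) hij⟩, fun _ => hE2,
    fun _ => rfl, fun _ => hEx, iSup_const⟩

theorem HasAtoms.sup (hA : B.IsAlt) {W1 W2 : Submodule F V} (h1 : HasAtoms B x W1)
    (h2 : HasAtoms B x W2) (ho : ∀ u ∈ W1, ∀ v ∈ W2, B u v = 0) : HasAtoms B x (W1 ⊔ W2) := by
  obtain ⟨ι, _, E, τ, hE, hE2, hτ, hEx, hs⟩ := h1
  obtain ⟨κ, _, D, σ, hD, hD2, hσ, hDx, ht⟩ := h2
  refine ⟨ι ⊕ κ, inferInstance, Sum.elim E D, Sum.map τ σ, ⟨?_, ?_⟩, ?_, ?_, ?_, ?_⟩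
  · rintro (i | i)
    · exact hE.nd i
    · exact hD.nd i
  · rintro (i | i) (j | j) hij u hu v hv
    · exact hE.orth i j (fun h => hij (h ▸ rfl)) u hu v hv
    · exact ho u (hs ▸ (le_iSup E i) hu) v (ht ▸ (le_iSup D j) hv)
    · exact eq_zero_swap hA (ho v (hs ▸ (le_iSup E j) hv) u (ht ▸ (le_iSup D i) hu))
    · exact hD.orth i j (fun h => hij (h ▸ rfl)) u hu v hv
  · rintro (i | i)
    · exact hE2 i
    · exact hD2 i
  · rintro (i | i)
    · show Sum.inl (τ (τ i)) = Sum.inl i
      rw [hτ]
    · show Sum.inr (σ (σ i)) = Sum.inr i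
      rw [hσ]
  · rintro (i | i)
    · exact hEx i
    · exact hDx i
  · rw [iSup_sum, ← hs, ← ht]
    rfl

theorem HasAtoms.swapPair (hA : B.IsAlt) {D1 D2 : Submodule F V} (h1 : Nd B D1) (h2 : Nd B D2)
    (hf1 : finrank F D1 = 2) (hf2 : finrank F D2 = 2) (hx1 : D1.map x = D2)
    (hx2 : D2.map x = D1) (ho : ∀ u ∈ D1, ∀ v ∈ D2, B u v = 0) : HasAtoms B x (D1 ⊔ D2) := by
  refine ⟨Bool, inferInstance, fun b => cond b D1 D2, fun b => !b, ⟨?_, ?_⟩, ?_, ?_, ?_, ?_⟩
  · rintro (_ | _)
    · exact h2
    · exact h1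
  · rintro (_ | _) (_ | _) hij u hu v hv
    · exact absurd rfl hij
    · exact eq_zero_swap hA (ho v hv u hu)
    · exact ho u hu v hv
    · exact absurd rfl hij
  · rintro (_ | _)
    · exact hf2
    · exact hf1
  · exact fun b => Bool.not_not b
  · rintro (_ | _)
    · exact hx2
    · exact hx1
  · rw [iSup_bool_eq]
    rfl

theorem exists_atoms [FiniteDimensional F V] (hA : B.IsAlt) (hinj : Function.Injective x)
    (hx : ∀ u v, B (x u) (x v) = B u v) (z : F) (hxx : ∀ v, x (x v) = z • v) (n : ℕ) :
    ∀ W : Submodule F V, finrank F W = n → Nd B W → Inv x W → HasAtoms B x W := by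
  induction n using Nat.strong_induction_on with
  | _ n ih =>
    intro W hWn hW hWx
    -- reduction to a splitting
    have red : ∀ E : Submodule F V, E ≤ W → E ≠ ⊥ → Nd B E → Inv x E → HasAtoms B x E →
        HasAtoms B x W := by
      intro E hEW hE0 hE hEx hEa
      rw [← split_sup hA hE hEW]
      refine hEa.sup hA (ih _ ?_ _ rfl (split_nd hA hW hE hEW) (split_inv hA hinj hx hWx hEx))
        (split_orth hA)
      have h1 := split_finrank hA hE hEW
      have h2 : 0 < finrank F E := Submodule.one_le_finrank_iff.2 hE0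
      omega
    by_cases hW0 : W = ⊥
    · rw [hW0]; exact HasAtoms.bot
    by_cases hcA : ∃ v ∈ W, B v (x v) ≠ 0
    · obtain ⟨v, hv, hne⟩ := hcA
      have hEx : Inv x (span F {v, x v}) := by
        intro w hw
        obtain ⟨a, b, rfl⟩ := Submodule.mem_span_pair.1 hw
        rw [map_add, map_smul, map_smul, hxx, Submodule.mem_span_pair]
        exact ⟨b * z, a, by rw [mul_smul, add_comm]⟩
      have hEn := Nd.pair hA hne
      refine red (span F {v, x v}) ?_ ?_ hEn hEx
        (HasAtoms.single hEn (finrank_pair hA hne) (hEx.map_eq hinj))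
      · rw [Submodule.span_le]
        rintro w (rfl | rfl)
        · exact hv
        · exact hWx _ hv
      · intro h0
        have := finrank_pair hA hne
        rw [h0, finrank_bot] at this
        omega
    push Not at hcA
    by_cases hcB : ∀ u ∈ W, ∃ c : F, u = c • x u
    · obtain ⟨u, hu, hu0⟩ := Submodule.exists_mem_ne_zero_of_ne_bot hW0
      obtain ⟨w, hw, hne⟩ := hW u hu hu0
      have key : ∀ y ∈ W, ∃ c : F, x y = c • y := by
        intro y hy
        obtain ⟨c, hc⟩ := hcB y hy
        by_cases hc0 : c = 0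
        · refine ⟨0, ?_⟩
          have hy0 : y = 0 := by rw [hc, hc0, zero_smul]
          rw [hy0, map_zero, smul_zero]
        · refine ⟨c⁻¹, ?_⟩
          conv_rhs => rw [hc]
          rw [smul_smul, inv_mul_cancel₀ hc0, one_smul]
      obtain ⟨c, hc⟩ := key u hu
      obtain ⟨d, hd⟩ := key w hw
      have hEx : Inv x (span F {u, w}) := by
        intro y hy
        obtain ⟨a, b, rfl⟩ := Submodule.mem_span_pair.1 hy
        rw [map_add, map_smul, map_smul, hc, hd, Submodule.mem_span_pair]
        exact ⟨a * c, b * d, by rw [mul_smul, mul_smul]⟩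
      have hEn := Nd.pair hA hne
      refine red (span F {u, w}) ?_ ?_ hEn hEx
        (HasAtoms.single hEn (finrank_pair hA hne) (hEx.map_eq hinj))
      · rw [Submodule.span_le]
        rintro y (rfl | rfl)
        · exact hu
        · exact hw
      · intro h0
        have := finrank_pair hA hne
        rw [h0, finrank_bot] at this
        omega
    · push Not at hcB
      obtain ⟨u, hu, huc⟩ := hcB
      obtain ⟨w, hw, hyw, huw⟩ : ∃ w ∈ W, B (x u) w = 0 ∧ B u w ≠ 0 := by
        by_contra hcon
        push Not at hcon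
        obtain ⟨c, hc⟩ := exists_sep hA hW hu (hWx u hu) hcon
        exact huc c hc
      set D1 : Submodule F V := span F {u, w} with hD1
      set D2 : Submodule F V := span F {x u, x w} with hD2
      have hn1 : Nd B D1 := Nd.pair hA huw
      have hn2' : B (x u) (x w) ≠ 0 := by rw [hx]; exact huw
      have hn2 : Nd B D2 := Nd.pair hA hn2'
      have hf1 : finrank F D1 = 2 := finrank_pair hA huw
      have hf2 : finrank F D2 = 2 := finrank_pair hA hn2'
      have hm1 : D1.map x = D2 := by
        rw [hD1, hD2, Submodule.map_span, Set.image_pair]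
      have hm2 : D2.map x = D1 := by
        apply Submodule.eq_of_le_of_finrank_eq
        · rw [hD2, hD1, Submodule.map_span, Set.image_pair, Submodule.span_le, hxx, hxx]
          rintro y (rfl | rfl)
          · exact Submodule.smul_mem _ _ (Submodule.subset_span (by simp))
          · exact Submodule.smul_mem _ _ (Submodule.subset_span (by simp))
        · rw [hf1, ← hf2]
          exact (Submodule.equivMapOfInjective x hinj D2).symm.finrank_eq
      have huxw : B u (x w) = 0 := by
        rw [← hx, hxx, map_smul, hyw, smul_zero]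
      have ho : ∀ a ∈ D1, ∀ b ∈ D2, B a b = 0 := by
        intro a ha b hb
        obtain ⟨a1, a2, rfl⟩ := Submodule.mem_span_pair.1 ha
        obtain ⟨b1, b2, rfl⟩ := Submodule.mem_span_pair.1 hb
        simp only [map_add, map_smul, LinearMap.add_apply, LinearMap.smul_apply, smul_eq_mul,
          hcA u hu, hcA w hw, huxw, eq_zero_swap hA hyw, mul_zero, add_zero]
      refine red (D1 ⊔ D2) ?_ ?_ (hn1.sup hA hn2 ho) ?_
        (HasAtoms.swapPair hA hn1 hn2 hf1 hf2 hm1 hm2 ho)
      · refine sup_le ?_ ?_
        · rw [hD1, Submodule.span_le]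
          rintro y (rfl | rfl)
          · exact hu
          · exact hw
        · rw [hD2, Submodule.span_le]
          rintro y (rfl | rfl)
          · exact hWx _ hu
          · exact hWx _ hw
      · intro h0
        have h1 : D1 = ⊥ := le_bot_iff.1 (h0 ▸ le_sup_left)
        rw [h1, finrank_bot] at hf1
        omega
      · apply Inv.of_map_eq
        rw [Submodule.map_sup, hm1, hm2, sup_comm]

end Cfsg.Agent.H952.Alt
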