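import Mathlib

/-!
Combinatorics of involutions: a set of size `b * t` with an involution `τ` has a partition into `t`
blocks of size `b` permuted by `τ`.
-/

set_option autoImplicit false

namespace Cfsg.Agent.H952.Comb

variable {ι : Type*} [DecidableEq ι]

/-- Invariant subsets of even size. -/
theorem exists_even (τ : ι → ι) (hτ : ∀ i, τ (τ i) = i) (S : Finset ι)
    (hS : ∀ i ∈ S, τ i ∈ S) (m : ℕ) : 2 * m ≤ S.card →
    ∃ T ⊆ S, T.card = 2 * m ∧ ∀ i ∈ T, τ i ∈ T := by
  induction m with
  | zero => intro _; exact ⟨∅, Finset.empty_subset _, rfl, by simp⟩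
  | succ m ih =>
    intro hm
    obtain ⟨T, hTS, hTc, hT⟩ := ih (by omega)
    have hsd : ∀ i ∈ S \ T, τ i ∈ S \ T := by
      intro i hi
      rw [Finset.mem_sdiff] at hi ⊢
      refine ⟨hS i hi.1, fun h => hi.2 ?_⟩
      have := hT _ h
      rwa [hτ] at this
    have hc : 2 ≤ (S \ T).card := by
      rw [Finset.card_sdiff_of_subset hTS]; omega
    by_cases hex : ∃ i ∈ S \ T, τ i ≠ i
    · obtain ⟨i, hi, hne⟩ := hex
      have hi' := hsd i hi
      rw [Finset.mem_sdiff] at hi hi'
      refine ⟨insert i (insert (τ i) T), ?_, ?_, ?_⟩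
      · intro j hj
        rcases Finset.mem_insert.1 hj with rfl | hj
        · exact hi.1
        rcases Finset.mem_insert.1 hj with rfl | hj
        · exact hi'.1
        · exact hTS hj
      · rw [Finset.card_insert_of_notMem, Finset.card_insert_of_notMem hi'.2, hTc]
        · ring
        · intro h
          rcases Finset.mem_insert.1 h with h | h
          · exact hne h.symm
          · exact hi.2 h
      · intro j hj
        rcases Finset.mem_insert.1 hj with rfl | hj
        · simp
        rcases Finset.mem_insert.1 hj with rfl | hj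
        · rw [hτ]; simp
        · exact Finset.mem_insert_of_mem (Finset.mem_insert_of_mem (hT j hj))
    · push Not at hex
      obtain ⟨i, hi, j, hj, hij⟩ := Finset.one_lt_card.1 (show 1 < (S \ T).card by omega)
      have hfi := hex i hi
      have hfj := hex j hj
      rw [Finset.mem_sdiff] at hi hj
      refine ⟨insert i (insert j T), ?_, ?_, ?_⟩
      · intro k hk
        rcases Finset.mem_insert.1 hk with rfl | hk
        · exact hi.1
        rcases Finset.mem_insert.1 hk with rfl | hk
        · exact hj.1
        · exact hTS hk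
      · rw [Finset.card_insert_of_notMem, Finset.card_insert_of_notMem hj.2, hTc]
        · ring
        · intro h
          rcases Finset.mem_insert.1 h with h | h
          · exact hij h
          · exact hi.2 h
      · intro k hk
        rcases Finset.mem_insert.1 hk with rfl | hk
        · rw [hfi]; simp
        rcases Finset.mem_insert.1 hk with rfl | hk
        · rw [hfj]; simp
        · exact Finset.mem_insert_of_mem (Finset.mem_insert_of_mem (hT k hk))

/-- Invariant subsets of any size in presence of a fixed point. -/
theorem exists_odd (τ : ι → ι) (hτ : ∀ i, τ (τ i) = i) (S : Finset ι)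
    (hS : ∀ i ∈ S, τ i ∈ S) (f : ι) (hf : f ∈ S) (hff : τ f = f) (m : ℕ)
    (hm : 2 * m + 1 ≤ S.card) : ∃ T ⊆ S, T.card = 2 * m + 1 ∧ ∀ i ∈ T, τ i ∈ T := by
  obtain ⟨T, hTS, hTc, hT⟩ := exists_even τ hτ (S.erase f)
    (by
      intro i hi
      rw [Finset.mem_erase] at hi ⊢
      refine ⟨fun h => hi.1 ?_, hS i hi.2⟩
      have := congrArg τ h
      rwa [hτ, hff] at this) m
    (by rw [Finset.card_erase_of_mem hf]; omega)
  refine ⟨insert f T, ?_, ?_, ?_⟩
  · exact Finset.insert_subset hf (hTS.trans (Finset.erase_subset _ _))
  · rw [Finset.card_insert_of_notMem (fun h => (Finset.mem_erase.1 (hTS h)).1 rfl), hTc]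
  · intro k hk
    rcases Finset.mem_insert.1 hk with rfl | hk
    · rw [hff]; simp
    · exact Finset.mem_insert_of_mem (hT k hk)

/-- Half sections of fixed point free involutions. -/
theorem exists_half (τ : ι → ι) (hτ : ∀ i, τ (τ i) = i) (S : Finset ι)
    (hfree : ∀ i ∈ S, τ i ≠ i) (m : ℕ) : 2 * m ≤ S.card →
    ∃ T ⊆ S, T.card = m ∧ Disjoint T (T.image τ) := by
  induction m with
  | zero => intro _; exact ⟨∅, Finset.empty_subset _, rfl, by simp⟩
  | succ m ih =>
    intro hm
    obtain ⟨T, hTS, hTc, hT⟩ := ih (by omega)
    have hc : 0 < (S \ (T ∪ T.image τ)).card := by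
      have h1 := Finset.le_card_sdiff (T ∪ T.image τ) S
      have h2 := Finset.card_union_le T (T.image τ)
      have h3 := Finset.card_image_le (s := T) (f := τ)
      omega
    obtain ⟨i, hi⟩ := Finset.card_pos.1 hc
    rw [Finset.mem_sdiff, Finset.mem_union, not_or] at hi
    obtain ⟨hiS, hiT, hiT'⟩ := hi
    refine ⟨insert i T, Finset.insert_subset hiS hTS, ?_, ?_⟩
    · rw [Finset.card_insert_of_notMem hiT, hTc]
    · rw [Finset.image_insert, Finset.disjoint_insert_left, Finset.disjoint_insert_right]
      refine ⟨?_, ?_, hT⟩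
      · rw [Finset.mem_insert, not_or]
        exact ⟨fun h => hfree i hiS h.symm, hiT'⟩
      · intro h
        apply hiT'
        rw [Finset.mem_image]
        exact ⟨τ i, h, hτ i⟩

theorem exists_blocks (b : ℕ) (τ : ι → ι) (hτ : ∀ i, τ (τ i) = i) (t : ℕ) :
    ∀ S : Finset ι, S.card = b * t → (∀ i ∈ S, τ i ∈ S) →
    ∃ (g : ι → ℕ) (σ : ℕ → ℕ), (∀ i ∈ S, g i < t) ∧
      (∀ j < t, (S.filter (fun i => g i = j)).card = b) ∧ (∀ j < t, σ j < t) ∧
      (∀ j < t, σ (σ j) = j) ∧ ∀ i ∈ S, g (τ i) = σ (g i) := by
  induction t using Nat.strong_induction_on with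
  | _ t ih =>
    intro S hSc hS
    rcases Nat.lt_or_ge t 2 with ht | ht
    · interval_cases t
      · rw [mul_zero, Finset.card_eq_zero] at hSc
        subst hSc
        exact ⟨fun _ => 0, fun j => j, by simp, by simp, by simp, by simp, by simp⟩
      · refine ⟨fun _ => 0, fun j => j, by simp, ?_, by simp, by simp, by simp⟩
        intro j hj
        have : j = 0 := by omega
        subst this
        simpa using hSc
    -- removal of an invariant block
    have step1 : ∀ T ⊆ S, T.card = b → (∀ i ∈ T, τ i ∈ T) →
        ∃ (g : ι → ℕ) (σ : ℕ → ℕ), (∀ i ∈ S, g i < t) ∧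
          (∀ j < t, (S.filter (fun i => g i = j)).card = b) ∧ (∀ j < t, σ j < t) ∧
          (∀ j < t, σ (σ j) = j) ∧ ∀ i ∈ S, g (τ i) = σ (g i) := by
      intro T hTS hTc hT
      have hsd : ∀ i ∈ S \ T, τ i ∈ S \ T := by
        intro i hi
        rw [Finset.mem_sdiff] at hi ⊢
        refine ⟨hS i hi.1, fun h => hi.2 ?_⟩
        have := hT _ h
        rwa [hτ] at this
      obtain ⟨g, σ, h1, h2, h3, h4, h5⟩ := ih (t - 1) (by omega) (S \ T) (by
        rw [Finset.card_sdiff_of_subset hTS, hSc, hTc, Nat.mul_sub, mul_one]) hsd
      refine ⟨fun i => if i ∈ T then t - 1 else g i, fun j => if j = t - 1 then t - 1 else σ j,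
        ?_, ?_, ?_, ?_, ?_⟩
      · intro i hi
        dsimp only
        by_cases hiT : i ∈ T
        · rw [if_pos hiT]; omega
        · rw [if_neg hiT]
          have := h1 i (Finset.mem_sdiff.2 ⟨hi, hiT⟩)
          omega
      · intro j hj
        by_cases hjt : j = t - 1
        · rw [← hTc]
          congr 1
          ext i
          rw [Finset.mem_filter]
          dsimp only
          constructor
          · rintro ⟨hi, hgi⟩
            by_contra hiT
            rw [if_neg hiT] at hgi
            have := h1 i (Finset.mem_sdiff.2 ⟨hi, hiT⟩)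
            omega
          · intro hiT
            exact ⟨hTS hiT, by rw [if_pos hiT, hjt]⟩
        · rw [← h2 j (by omega)]
          congr 1
          ext i
          rw [Finset.mem_filter, Finset.mem_filter, Finset.mem_sdiff]
          dsimp only
          constructor
          · rintro ⟨hi, hgi⟩
            by_cases hiT : i ∈ T
            · rw [if_pos hiT] at hgi; omega
            · rw [if_neg hiT] at hgi
              exact ⟨⟨hi, hiT⟩, hgi⟩
          · rintro ⟨⟨hi, hiT⟩, hgi⟩
            exact ⟨hi, by rw [if_neg hiT]; exact hgi⟩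
      · intro j hj
        dsimp only
        by_cases hjt : j = t - 1
        · rw [if_pos hjt]; omega
        · rw [if_neg hjt]
          have := h3 j (by omega)
          omega
      · intro j hj
        dsimp only
        by_cases hjt : j = t - 1
        · rw [if_pos hjt, if_pos rfl, hjt]
        · have h3' := h3 j (by omega)
          rw [if_neg hjt, if_neg (by omega)]
          exact h4 j (by omega)
      · intro i hi
        dsimp only
        by_cases hiT : i ∈ T
        · rw [if_pos (hT i hiT), if_pos hiT, if_pos rfl]
        · have hi' : i ∈ S \ T := Finset.mem_sdiff.2 ⟨hi, hiT⟩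
          have h1' := h1 i hi'
          rw [if_neg (Finset.mem_sdiff.1 (hsd i hi')).2, if_neg hiT, if_neg (by omega)]
          exact h5 i hi'
    have hbS : b ≤ S.card := by
      rw [hSc]; exact Nat.le_mul_of_pos_right b (by omega)
    by_cases hcase : Even b ∨ ∃ f ∈ S, τ f = f
    · obtain ⟨T, hTS, hTc, hT⟩ : ∃ T ⊆ S, T.card = b ∧ ∀ i ∈ T, τ i ∈ T := by
        rcases Nat.even_or_odd b with hb | hb
        · obtain ⟨m, hm⟩ := hb
          have hm' : b = 2 * m := by omega
          obtain ⟨T, h1, h2, h3⟩ := exists_even τ hτ S hS m (by omega)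
          exact ⟨T, h1, by omega, h3⟩
        · rcases hcase with hc | ⟨f, hf, hff⟩
          · exact absurd hc (Nat.not_even_iff_odd.2 hb)
          · obtain ⟨m, hm⟩ := hb
            obtain ⟨T, h1, h2, h3⟩ := exists_odd τ hτ S hS f hf hff m (by omega)
            exact ⟨T, h1, by omega, h3⟩
      exact step1 T hTS hTc hT
    · push Not at hcase
      obtain ⟨_, hfree⟩ := hcase
      obtain ⟨T, hTS, hTc, hT⟩ := exists_half τ hτ S hfree b (by
        rw [hSc, mul_comm]; exact Nat.mul_le_mul_left b ht)
      have hT'S : T.image τ ⊆ S := by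
        intro i hi
        obtain ⟨j, hj, rfl⟩ := Finset.mem_image.1 hi
        exact hS j (hTS hj)
      have hτinj : Function.Injective τ := fun i j h => by rw [← hτ i, h, hτ]
      have hT'c : (T.image τ).card = b := by
        rw [Finset.card_image_of_injective _ hτinj, hTc]
      have hmem : ∀ i, τ i ∈ T.image τ ↔ i ∈ T := fun i => by
        rw [Finset.mem_image]
        exact ⟨fun ⟨j, hj, hji⟩ => hτinj hji ▸ hj, fun h => ⟨i, h, rfl⟩⟩
      have hmem' : ∀ i, τ i ∈ T ↔ i ∈ T.image τ := fun i => by
        rw [← hmem, hτ]
      have hU : T ∪ T.image τ ⊆ S := Finset.union_subset hTS hT'S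
      have hUc : (T ∪ T.image τ).card = b + b := by
        rw [Finset.card_union_of_disjoint hT, hTc, hT'c]
      have hsd : ∀ i ∈ S \ (T ∪ T.image τ), τ i ∈ S \ (T ∪ T.image τ) := by
        intro i hi
        rw [Finset.mem_sdiff, Finset.mem_union, not_or] at hi ⊢
        refine ⟨hS i hi.1, ?_, ?_⟩
        · rw [hmem']; exact hi.2.2
        · rw [hmem]; exact hi.2.1
      obtain ⟨g, σ, h1, h2, h3, h4, h5⟩ := ih (t - 2) (by omega) (S \ (T ∪ T.image τ)) (by
        rw [Finset.card_sdiff_of_subset hU, hSc, hUc, Nat.mul_sub]; omega) hsd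
      have hdj : ∀ i ∈ T, i ∉ T.image τ := fun i hi => Finset.disjoint_left.1 hT hi
      refine ⟨fun i => if i ∈ T then t - 1 else if i ∈ T.image τ then t - 2 else g i,
        fun j => if j = t - 1 then t - 2 else if j = t - 2 then t - 1 else σ j,
        ?_, ?_, ?_, ?_, ?_⟩
      · intro i hi
        dsimp only
        by_cases hiT : i ∈ T
        · rw [if_pos hiT]; omega
        · rw [if_neg hiT]
          by_cases hiT' : i ∈ T.image τ
          · rw [if_pos hiT']; omega
          · rw [if_neg hiT']
            have := h1 i (Finset.mem_sdiff.2 ⟨hi, by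
              rw [Finset.mem_union, not_or]; exact ⟨hiT, hiT'⟩⟩)
            omega
      · intro j hj
        by_cases hjt : j = t - 1
        · rw [← hTc]
          congr 1
          ext i
          rw [Finset.mem_filter]
          dsimp only
          constructor
          · rintro ⟨hi, hgi⟩
            by_contra hiT
            rw [if_neg hiT] at hgi
            by_cases hiT' : i ∈ T.image τ
            · rw [if_pos hiT'] at hgi; omega
            · rw [if_neg hiT'] at hgi
              have := h1 i (Finset.mem_sdiff.2 ⟨hi, by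
                rw [Finset.mem_union, not_or]; exact ⟨hiT, hiT'⟩⟩)
              omega
          · intro hiT
            exact ⟨hTS hiT, by rw [if_pos hiT, hjt]⟩
        by_cases hjt2 : j = t - 2
        · rw [← hT'c]
          congr 1
          ext i
          rw [Finset.mem_filter]
          dsimp only
          constructor
          · rintro ⟨hi, hgi⟩
            by_contra hiT'
            by_cases hiT : i ∈ T
            · rw [if_pos hiT] at hgi; omega
            rw [if_neg hiT, if_neg hiT'] at hgi
            have := h1 i (Finset.mem_sdiff.2 ⟨hi, by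
                rw [Finset.mem_union, not_or]; exact ⟨hiT, hiT'⟩⟩)
            omega
          · intro hiT'
            have hiT : i ∉ T := Finset.disjoint_right.1 hT hiT'
            exact ⟨hT'S hiT', by rw [if_neg hiT, if_pos hiT', hjt2]⟩
        · rw [← h2 j (by omega)]
          congr 1
          ext i
          rw [Finset.mem_filter, Finset.mem_filter, Finset.mem_sdiff, Finset.mem_union, not_or]
          dsimp only
          constructor
          · rintro ⟨hi, hgi⟩
            by_cases hiT : i ∈ T
            · rw [if_pos hiT] at hgi; omega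
            · rw [if_neg hiT] at hgi
              by_cases hiT' : i ∈ T.image τ
              · rw [if_pos hiT'] at hgi; omega
              · rw [if_neg hiT'] at hgi
                exact ⟨⟨hi, hiT, hiT'⟩, hgi⟩
          · rintro ⟨⟨hi, hiT, hiT'⟩, hgi⟩
            exact ⟨hi, by rw [if_neg hiT, if_neg hiT']; exact hgi⟩
      · intro j hj
        dsimp only
        by_cases hjt : j = t - 1
        · rw [if_pos hjt]; omega
        · rw [if_neg hjt]
          by_cases hjt2 : j = t - 2
          · rw [if_pos hjt2]; omega
          · rw [if_neg hjt2]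
            have := h3 j (by omega)
            omega
      · intro j hj
        dsimp only
        by_cases hjt : j = t - 1
        · rw [if_pos hjt, if_neg (by omega), if_pos rfl, hjt]
        · by_cases hjt2 : j = t - 2
          · rw [if_neg hjt, if_pos hjt2, if_pos rfl, hjt2]
          · have h3' := h3 j (by omega)
            rw [if_neg hjt, if_neg hjt2, if_neg (by omega), if_neg (by omega)]
            exact h4 j (by omega)
      · intro i hi
        dsimp only
        by_cases hiT : i ∈ T
        · have h6 : τ i ∉ T := by rw [hmem']; exact hdj i hiT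
          rw [if_neg h6, if_pos ((hmem i).2 hiT), if_pos hiT, if_pos rfl]
        · by_cases hiT' : i ∈ T.image τ
          · rw [if_pos ((hmem' i).2 hiT'), if_neg hiT, if_pos hiT', if_neg (by omega), if_pos rfl]
          · have hi' : i ∈ S \ (T ∪ T.image τ) := Finset.mem_sdiff.2 ⟨hi, by
                rw [Finset.mem_union, not_or]; exact ⟨hiT, hiT'⟩⟩
            have h1' := h1 i hi'
            have h6 := hsd i hi'
            rw [Finset.mem_sdiff, Finset.mem_union, not_or] at h6
            rw [if_neg h6.2.1, if_neg h6.2.2, if_neg hiT, if_neg hiT', if_neg (by omega),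
              if_neg (by omega)]
            exact h5 i hi'

/-- Partition of a finite type with an involution into `t` blocks of size `b` permuted by it. -/
theorem exists_fiber_map [Fintype ι] (b t : ℕ) (hc : Fintype.card ι = b * t) (τ : ι → ι)
    (hτ : ∀ i, τ (τ i) = i) : ∃ (g : ι → Fin t) (σ : Equiv.Perm (Fin t)),
      (∀ j, (Finset.univ.filter (fun i => g i = j)).card = b) ∧ ∀ i, g (τ i) = σ (g i) := by
  obtain ⟨g, σ, h1, h2, h3, h4, h5⟩ := exists_blocks b τ hτ t Finset.univ
    (by rw [Finset.card_univ, hc]) (fun _ _ => Finset.mem_univ _)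
  refine ⟨fun i => ⟨g i, h1 i (Finset.mem_univ i)⟩,
    ⟨fun j => ⟨σ j, h3 j j.2⟩, fun j => ⟨σ j, h3 j j.2⟩, fun j => Fin.ext (h4 j j.2),
      fun j => Fin.ext (h4 j j.2)⟩, ?_, ?_⟩
  · intro j
    rw [← h2 j j.2]
    congr 1
    ext i
    simp [Fin.ext_iff]
  · intro i
    exact Fin.ext (h5 i (Finset.mem_univ i))

end Cfsg.Agent.H952.Comb
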