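import Mathlib
import Cfsg.Agent.H952.AltInvol
import Cfsg.Agent.H952.Comb
import Cfsg.Agent.ClassicalGeometry.SympBasic
import Cfsg.Prelude.Def_GeometricClasses

/-!
Orthogonal decompositions permuted by an element with scalar square; the bridge from the matrix
symplectic group to isometries.
-/

set_option autoImplicit false

namespace Cfsg.Agent.H952.Alt

open Module Submodule Cfsg Cfsg.Agent.ClassicalGeometry.SympBasic

theorem exists_decomp {F V : Type*} [Field F] [AddCommGroup V] [Module F V]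
    [FiniteDimensional F V] {B : LinearMap.BilinForm F V} {x : Module.End F V} (hA : B.IsAlt)
    (hinj : Function.Injective x) (hx : ∀ u v, B (x u) (x v) = B u v) (z : F)
    (hxx : ∀ v, x (x v) = z • v) (hnd : Nd B ⊤) (a t : ℕ) (hae : Even a)
    (hdim : finrank F V = a * t) :
    ∃ D : Fin t → Submodule F V, OrthFam B D ∧ (∀ j, finrank F (D j) = a) ∧ ⨆ j, D j = ⊤ ∧
      ∃ σ : Equiv.Perm (Fin t), ∀ j, (D j).map x = D (σ j) := by
  classical
  obtain ⟨ι, _, E, τ, hE, hE2, hτ, hEx, htop⟩ :=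
    exists_atoms hA hinj hx z hxx _ ⊤ rfl hnd (fun _ _ => Submodule.mem_top)
  obtain ⟨b, hb⟩ := hae
  have hcard : Fintype.card ι = b * t := by
    have h1 := hE.finrank_sup hA Finset.univ
    rw [Finset.sup_univ_eq_iSup, htop, finrank_top, hdim, Finset.sum_congr rfl
      (fun i _ => hE2 i), Finset.sum_const, Finset.card_univ, smul_eq_mul, hb] at h1
    have h2 : 2 * (b * t) = 2 * Fintype.card ι := by linarith
    omega
  obtain ⟨g, σ, hg, hgσ⟩ := Comb.exists_fiber_map b t hcard τ hτ
  have hfr : ∀ j, finrank F ((Finset.univ.filter (fun i => g i = j)).sup E : Submodule F V) =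
      a := by
    intro j
    rw [hE.finrank_sup hA, Finset.sum_congr rfl (fun i _ => hE2 i), Finset.sum_const, hg,
      smul_eq_mul, hb]
    ring
  refine ⟨fun j => (Finset.univ.filter (fun i => g i = j)).sup E, ⟨fun j => hE.nd_sup hA _, ?_⟩,
    hfr, ?_, σ, ?_⟩
  · intro i j hij
    apply hE.orth_sup_sup hA
    rw [Finset.disjoint_left]
    intro k hk hk'
    rw [Finset.mem_filter] at hk hk'
    exact hij (hk.2.symm.trans hk'.2)
  · rw [eq_top_iff, ← htop]
    refine iSup_le fun i => ?_
    refine le_iSup_of_le (g i) ?_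
    exact Finset.le_sup (f := E) (by simp)
  · intro j
    apply Submodule.eq_of_le_of_finrank_eq
    · show ((Finset.univ.filter (fun i => g i = j)).sup E).map x ≤
        (Finset.univ.filter (fun i => g i = σ j)).sup E
      rw [Finset.sup_eq_iSup (Finset.univ.filter (fun i => g i = j)) E, Submodule.map_iSup]
      refine iSup_le fun i => ?_
      rw [Submodule.map_iSup]
      refine iSup_le fun hi => ?_
      rw [hEx]
      rw [Finset.mem_filter] at hi
      exact Finset.le_sup (f := E) (by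
        rw [Finset.mem_filter]
        exact ⟨Finset.mem_univ _, by rw [hgσ, hi.2]⟩)
    · rw [hfr]
      exact (Submodule.equivMapOfInjective x hinj _).symm.finrank_eq.trans (hfr j)

/-! ### The bridge to matrices -/

variable {F : Type*} [Field F] {d : ℕ}

theorem nd_top : Nd (sympBilin d F) (⊤ : Submodule F (Fin d ⊕ Fin d → F)) := by
  intro u _ hu
  by_contra h
  push Not at h
  exact hu (eq_zero_of_forall_sympForm_right fun v => h v Submodule.mem_top)

theorem toLin_isometry (x : ↥(Matrix.symplecticGroup (Fin d) F)) (u v : Fin d ⊕ Fin d → F) :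
    sympBilin d F (Matrix.toLin' (x : Matrix (Fin d ⊕ Fin d) (Fin d ⊕ Fin d) F) u)
      (Matrix.toLin' (x : Matrix (Fin d ⊕ Fin d) (Fin d ⊕ Fin d) F) v) = sympBilin d F u v := by
  rw [sympBilin_apply, sympBilin_apply, Matrix.toLin'_apply, Matrix.toLin'_apply]
  exact sympForm_mulVec x.2 u v

theorem injective_of_isometry {V : Type*} [AddCommGroup V] [Module F V]
    {B : LinearMap.BilinForm F V} (hnd : Nd B ⊤) {x : Module.End F V}
    (hx : ∀ u v, B (x u) (x v) = B u v) : Function.Injective x := by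
  rw [injective_iff_map_eq_zero]
  intro v hv
  by_contra h0
  obtain ⟨w, _, hne⟩ := hnd v Submodule.mem_top h0
  apply hne
  rw [← hx, hv, map_zero, LinearMap.zero_apply]

/-- From an isometry to a symplectic matrix. -/
theorem exists_symplectic (x : Module.End F (Fin d ⊕ Fin d → F))
    (hx : ∀ u v, sympBilin d F (x u) (x v) = sympBilin d F u v) :
    ∃ y : ↥(Matrix.symplecticGroup (Fin d) F),
      Matrix.toLin' (y : Matrix (Fin d ⊕ Fin d) (Fin d ⊕ Fin d) F) = x := by
  refine ⟨⟨LinearMap.toMatrix' x, ?_⟩, ?_⟩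
  · rw [mem_symplecticGroup_iff]
    intro u v
    have := hx u v
    rw [sympBilin_apply, sympBilin_apply] at this
    rwa [← Matrix.toLin'_apply, ← Matrix.toLin'_apply, Matrix.toLin'_toMatrix']
  · exact Matrix.toLin'_toMatrix' x

theorem isMDecomposition_of_orthFam {t a : ℕ} (ht : 2 ≤ t) (ha : 0 < a)
    {D : Fin t → Submodule F (Fin d ⊕ Fin d → F)} (hD : OrthFam (sympBilin d F) D)
    (hf : ∀ j, finrank F (D j) = a) (htop : ⨆ j, D j = ⊤) : Cfsg.Geo.IsMDecomposition a D :=
  ⟨ht, ha, hf, hD.indep sympBilin_isAlt, htop⟩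

theorem sq_scalar (x : ↥(Matrix.symplecticGroup (Fin d) F)) (z : F)
    (hz : ((x ^ 2 : ↥(Matrix.symplecticGroup (Fin d) F)) :
      Matrix (Fin d ⊕ Fin d) (Fin d ⊕ Fin d) F) =
        z • (1 : Matrix (Fin d ⊕ Fin d) (Fin d ⊕ Fin d) F)) (v : Fin d ⊕ Fin d → F) :
    Matrix.toLin' (x : Matrix (Fin d ⊕ Fin d) (Fin d ⊕ Fin d) F)
      (Matrix.toLin' (x : Matrix (Fin d ⊕ Fin d) (Fin d ⊕ Fin d) F) v) = z • v := by
  rw [Matrix.toLin'_apply, Matrix.toLin'_apply, Matrix.mulVec_mulVec, ← Submonoid.coe_mul,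
    ← sq, hz, Matrix.smul_mulVec, Matrix.one_mulVec]

end Cfsg.Agent.H952.Alt
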