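import Mathlib
import Cfsg.Agent.H952.SympBins
import Cfsg.Agent.H952.SympDecomp
import Cfsg.Agent.ClassicalGeometry.SympIso
import Cfsg.Agent.S0245

/-!
Existence of isometries of odd prime order `r` of an alternating form with commutator space of any
dimension `c * m`.
-/

set_option autoImplicit false

namespace Cfsg.Agent.H952.SympSemi

open Module Submodule Polynomial Cfsg
open Cfsg.Agent.H952.Alt Cfsg.Agent.H952.Semi
open Cfsg.Agent.ClassicalGeometry.SympBasic Cfsg.Agent.ClassicalGeometry.SympIso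

variable {F V : Type*} [Field F] [AddCommGroup V] [Module F V] {x : Module.End F V}
  {B : LinearMap.BilinForm F V}

/-- `x` is an isometry with `x ^ r = 1`, without fixed points on `W` and trivial on `Wᗮ`. -/
structure FreeOn (B : LinearMap.BilinForm F V) (x : Module.End F V) (r : ℕ)
    (W : Submodule F V) : Prop where
  isom : ∀ u v, B (x u) (x v) = B u v
  pow : x ^ r = 1
  inv : Inv x W
  fix : W ⊓ LinearMap.ker (x - 1) = ⊥
  triv : ∀ v ∈ B.orthogonal W, x v = v

theorem nd_restrict {W : Submodule F V} (hW : Nd B W) : ∀ u : W, (∀ v, B.restrict W u v = 0) →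
    u = 0 := by
  intro u hu
  by_contra h0
  obtain ⟨v, hv, hne⟩ := hW u u.2 (fun h => h0 (Subtype.ext h))
  exact hne (hu ⟨v, hv⟩)

theorem exists_freeOn_of_symp [FiniteDimensional F V] (hA : B.IsAlt) {r k : ℕ}
    {W : Submodule F V} (hW : Nd B W) (hWf : finrank F W = 2 * k)
    (y : Module.End F (Fin k ⊕ Fin k → F))
    (hy : ∀ u v, sympForm k F (y u) (y v) = sympForm k F u v) (hyr : y ^ r = 1)
    (hyf : LinearMap.ker (y - 1) = ⊥) : ∃ x : Module.End F V, FreeOn B x r W := by
  obtain ⟨e, he⟩ := exists_linearEquiv_sympForm (B.restrict W)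
    (fun v => hA (v : V)) (nd_restrict hW) hWf
  have he' : ∀ u v : W, sympForm k F (e.symm u) (e.symm v) = B (u : V) (v : V) := by
    intro u v
    rw [← he, e.apply_symm_apply, e.apply_symm_apply]
    rfl
  have hcompl := hW.isCompl hA
  let φ : W →ₗ[F] V := W.subtype.comp ((e : _ →ₗ[F] W).comp (y.comp (e.symm : W →ₗ[F] _)))
  let x : Module.End F V := LinearMap.ofIsCompl hcompl φ (B.orthogonal W).subtype
  have hxW : ∀ w : W, x (w : V) = (e (y (e.symm w)) : W) := by
    intro w
    exact LinearMap.ofIsCompl_apply_left hcompl w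
  have hxO : ∀ v ∈ B.orthogonal W, x v = v := by
    intro v hv
    exact LinearMap.ofIsCompl_apply_right hcompl ⟨v, hv⟩
  have hdec : ∀ v : V, ∃ w : W, ∃ z ∈ B.orthogonal W, v = (w : V) + z := by
    intro v
    have : v ∈ W ⊔ B.orthogonal W := by rw [hcompl.sup_eq_top]; exact Submodule.mem_top
    obtain ⟨a, ha, b, hb, rfl⟩ := Submodule.mem_sup.1 this
    exact ⟨⟨a, ha⟩, b, hb, rfl⟩
  have hpowW : ∀ (n : ℕ) (w : W), (x ^ n) (w : V) = (e ((y ^ n) (e.symm w)) : W) := by
    intro n
    induction n with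
    | zero => intro w; simp
    | succ n ih =>
      intro w
      rw [pow_succ', Module.End.mul_apply, ih, hxW, e.symm_apply_apply, pow_succ',
        Module.End.mul_apply]
  have hpowO : ∀ (n : ℕ), ∀ v ∈ B.orthogonal W, (x ^ n) v = v := by
    intro n
    induction n with
    | zero => intro v _; simp
    | succ n ih =>
      intro v hv
      rw [pow_succ, Module.End.mul_apply, hxO v hv, ih v hv]
  refine ⟨x, ?_, ?_, ?_, ?_, hxO⟩
  · intro u v
    obtain ⟨w, z, hz, rfl⟩ := hdec u
    obtain ⟨w', z', hz', rfl⟩ := hdec v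
    simp only [map_add, LinearMap.add_apply, hxW, hxO z hz, hxO z' hz']
    have h1 : B ((e (y (e.symm w)) : W) : V) ((e (y (e.symm w')) : W) : V) = B (w : V) w' := by
      rw [← he', ← he', e.symm_apply_apply, e.symm_apply_apply, hy]
    rw [h1, (mem_orth hA).1 hz _ (e (y (e.symm w'))).2, (mem_orth hA).1 hz _ w'.2,
      eq_zero_swap hA ((mem_orth hA).1 hz' _ (e (y (e.symm w))).2),
      eq_zero_swap hA ((mem_orth hA).1 hz' _ w.2)]
  · apply LinearMap.ext
    intro v
    obtain ⟨w, z, hz, rfl⟩ := hdec v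
    rw [map_add, hpowW, hpowO r z hz, hyr, Module.End.one_apply, e.apply_symm_apply,
      Module.End.one_apply]
  · intro v hv
    rw [hxW ⟨v, hv⟩]
    exact (e _).2
  · rw [eq_bot_iff]
    intro v hv
    rw [Submodule.mem_bot]
    have h1 := mem_ker_sub.1 hv.2
    rw [hxW ⟨v, hv.1⟩] at h1
    have h2 : e (y (e.symm ⟨v, hv.1⟩)) = ⟨v, hv.1⟩ := Subtype.ext h1
    have h3 : y (e.symm ⟨v, hv.1⟩) = e.symm ⟨v, hv.1⟩ := by
      apply e.injective
      rw [h2, e.apply_symm_apply]
    have h4 : e.symm ⟨v, hv.1⟩ ∈ LinearMap.ker (y - 1) := mem_ker_sub.2 h3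
    rw [hyf, Submodule.mem_bot, LinearEquiv.map_eq_zero_iff] at h4
    exact congrArg Subtype.val h4

theorem FreeOn.mul [FiniteDimensional F V] (hA : B.IsAlt) {r : ℕ} {x y : Module.End F V}
    {W W' : Submodule F V} (hW : Nd B W) (hW' : Nd B W')
    (ho : ∀ u ∈ W, ∀ v ∈ W', B u v = 0) (hx : FreeOn B x r W) (hy : FreeOn B y r W') :
    FreeOn B (x * y) r (W ⊔ W') := by
  have hWW' : ∀ v ∈ W', x v = v := fun v hv =>
    hx.triv v ((mem_orth hA).2 fun u hu => eq_zero_swap hA (ho u hu v hv))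
  have hW'W : ∀ v ∈ W, y v = v := fun v hv =>
    hy.triv v ((mem_orth hA).2 fun u hu => ho v hv u hu)
  have hn := hW.sup hA hW' ho
  have hdec : ∀ v : V, ∃ a ∈ W, ∃ b ∈ W', ∃ z ∈ B.orthogonal (W ⊔ W'), v = a + b + z := by
    intro v
    have : v ∈ (W ⊔ W') ⊔ B.orthogonal (W ⊔ W') := by
      rw [(hn.isCompl hA).sup_eq_top]; exact Submodule.mem_top
    obtain ⟨w, hw, z, hz, rfl⟩ := Submodule.mem_sup.1 this
    obtain ⟨a, ha, b, hb, rfl⟩ := Submodule.mem_sup.1 hw
    exact ⟨a, ha, b, hb, z, hz, rfl⟩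
  have hO : ∀ z ∈ B.orthogonal (W ⊔ W'), x z = z ∧ y z = z := by
    intro z hz
    rw [mem_orth hA] at hz
    exact ⟨hx.triv z ((mem_orth hA).2 fun u hu => hz u (Submodule.mem_sup_left hu)),
      hy.triv z ((mem_orth hA).2 fun u hu => hz u (Submodule.mem_sup_right hu))⟩
  have hcomm : Commute x y := by
    apply LinearMap.ext
    intro v
    obtain ⟨a, ha, b, hb, z, hz, rfl⟩ := hdec v
    rw [Module.End.mul_apply, Module.End.mul_apply]
    simp only [map_add, hW'W a ha, hWW' b hb, (hO z hz).1, (hO z hz).2,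
      hWW' _ (hy.inv b hb), hW'W _ (hx.inv a ha)]
  refine ⟨?_, ?_, ?_, ?_, ?_⟩
  · intro u v
    rw [Module.End.mul_apply, Module.End.mul_apply, hx.isom, hy.isom]
  · rw [hcomm.mul_pow, hx.pow, hy.pow, one_mul]
  · intro v hv
    obtain ⟨a, ha, b, hb, rfl⟩ := Submodule.mem_sup.1 hv
    rw [Module.End.mul_apply, map_add, hW'W a ha, map_add, hWW' _ (hy.inv b hb)]
    exact Submodule.add_mem_sup (hx.inv a ha) (hy.inv b hb)
  · rw [eq_bot_iff]
    intro v hv
    obtain ⟨a, ha, b, hb, rfl⟩ := Submodule.mem_sup.1 hv.1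
    have h1 := mem_ker_sub.1 hv.2
    rw [Module.End.mul_apply, map_add, hW'W a ha, map_add, hWW' _ (hy.inv b hb)] at h1
    have hdis := disjoint_of_orth hA hW ho
    have h2 : x a - a = b - y b := by
      rw [sub_eq_sub_iff_add_eq_add, h1, add_comm]
    have h3 : x a - a = 0 := by
      refine (Submodule.disjoint_def.1 hdis) _ (Submodule.sub_mem _ (hx.inv a ha) ha) ?_
      rw [h2]
      exact Submodule.sub_mem _ hb (hy.inv b hb)
    have h4 : a ∈ W ⊓ LinearMap.ker (x - 1) := ⟨ha, mem_ker_sub.2 (sub_eq_zero.1 h3)⟩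
    have h5 : b ∈ W' ⊓ LinearMap.ker (y - 1) := ⟨hb, mem_ker_sub.2 (sub_eq_zero.1 (by
      rw [← neg_sub, ← h2, h3, neg_zero]))⟩
    rw [hx.fix, Submodule.mem_bot] at h4
    rw [hy.fix, Submodule.mem_bot] at h5
    rw [h4, h5, add_zero]
    exact Submodule.zero_mem _
  · intro v hv
    rw [Module.End.mul_apply, (hO v hv).2, (hO v hv).1]

theorem FreeOn.finrank_range [FiniteDimensional F V] (hA : B.IsAlt) {r : ℕ}
    {W : Submodule F V} (hW : Nd B W) (hx : FreeOn B x r W) :
    finrank F (LinearMap.range (x - 1)) = finrank F W := by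
  have h1 : LinearMap.range (x - 1) = W.map (x - 1) := by
    apply le_antisymm
    · rintro _ ⟨v, rfl⟩
      have : v ∈ W ⊔ B.orthogonal W := by
        rw [(hW.isCompl hA).sup_eq_top]; exact Submodule.mem_top
      obtain ⟨a, ha, b, hb, rfl⟩ := Submodule.mem_sup.1 this
      refine ⟨a, ha, ?_⟩
      simp [LinearMap.sub_apply, hx.triv b hb]
    · exact LinearMap.map_le_range
  have h2 := finrank_fix_add (x := x) (W := W)
  rw [hx.fix, finrank_bot] at h2
  rw [h1]
  omega

theorem orderOf_pos {q r : ℕ} [Fact r.Prime] (hqr : r.Coprime q) :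
    0 < orderOf ((q : ℕ) : ZMod r) := by
  rw [← ZMod.coe_unitOfCoprime q hqr.symm, orderOf_units]
  exact _root_.orderOf_pos _

theorem coprime_card [Fintype F] {r : ℕ} [Fact r.Prime] (hrF : (r : F) ≠ 0) :
    r.Coprime (Fintype.card F) := by
  rw [Nat.Prime.coprime_iff_not_dvd (Fact.out : r.Prime)]
  intro h
  apply hrF
  obtain ⟨p, hp⟩ := CharP.exists F
  haveI := Fact.mk (CharP.char_is_prime F p)
  obtain ⟨n, hp', hn⟩ := FiniteField.card F p
  rw [hn] at h
  have h2 := (Nat.Prime.dvd_of_dvd_pow (Fact.out : r.Prime) h)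
  rw [(Nat.prime_dvd_prime_iff_eq (Fact.out : r.Prime) hp').1 h2]
  exact CharP.cast_eq_zero F p

/-- `c` divides `n` if and only if `i` divides `n` and `n` is even. -/
theorem cc_dvd_iff {q r n : ℕ} : cc q r ∣ 2 * n ↔ orderOf ((q : ℕ) : ZMod r) ∣ 2 * n := by
  rw [cc]
  split_ifs with h
  · exact Iff.rfl
  · constructor
    · intro h1
      exact (Dvd.intro_left _ rfl).trans h1
    · intro h1
      apply Nat.mul_dvd_mul_left
      exact (Nat.Coprime.dvd_of_dvd_mul_left (Nat.coprime_two_right.2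
        (Nat.not_even_iff_odd.1 h)) h1)

theorem exists_symp_elem [Fintype F] {r : ℕ} [Fact r.Prime] (hrF : (r : F) ≠ 0) {k : ℕ}
    (hk : 2 * k = cc (Fintype.card F) r) :
    ∃ y : Module.End F (Fin k ⊕ Fin k → F),
      (∀ u v, sympForm k F (y u) (y v) = sympForm k F u v) ∧ y ^ r = 1 ∧
        LinearMap.ker (y - 1) = ⊥ := by
  have hr := (Fact.out : r.Prime)
  have hcop := coprime_card (F := F) hrF
  have hord := orderOf_pos hcop
  have hc0 := cc_pos hord
  have hk0 : 0 < k := by omega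
  have hcard := Cfsg.Agent.S0245.result (F := F) rfl k
  have hdvd : r ∣ Nat.card (Matrix.symplecticGroup (Fin k) F) := by
    rw [hcard]
    refine Dvd.dvd.mul_left ?_ _
    refine Dvd.dvd.trans ?_ (Finset.dvd_prod_of_mem _ (Finset.mem_range.2
      (show k - 1 < k by omega)))
    rw [Nat.sub_add_cancel hk0, dvd_pow_sub_one_iff Fintype.card_pos, ← cc_dvd_iff, hk]
  haveI : Finite (Matrix.symplecticGroup (Fin k) F) := by
    apply Nat.finite_of_card_ne_zero
    rw [hcard]
    apply mul_ne_zero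
    · exact pow_ne_zero _ Fintype.card_pos.ne'
    · rw [Finset.prod_ne_zero_iff]
      intro j _
      have := Nat.one_lt_pow (show 2 * (j + 1) ≠ 0 by omega) (Fintype.one_lt_card (α := F))
      omega
  obtain ⟨g, hg⟩ := exists_prime_orderOf_dvd_card' r hdvd
  set y : Module.End F (Fin k ⊕ Fin k → F) :=
    Matrix.toLin' (g : Matrix (Fin k ⊕ Fin k) (Fin k ⊕ Fin k) F) with hy
  have hpow : ∀ n : ℕ, y ^ n = Matrix.toLin'
      ((g ^ n : Matrix.symplecticGroup (Fin k) F) :
        Matrix (Fin k ⊕ Fin k) (Fin k ⊕ Fin k) F) := by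
    intro n
    rw [hy, ← Matrix.toLin'_pow]
    rfl
  have hyr : y ^ r = 1 := by
    rw [hpow, ← hg, pow_orderOf_eq_one]
    exact Matrix.toLin'_one
  have hisom : ∀ u v, sympForm k F (y u) (y v) = sympForm k F u v := by
    intro u v
    have := toLin_isometry g u v
    rwa [sympBilin_apply, sympBilin_apply] at this
  refine ⟨y, hisom, hyr, ?_⟩
  have hA : (sympBilin k F).IsAlt := sympBilin_isAlt
  have hT : Inv y (⊤ : Submodule F (Fin k ⊕ Fin k → F)) := fun _ _ => Submodule.mem_top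
  have hdv := cc_dvd_comm (B := sympBilin k F) hA hrF hyr hisom nd_top hT
  have hfr := finrank_fix_add (x := y) (W := (⊤ : Submodule F (Fin k ⊕ Fin k → F)))
  rw [finrank_top, Module.finrank_fintype_fun_eq_card, Fintype.card_sum, Fintype.card_fin,
    top_inf_eq] at hfr
  rcases Nat.eq_zero_or_pos (finrank F ((⊤ : Submodule F (Fin k ⊕ Fin k → F)).map (y - 1)))
    with h0 | h0
  · exfalso
    have h1 : y - 1 = 0 := by
      rw [← LinearMap.range_eq_bot, LinearMap.range_eq_map]
      exact Submodule.finrank_eq_zero.1 h0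
    have h2 : g = 1 := by
      apply Subtype.ext
      apply Matrix.toLin'.injective
      rw [← hy, sub_eq_zero.1 h1]
      exact Matrix.toLin'_one.symm
    rw [h2, orderOf_one] at hg
    exact hr.one_lt.ne hg
  · have h1 := Nat.le_of_dvd h0 hdv
    rw [← Submodule.finrank_eq_zero (R := F)]
    omega

theorem exists_freeOn [FiniteDimensional F V] [Fintype F] (hA : B.IsAlt) {r : ℕ}
    [Fact r.Prime] (hrF : (r : F) ≠ 0) (m : ℕ) : ∀ W : Submodule F V, Nd B W →
      finrank F W = cc (Fintype.card F) r * m → ∃ x : Module.End F V, FreeOn B x r W := by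
  have hord := orderOf_pos (coprime_card (F := F) hrF)
  have hc0 := cc_pos hord
  obtain ⟨k, hk⟩ := cc_even (Fintype.card F) r
  induction m with
  | zero =>
    intro W _ hWf
    rw [mul_zero] at hWf
    have hW0 := Submodule.finrank_eq_zero.1 hWf
    refine ⟨1, fun _ _ => rfl, one_pow r, fun v hv => hv, ?_, fun v _ => rfl⟩
    rw [hW0, bot_inf_eq]
  | succ m ih =>
    intro W hW hWf
    obtain ⟨E, hEW, hE, hEf⟩ := exists_even_dim hA k W hW (by
      rw [hWf, mul_add, mul_one]; omega)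
    obtain ⟨y, hy1, hy2, hy3⟩ := exists_symp_elem (F := F) (r := r) hrF (k := k) (by omega)
    obtain ⟨x1, hx1⟩ := exists_freeOn_of_symp hA hE hEf y hy1 hy2 hy3
    have hfr := split_finrank hA hE hEW
    obtain ⟨x2, hx2⟩ := ih (W ⊓ B.orthogonal E) (split_nd hA hW hE hEW) (by
      rw [mul_add, mul_one] at hWf
      omega)
    have := hx1.mul hA hE (split_nd hA hW hE hEW) (split_orth hA) hx2
    rw [split_sup hA hE hEW] at this
    exact ⟨_, this⟩

end Cfsg.Agent.H952.SympSemi
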