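import Mathlib
import Cfsg.Agent.H952.SympTrans

/-!
The number of non-degenerate subspaces of given dimension of a symplectic space.
-/

set_option autoImplicit false
set_option linter.unusedSectionVars false

namespace Cfsg.Agent.H952.NdSub

open Module Submodule Cfsg
open Cfsg.Agent.H952.Alt Cfsg.Agent.H952.Semi Cfsg.Agent.H952.SympSemi
open Cfsg.Agent.H952.SympTrans
open Cfsg.Agent.ClassicalGeometry.SympBasic Cfsg.Agent.ClassicalGeometry.SympIso

variable {F V : Type*} [Field F] [AddCommGroup V] [Module F V] [FiniteDimensional F V]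
  {B : LinearMap.BilinForm F V}

theorem nd_orth (hA : B.IsAlt) (hV : Nd B ⊤) {W : Submodule F V} (hW : Nd B W) :
    Nd B (B.orthogonal W) := by
  have := split_nd hA hV hW le_top
  rwa [top_inf_eq] at this

theorem finrank_orth (hA : B.IsAlt) {W : Submodule F V} (hW : Nd B W) :
    finrank F W + finrank F (B.orthogonal W) = finrank F V :=
  Submodule.finrank_add_eq_of_isCompl (hW.isCompl hA)

/-- Gluing isometries. -/
theorem glue (hA : B.IsAlt) {W W' : Submodule F V} (hW : Nd B W)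
    (φ : W →ₗ[F] V) (hφ : ∀ w, φ w ∈ W') (hφB : ∀ u v : W, B (φ u) (φ v) = B (u : V) v)
    (ψ : B.orthogonal W →ₗ[F] V) (hψ : ∀ w, ψ w ∈ B.orthogonal W')
    (hψB : ∀ u v : B.orthogonal W, B (ψ u) (ψ v) = B (u : V) v) :
    ∃ T : Module.End F V, (∀ u v, B (T u) (T v) = B u v) ∧ (∀ w : W, T w = φ w) ∧
      ∀ z : B.orthogonal W, T z = ψ z := by
  have hcompl := hW.isCompl hA
  refine ⟨LinearMap.ofIsCompl hcompl φ ψ, ?_, fun w => LinearMap.ofIsCompl_apply_left hcompl w,
    fun z => LinearMap.ofIsCompl_apply_right hcompl z⟩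
  have hl : ∀ w : W, LinearMap.ofIsCompl hcompl φ ψ w = φ w :=
    fun w => LinearMap.ofIsCompl_apply_left hcompl w
  have hr : ∀ z : B.orthogonal W, LinearMap.ofIsCompl hcompl φ ψ z = ψ z :=
    fun z => LinearMap.ofIsCompl_apply_right hcompl z
  have hdec : ∀ v : V, ∃ w : W, ∃ z : B.orthogonal W, v = (w : V) + z := by
    intro v
    have : v ∈ W ⊔ B.orthogonal W := by rw [hcompl.sup_eq_top]; exact Submodule.mem_top
    obtain ⟨a, ha, b, hb, rfl⟩ := Submodule.mem_sup.1 this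
    exact ⟨⟨a, ha⟩, ⟨b, hb⟩, rfl⟩
  intro u v
  obtain ⟨w, z, rfl⟩ := hdec u
  obtain ⟨w', z', rfl⟩ := hdec v
  have e1 : LinearMap.ofIsCompl hcompl φ ψ ((w : V) + z) = φ w + ψ z := by
    rw [map_add, hl, hr]
  have e2 : LinearMap.ofIsCompl hcompl φ ψ ((w' : V) + z') = φ w' + ψ z' := by
    rw [map_add, hl, hr]
  rw [e1, e2]
  simp only [map_add, LinearMap.add_apply]
  rw [hφB, hψB, (mem_orth hA).1 (hψ z) _ (hφ w'), (mem_orth hA).1 z.2 _ w'.2,
    eq_zero_swap hA ((mem_orth hA).1 (hψ z') _ (hφ w)),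
    eq_zero_swap hA ((mem_orth hA).1 z'.2 _ w.2)]

/-- Isometries between non-degenerate subspaces of the same dimension. -/
theorem exists_iso (hA : B.IsAlt) {W W' : Submodule F V} (hW : Nd B W) (hW' : Nd B W')
    (h : finrank F W = finrank F W') :
    ∃ φ : W ≃ₗ[F] W', ∀ u v : W, B (φ u : V) (φ v : V) = B (u : V) v := by
  obtain ⟨k, hk⟩ := even_finrank hA _ W rfl hW
  obtain ⟨e, he⟩ := exists_linearEquiv_sympForm (k := k) (B.restrict W)
    (fun v => hA (v : V)) (nd_restrict hW) (by omega)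
  obtain ⟨e', he'⟩ := exists_linearEquiv_sympForm (k := k) (B.restrict W')
    (fun v => hA (v : V)) (nd_restrict hW') (by omega)
  refine ⟨e.symm.trans e', fun u v => ?_⟩
  have h1 := he (e.symm u) (e.symm v)
  have h2 := he' (e.symm u) (e.symm v)
  rw [e.apply_symm_apply, e.apply_symm_apply] at h1
  exact h2.trans h1.symm

/-- Transitivity on non-degenerate subspaces. -/
theorem exists_move (hA : B.IsAlt) (hV : Nd B ⊤) {W W' : Submodule F V} (hW : Nd B W)
    (hW' : Nd B W') (h : finrank F W = finrank F W') :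
    ∃ T : Module.End F V, (∀ u v, B (T u) (T v) = B u v) ∧ W.map T = W' := by
  obtain ⟨φ, hφ⟩ := exists_iso hA hW hW' h
  have h1 := finrank_orth hA hW
  have h2 := finrank_orth hA hW'
  obtain ⟨ψ, hψ⟩ := exists_iso hA (nd_orth hA hV hW) (nd_orth hA hV hW') (by omega)
  obtain ⟨T, hT, hTl, _⟩ := glue hA (W' := W') hW (W'.subtype.comp (φ : W →ₗ[F] W'))
    (fun w => (φ w).2) hφ ((B.orthogonal W').subtype.comp (ψ : _ →ₗ[F] _))
    (fun w => (ψ w).2) hψ
  refine ⟨T, hT, ?_⟩
  apply le_antisymm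
  · rintro _ ⟨w, hw, rfl⟩
    have := hTl ⟨w, hw⟩
    rw [show T w = _ from this]
    exact (φ ⟨w, hw⟩).2
  · intro w hw
    refine ⟨φ.symm ⟨w, hw⟩, (φ.symm ⟨w, hw⟩).2, ?_⟩
    rw [hTl]
    show ((φ (φ.symm ⟨w, hw⟩) : W') : V) = w
    rw [φ.apply_symm_apply]

/-! ### Counting -/

/-- The symplectic group of `Wᗮ` embeds into the stabiliser of `W`. -/
theorem exists_hom {d l : ℕ} {W : Submodule F (Fin d ⊕ Fin d → F)}
    (hW : Nd (sympBilin d F) W) (hl : finrank F W + 2 * l = 2 * d) :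
    ∃ f : ↥(Matrix.symplecticGroup (Fin l) F) →* ↥(Matrix.symplecticGroup (Fin d) F),
      Function.Injective f ∧ ∀ g, W.map (Matrix.toLin'
        (f g : Matrix (Fin d ⊕ Fin d) (Fin d ⊕ Fin d) F)) = W := by
  have hA : (sympBilin d F).IsAlt := sympBilin_isAlt
  have hWo := nd_orth hA nd_top hW
  have hfr := finrank_orth hA hW
  have hd : finrank F (Fin d ⊕ Fin d → F) = 2 * d := by
    rw [Module.finrank_fintype_fun_eq_card]
    simp; omega
  obtain ⟨e, he⟩ := exists_linearEquiv_sympForm (k := l)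
    (LinearMap.BilinForm.restrict (sympBilin d F)
      (LinearMap.BilinForm.orthogonal (sympBilin d F) W))
    (fun v => hA (v : Fin d ⊕ Fin d → F)) (nd_restrict hWo) (by omega)
  have he2 : ∀ u v, sympBilin d F (e u : Fin d ⊕ Fin d → F) (e v : Fin d ⊕ Fin d → F) =
      sympForm l F u v := he
  have hex : ∀ h : ↥(Matrix.symplecticGroup (Fin l) F),
      ∃ y : ↥(Matrix.symplecticGroup (Fin d) F),
        (∀ w : W, Matrix.toLin' (y : Matrix (Fin d ⊕ Fin d) (Fin d ⊕ Fin d) F) w = w) ∧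
        ∀ z : LinearMap.BilinForm.orthogonal (sympBilin d F) W,
          Matrix.toLin' (y : Matrix (Fin d ⊕ Fin d) (Fin d ⊕ Fin d) F) z =
            e (Matrix.toLin' (h : Matrix (Fin l ⊕ Fin l) (Fin l ⊕ Fin l) F) (e.symm z)) := by
    intro h
    obtain ⟨T, hT, hTl, hTr⟩ := glue hA (W' := W) hW W.subtype (fun w => w.2) (fun _ _ => rfl)
      ((LinearMap.BilinForm.orthogonal (sympBilin d F) W).subtype.comp ((e : _ →ₗ[F] _).comp
        ((Matrix.toLin' (h : Matrix (Fin l ⊕ Fin l) (Fin l ⊕ Fin l) F)).comp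
          (e.symm : _ →ₗ[F] _)))) (fun z => (e _).2) (by
        intro u v
        have h1 := toLin_isometry h (e.symm u) (e.symm v)
        have h2 := he2 (e.symm u) (e.symm v)
        rw [e.apply_symm_apply, e.apply_symm_apply] at h2
        rw [h2]
        exact (he2 _ _).trans h1)
    obtain ⟨y, hy⟩ := exists_symplectic T hT
    refine ⟨y, fun w => ?_, fun z => ?_⟩
    · rw [hy]
      exact hTl w
    · rw [hy]
      exact hTr z
  choose f hf1 hf2 using hex
  have huniq : ∀ y y' : ↥(Matrix.symplecticGroup (Fin d) F),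
      (∀ w : W, Matrix.toLin' (y : Matrix (Fin d ⊕ Fin d) (Fin d ⊕ Fin d) F) w =
        Matrix.toLin' (y' : Matrix (Fin d ⊕ Fin d) (Fin d ⊕ Fin d) F) w) →
      (∀ z : LinearMap.BilinForm.orthogonal (sympBilin d F) W,
        Matrix.toLin' (y : Matrix (Fin d ⊕ Fin d) (Fin d ⊕ Fin d) F) z =
        Matrix.toLin' (y' : Matrix (Fin d ⊕ Fin d) (Fin d ⊕ Fin d) F) z) → y = y' := by
    intro y y' h1 h2
    apply Subtype.ext
    apply (Matrix.toLin' (R := F)).injective
    apply LinearMap.ext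
    intro v
    have : v ∈ W ⊔ LinearMap.BilinForm.orthogonal (sympBilin d F) W := by
      rw [(hW.isCompl hA).sup_eq_top]; exact Submodule.mem_top
    obtain ⟨a, ha, b, hb, rfl⟩ := Submodule.mem_sup.1 this
    rw [map_add, map_add]
    exact congrArg₂ _ (h1 ⟨a, ha⟩) (h2 ⟨b, hb⟩)
  refine ⟨MonoidHom.mk' f ?_, ?_, ?_⟩
  · intro g h
    apply huniq
    · intro w
      rw [hf1, Submonoid.coe_mul, Matrix.toLin'_mul, LinearMap.comp_apply, hf1, hf1]
    · intro z
      rw [hf2, Submonoid.coe_mul, Submonoid.coe_mul, Matrix.toLin'_mul, Matrix.toLin'_mul,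
        LinearMap.comp_apply, LinearMap.comp_apply, hf2, hf2, e.symm_apply_apply]
  · intro g h hgh
    have hgh' : f g = f h := hgh
    apply Subtype.ext
    apply (Matrix.toLin' (R := F)).injective
    apply LinearMap.ext
    intro v
    have h1 := hf2 g (e v)
    rw [hgh', hf2, e.symm_apply_apply] at h1
    exact (e.injective (Subtype.ext h1)).symm
  · intro g
    apply le_antisymm
    · rintro _ ⟨w, hw, rfl⟩
      change Matrix.toLin' (f g : Matrix (Fin d ⊕ Fin d) (Fin d ⊕ Fin d) F) w ∈ W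
      rw [show Matrix.toLin' (f g : Matrix (Fin d ⊕ Fin d) (Fin d ⊕ Fin d) F) w = _ from
        hf1 g ⟨w, hw⟩]
      exact hw
    · intro w hw
      exact ⟨w, hw, hf1 g ⟨w, hw⟩⟩

/-- The number of non-degenerate subspaces, times the order of the smaller symplectic group,
divides the order of the symplectic group. -/
theorem card_nd_dvd [Fintype F] {d k : ℕ} (hk : k ≤ d) :
    Nat.card {W : Submodule F (Fin d ⊕ Fin d → F) //
      finrank F W = 2 * k ∧ Nd (sympBilin d F) W} *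
      Nat.card (Matrix.symplecticGroup (Fin (d - k)) F) ∣
        Nat.card (Matrix.symplecticGroup (Fin d) F) := by
  have hA : (sympBilin d F).IsAlt := sympBilin_isAlt
  have hd : finrank F (Fin d ⊕ Fin d → F) = 2 * d := by
    rw [Module.finrank_fintype_fun_eq_card]
    simp; omega
  obtain ⟨W0, _, hW0, hW0f⟩ := exists_even_dim hA k ⊤ nd_top (by rw [finrank_top, hd]; omega)
  have hact1 : ∀ W : Submodule F (Fin d ⊕ Fin d → F), W.map (Matrix.toLin'
      ((1 : ↥(Matrix.symplecticGroup (Fin d) F)) : Matrix (Fin d ⊕ Fin d) (Fin d ⊕ Fin d) F)) = W := by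
    intro W
    rw [Submonoid.coe_one, Matrix.toLin'_one, Submodule.map_id]
  have hact2 : ∀ (g h : ↥(Matrix.symplecticGroup (Fin d) F))
      (W : Submodule F (Fin d ⊕ Fin d → F)), W.map (Matrix.toLin'
      ((g * h : ↥(Matrix.symplecticGroup (Fin d) F)) : Matrix (Fin d ⊕ Fin d) (Fin d ⊕ Fin d) F)) =
      (W.map (Matrix.toLin' (h : Matrix (Fin d ⊕ Fin d) (Fin d ⊕ Fin d) F))).map
        (Matrix.toLin' (g : Matrix (Fin d ⊕ Fin d) (Fin d ⊕ Fin d) F)) := by
    intro g h W
    rw [Submonoid.coe_mul, Matrix.toLin'_mul, Submodule.map_comp]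
  have hact3 : ∀ (g : ↥(Matrix.symplecticGroup (Fin d) F))
      (W : Submodule F (Fin d ⊕ Fin d → F)), finrank F W = 2 * k ∧ Nd (sympBilin d F) W →
      finrank F (W.map (Matrix.toLin' (g : Matrix (Fin d ⊕ Fin d) (Fin d ⊕ Fin d) F)) :
        Submodule F (Fin d ⊕ Fin d → F)) = 2 * k ∧
      Nd (sympBilin d F) (W.map (Matrix.toLin' (g : Matrix (Fin d ⊕ Fin d) (Fin d ⊕ Fin d) F))) := by
    rintro g W ⟨h1, h2⟩
    have hinj := injective_of_isometry nd_top (toLin_isometry g)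
    refine ⟨?_, ?_⟩
    · rw [← h1]
      exact (Submodule.equivMapOfInjective _ hinj W).symm.finrank_eq
    · rintro _ ⟨u, hu, rfl⟩ h0
      obtain ⟨v, hv, hne⟩ := h2 u hu (fun h => h0 (by rw [h, map_zero]))
      exact ⟨_, ⟨v, hv, rfl⟩, by rw [toLin_isometry]; exact hne⟩
  have hact4 : ∀ W : Submodule F (Fin d ⊕ Fin d → F), finrank F W = 2 * k ∧
      Nd (sympBilin d F) W → ∃ g : ↥(Matrix.symplecticGroup (Fin d) F),
      W0.map (Matrix.toLin' (g : Matrix (Fin d ⊕ Fin d) (Fin d ⊕ Fin d) F)) = W := by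
    rintro W ⟨h1, h2⟩
    obtain ⟨T, hT, hTW⟩ := exists_move hA nd_top hW0 h2 (by rw [hW0f, h1])
    obtain ⟨y, hy⟩ := exists_symplectic T hT
    exact ⟨y, by rw [hy]; exact hTW⟩
  obtain ⟨S, hS, hcard⟩ := CountGen.card_orbit
    (G := ↥(Matrix.symplecticGroup (Fin d) F))
    (fun g (W : Submodule F (Fin d ⊕ Fin d → F)) => W.map (Matrix.toLin'
      (g : Matrix (Fin d ⊕ Fin d) (Fin d ⊕ Fin d) F))) hact1 hact2
    (fun W => finrank F W = 2 * k ∧ Nd (sympBilin d F) W) W0 ⟨hW0f, hW0⟩ hact3 hact4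
  obtain ⟨f, hf, hfW⟩ := exists_hom (l := d - k) hW0 (by omega)
  have h1 : Nat.card ↥(Matrix.symplecticGroup (Fin (d - k)) F) ∣ Nat.card S := by
    have hf' : ∀ g, f g ∈ S := fun g => (hS _).2 (hfW g)
    exact Subgroup.card_dvd_of_injective (f.codRestrict S hf') (fun a b hab =>
      hf (congrArg Subtype.val hab))
  rw [← hcard, mul_comm]
  exact Nat.mul_dvd_mul_right h1 _

/-- Divisibility by `r` of a number `N` with `N |Sp_{d-k}|` dividing `|Sp_d|`. -/
theorem lt_of_dvd_mul [Fintype F] {d k N : ℕ} (hk : k ≤ d) {r : ℕ} [Fact r.Prime]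
    (hrF : (r : F) ≠ 0) (h1 : N * Nat.card (Matrix.symplecticGroup (Fin (d - k)) F) ∣
      Nat.card (Matrix.symplecticGroup (Fin d) F)) (h : r ∣ N) :
    (2 * d) % cc (Fintype.card F) r < 2 * k := by
  by_contra hcon
  push Not at hcon
  have hr := (Fact.out : r.Prime)
  have hc0 := cc_pos (orderOf_pos (coprime_card (F := F) hrF))
  have hq := Fintype.card_pos (α := F)
  have hprod : ∀ n, Nat.card (Matrix.symplecticGroup (Fin n) F) =
      Fintype.card F ^ (n ^ 2) * ∏ j ∈ Finset.range n, (Fintype.card F ^ (2 * (j + 1)) - 1) :=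
    fun n => Cfsg.Agent.S0245.result (F := F) rfl n
  rw [hprod, hprod, ← Finset.prod_range_mul_prod_Ico _ (Nat.sub_le d k)] at h1
  set P := ∏ j ∈ Finset.range (d - k), (Fintype.card F ^ (2 * (j + 1)) - 1) with hP
  have hP0 : 0 < P := by
    apply Finset.prod_pos
    intro j _
    have := Nat.one_lt_pow (show 2 * (j + 1) ≠ 0 by omega) (Fintype.one_lt_card (α := F))
    omega
  have h2 : r ∣ Fintype.card F ^ (d ^ 2) *
      ∏ j ∈ Finset.Ico (d - k) d, (Fintype.card F ^ (2 * (j + 1)) - 1) := by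
    refine (Dvd.dvd.mul_right h (Fintype.card F ^ ((d - k) ^ 2))).trans ?_
    apply Nat.dvd_of_mul_dvd_mul_left hP0
    convert h1 using 1 <;> ring
  rcases hr.dvd_mul.1 h2 with h3 | h3
  · exact absurd (hr.dvd_of_dvd_pow h3)
      ((Nat.Prime.coprime_iff_not_dvd hr).1 (coprime_card (F := F) hrF))
  · obtain ⟨j, hj, hjr⟩ := (Prime.dvd_finsetProd_iff hr.prime _).1 h3
    rw [Finset.mem_Ico] at hj
    rw [dvd_pow_sub_one_iff Fintype.card_pos, ← cc_dvd_iff] at hjr
    obtain ⟨t, ht⟩ := hjr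
    set c := cc (Fintype.card F) r with hc
    have h4 := Nat.div_add_mod (2 * d) c
    have h5 : t ≤ 2 * d / c := by
      rw [Nat.le_div_iff_mul_le hc0, mul_comm]
      omega
    have h6 : c * t ≤ c * (2 * d / c) := Nat.mul_le_mul_left _ h5
    omega

/-- If `r` divides the number of non-degenerate subspaces of dimension `m = 2k` then
`m > 2d mod c`. -/
theorem lt_of_dvd_card [Fintype F] {d k : ℕ} (hk : k ≤ d) {r : ℕ} [Fact r.Prime]
    (hrF : (r : F) ≠ 0) (h : r ∣ Nat.card {W : Submodule F (Fin d ⊕ Fin d → F) //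
      finrank F W = 2 * k ∧ Nd (sympBilin d F) W}) :
    (2 * d) % cc (Fintype.card F) r < 2 * k :=
  lt_of_dvd_mul hk hrF (card_nd_dvd hk) h

end Cfsg.Agent.H952.NdSub
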