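import Cfsg.Agent.H516.TwoFrame
import Cfsg.Agent.QTUnique.JTwo
import Cfsg.Agent.KFacts.J3
import Cfsg.Agent.KFacts.J3Sheet
import Cfsg.Agent.Schreier.ExtraCent
import Cfsg.Agent.S1620

/-!
# S4094, S3842: `J₂` and `J₃` at the prime 2 (helper952)

`C(z) = 2^{1+4}:A₅`; a Sylow 2-subgroup `T` of `C(z)` fixes exactly one of the five classes `{v i, z v i}`, `Z(T) = ⟨z⟩`
and `⟨z, v i⟩` is the subgroup of the elements `x` of `T` with `x² = 1`, `[x, T] ≤ ⟨z⟩`.
-/

set_option autoImplicit false

namespace Cfsg.Agent.H952.TwoJanko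

open Subgroup Cfsg Cfsg.Agent.J2Type.Model Cfsg.Agent.J2Type.SPFacts Cfsg.Agent.J2Type.CStruct
open Cfsg.Agent.J3Type.OneClass Cfsg.Agent.H516.Two Cfsg.Agent.QTUnique

/-- an even permutation with two fixed letters -/
theorem sig_aux : ∀ (σ : Equiv.Perm (Fin 5)) (i j : Fin 5), Equiv.Perm.sign σ = 1 → σ i = i → σ j = j → i ≠ j →
    σ ^ 3 = 1 := by
  decide +kernel

theorem two_elt {H : Type*} [Group H] {σ : H} (h3 : σ ^ 3 = 1) {k : ℕ} (hk : σ ^ 2 ^ k = 1) : σ = 1 := by
  have h1 := orderOf_dvd_of_pow_eq_one h3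
  have h2 := orderOf_dvd_of_pow_eq_one hk
  have h4 : Nat.Coprime 3 (2 ^ k) := Nat.Coprime.pow_right k (by norm_num)
  have h5 := Nat.Coprime.eq_one_of_dvd (Nat.Coprime.coprime_dvd_left h1 h4) h2
  exact orderOf_eq_one_iff.1 h5

variable {K : Type*} [Group K] {z : K} {Q : Subgroup (centralizer ({z} : Set K))}
  {v : Fin 5 → centralizer ({z} : Set K)} {ρ : centralizer ({z} : Set K) →* SP}

theorem mem_c {c : K} : c ∈ centralizer ({z} : Set K) ↔ c * z = z * c := mem_centralizer_singleton_iff

/-- the fixed letter of a Sylow 2-subgroup of `C(z)` -/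
theorem exists_letter [Finite K] {P : Sylow 2 K} (hPC : (P : Subgroup K) ≤ centralizer ({z} : Set K)) :
    ∃ i : Fin 5, ∀ c : centralizer ({z} : Set K), (c : K) ∈ P → (ρ c).σ i = i := by
  have h2 : Fact (Nat.Prime 2) := ⟨Nat.prime_two⟩
  let f : (P : Subgroup K) →* Equiv.Perm (Fin 5) := (Cfsg.Agent.KFacts.QMinus.permHom ρ).comp (Subgroup.inclusion hPC)
  let _ : MulAction (P : Subgroup K) (Fin 5) := MulAction.compHom (Fin 5) f
  obtain ⟨i, hi⟩ := P.isPGroup'.nonempty_fixed_point_of_prime_not_dvd_card (Fin 5)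
    (by rw [Nat.card_eq_fintype_card, Fintype.card_fin]; norm_num)
  refine ⟨i, fun c hc => ?_⟩
  exact hi ⟨c, hc⟩

/-- `Q` lies in the Sylow 2-subgroups of `C(z)` -/
theorem Q_le [Finite K] (M : IsModel Q (zc z) v ρ) {P : Sylow 2 K}
    (hPC : (P : Subgroup K) ≤ centralizer ({z} : Set K)) {q : centralizer ({z} : Set K)} (hq : q ∈ Q) : (q : K) ∈ P := by
  have hn := normal_Q M
  refine Cfsg.Agent.Schreier.ExtraCent.normal_le_sylow (centralizer ({z} : Set K))
    (Q.map (centralizer ({z} : Set K)).subtype) (map_subtype_le _) ?_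
    ((Cfsg.Agent.KFacts.J2.Facts.isPGroup_Q M).map _) P hPC ⟨q, hq, rfl⟩
  rintro c hc _ ⟨x, hx, rfl⟩
  exact ⟨⟨c, hc⟩ * x * (⟨c, hc⟩)⁻¹, hn.conj_mem x hx _, rfl⟩

/-- the Sylow 2-subgroups fix only one letter -/
theorem letter_unique [Finite K] (M : IsModel Q (zc z) v ρ) {P : Sylow 2 K}
    (hPC : (P : Subgroup K) ≤ centralizer ({z} : Set K)) {i j : Fin 5}
    (hi : ∀ c : centralizer ({z} : Set K), (c : K) ∈ P → (ρ c).σ i = i)
    (hj : ∀ c : centralizer ({z} : Set K), (c : K) ∈ P → (ρ c).σ j = j) : i = j := by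
  have h2 : Fact (Nat.Prime 2) := ⟨Nat.prime_two⟩
  by_contra hij
  have hPQ : ∀ c : centralizer ({z} : Set K), (c : K) ∈ P → c ∈ Q := by
    intro c hc
    rw [M.mem_Q]
    have h3 := sig_aux (ρ c).σ i j ((M.range (ρ c)).1 ⟨c, rfl⟩).1 (hi c hc) (hj c hc) hij
    obtain ⟨k, hk⟩ := P.isPGroup' ⟨c, hc⟩
    have hk0 : (c : K) ^ 2 ^ k = 1 := congrArg (fun y : (P : Subgroup K) => (y : K)) hk
    have hk' : c ^ 2 ^ k = 1 := Subtype.ext hk0
    have h4 : (Cfsg.Agent.KFacts.QMinus.permHom ρ c) ^ 2 ^ k = 1 := by rw [← map_pow, hk', map_one]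
    exact two_elt (σ := Cfsg.Agent.KFacts.QMinus.permHom ρ c) h3 h4
  have h3 : (P : Subgroup K) ≤ Q.map (centralizer ({z} : Set K)).subtype := by
    intro c hc
    exact ⟨⟨c, hPC hc⟩, hPQ ⟨c, hPC hc⟩ hc, rfl⟩
  have h4 : (P : Subgroup K) = Q.map (centralizer ({z} : Set K)).subtype := by
    apply le_antisymm h3
    rintro _ ⟨q, hq, rfl⟩
    exact Q_le M hPC hq
  have h5 : ¬ 2 ∣ (P : Subgroup K).index := P.not_dvd_index
  have h6 : (P : Subgroup K).relIndex (centralizer ({z} : Set K)) ∣ (P : Subgroup K).index := relIndex_dvd_index_of_le hPC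
  have h7 : (P : Subgroup K).relIndex (centralizer ({z} : Set K)) = 60 := by
    rw [h4]
    have h8 : (Q.map (centralizer ({z} : Set K)).subtype).relIndex (centralizer ({z} : Set K)) = Q.index := by
      rw [relIndex, subgroupOf, comap_map_eq_self_of_injective (subtype_injective _)]
    rw [h8]
    have h9 := Cfsg.Agent.KFacts.QMinus.card_mul M
    have h10 := Q.card_mul_index
    have h11 : 0 < Nat.card Q := Nat.card_pos
    exact Nat.eq_of_mul_eq_mul_left h11 (h10.trans h9.symm)
  apply h5
  refine dvd_trans ?_ h6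
  rw [h7]; norm_num

/-- **The common core.** -/
theorem nxc_core [Finite K] [IsSimpleGroup K] (hna : ¬ IsMulCommutative K) (M : IsModel Q (zc z) v ρ)
    (hodd : Odd (centralizer ({z} : Set K)).index) {n : K} (nz : n * z * n⁻¹ = v 0)
    (nv : n * v 0 * n⁻¹ = z * v 0) (hgen : closure ({c : K | c * z = z * c} ∪ {n}) = ⊤) : NXC K := by
  have h2 : Fact (Nat.Prime 2) := ⟨Nat.prime_two⟩
  obtain ⟨P, hPC⟩ := Cfsg.Agent.KFacts.AutLarge.exists_sylow hodd
  obtain ⟨i, hi⟩ := exists_letter (ρ := ρ) hPC
  have zz : z * z = 1 := congrArg Subtype.val M.z_sq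
  have hz1 : z ≠ 1 := fun h => M.z_ne (Subtype.ext h)
  have hv1 : (v i : K) * v i = 1 := congrArg Subtype.val (M.v_sq i)
  have hzv : z * (v i : K) = v i * z := (mem_c.1 (v i).2).symm
  have hvP : ∀ j, (v j : K) ∈ P := fun j => Q_le M hPC (M.v_mem j)
  have hzP : z ∈ P := Q_le M hPC M.z_mem
  -- the action on `v j`
  have hact : ∀ (c : centralizer ({z} : Set K)) (j : Fin 5), (ρ c).σ j = j →
      (c : K) * v j = v j * c ∨ (c : K) * v j = z * (v j * c) := by
    intro c j hj
    have h3 := M.conj c j
    rw [hj] at h3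
    have h4 : c * v j = zp (zc z) ((ρ c).s j) * v j * c := by rw [← h3]; group
    rcases zmod2_cases ((ρ c).s j) with h | h
    · left
      rw [h, zp_zero, one_mul] at h4
      exact congrArg Subtype.val h4
    · right
      rw [h, zp_one] at h4
      have h5 : (c : K) * v j = z * v j * c := congrArg Subtype.val h4
      rw [h5, mul_assoc]
  -- the letters are fixed modulo `z` by the elements commuting modulo `z`
  have hfix : ∀ (c : centralizer ({z} : Set K)) (j : Fin 5),
      ((c : K) * v j = v j * c ∨ (c : K) * v j = z * (v j * c)) → (ρ c).σ j = j := by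
    intro c j h
    have h3 := M.conj c j
    rcases h with h | h
    · have h4 : c * v j * c⁻¹ = zp (zc z) 0 * v j := by
        rw [zp_zero, one_mul]
        apply Subtype.ext
        show (c : K) * v j * (c : K)⁻¹ = v j
        rw [h]; group
      exact (M.v_inj _ _ _ _ (h3.symm.trans h4)).2
    · have h4 : c * v j * c⁻¹ = zp (zc z) 1 * v j := by
        rw [zp_one]
        apply Subtype.ext
        show (c : K) * v j * (c : K)⁻¹ = z * v j
        rw [h]; group
      exact (M.v_inj _ _ _ _ (h3.symm.trans h4)).2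
  obtain ⟨c, hc⟩ := trans_v M 0 0 0 i
  rw [zp_zero, one_mul, one_mul] at hc
  have hc1 : (c : K) * v 0 * (c : K)⁻¹ = v i := congrArg Subtype.val hc
  have hcz : (c : K) * z = z * c := mem_c.1 c.2
  have hcz' : (c : K)⁻¹ * z * c = z := by rw [mul_assoc, ← hcz]; group
  refine nxc_of_second hna P hz1 hzP (fun t ht => mem_c.1 (hPC ht)) ?_ (U := four z (v i) zz hv1 hzv) ?_
    (y := (c : K) * n * (c : K)⁻¹) (n := n) (c := c) ?_ hcz ?_ hgen
  · -- the centre
    intro y hy hyc
    have h3 : (⟨y, hPC hy⟩ : centralizer ({z} : Set K)) = 1 ∨ (⟨y, hPC hy⟩ : centralizer ({z} : Set K)) = zc z := by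
      apply Cfsg.Agent.KFacts.QMinus.cent_Q M
      intro j
      exact Subtype.ext (hyc _ (hvP j)).symm
    rcases h3 with h | h
    · exact Or.inl (congrArg Subtype.val h)
    · exact Or.inr (congrArg Subtype.val h)
  · -- the second centre
    intro x
    constructor
    · intro hx
      refine ⟨?_, ?_, ?_⟩
      · rcases hx with rfl | rfl | rfl | rfl
        · exact one_mem _
        · exact hzP
        · exact hvP i
        · exact mul_mem hzP (hvP i)
      · rcases hx with rfl | rfl | rfl | rfl
        · exact one_mul 1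
        · exact zz
        · exact hv1
        · calc z * (v i : K) * (z * v i) = z * ((v i : K) * z) * v i := by group
            _ = z * (z * v i) * v i := by rw [hzv]
            _ = (z * z) * (v i * v i) := by group
            _ = 1 := by rw [zz, hv1, one_mul]
      · intro t ht
        have htz : t * z = z * t := mem_c.1 (hPC ht)
        have h3 : (v i : K) * t = t * v i ∨ (v i : K) * t = z * (t * v i) := by
          rcases hact ⟨t, hPC ht⟩ i (hi ⟨t, hPC ht⟩ ht) with h | h
          · exact Or.inl h.symm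
          · right
            have h' : t * (v i : K) = z * (v i * t) := h
            rw [h', ← mul_assoc, zz, one_mul]
        rcases hx with rfl | rfl | rfl | rfl
        · left; rw [one_mul, mul_one]
        · left; exact htz.symm
        · exact h3
        · rcases h3 with h | h
          · left; rw [mul_assoc, h, ← mul_assoc, ← htz, mul_assoc]
          · right
            calc z * (v i : K) * t = z * ((v i : K) * t) := by group
              _ = z * (z * t * v i) := by rw [h]; group
              _ = z * (t * z * v i) := by rw [htz]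
              _ = z * (t * (z * v i)) := by group
    · rintro ⟨hx, hxx, hxt⟩
      set x' : centralizer ({z} : Set K) := ⟨x, hPC hx⟩ with hx'
      have hxQ : x' ∈ Q := by
        rw [M.mem_Q]
        ext j
        rw [Equiv.Perm.one_apply]
        exact congrArg Fin.val (hfix x' j (hxt _ (hvP j)))
      by_cases hx1 : x = 1
      · left; exact hx1
      · rcases invol_Q M hxQ (Subtype.ext hxx) (fun h => hx1 (congrArg Subtype.val h)) with h | ⟨a, j, h⟩
        · right; left; exact congrArg Subtype.val h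
        · have hj : i = j := by
            refine letter_unique M hPC hi ?_
            intro t ht
            apply hfix
            have h3 := hxt t ht
            rcases zmod2_cases a with ha | ha
            · rw [ha, zp_zero, one_mul] at h
              have h4 : x = v j := congrArg Subtype.val h
              rw [h4] at h3
              rcases h3 with h3 | h3
              · exact Or.inl h3.symm
              · right
                rw [h3, ← mul_assoc, zz, one_mul]
            · rw [ha, zp_one] at h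
              have h4 : x = z * v j := congrArg Subtype.val h
              have htz : (t : K) * z = z * t := mem_c.1 t.2
              rw [h4] at h3
              have h5 : (t : K) * (z * v j) = z * (t * v j) := by rw [← mul_assoc, htz, mul_assoc]
              rw [h5, mul_assoc] at h3
              rcases h3 with h3 | h3
              · exact Or.inl (mul_left_cancel h3).symm
              · right
                have h6 := mul_left_cancel h3
                rw [h6, ← mul_assoc, ← mul_assoc, zz, one_mul]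
          subst hj
          right; right
          rcases zmod2_cases a with ha | ha
          · left
            rw [ha, zp_zero, one_mul] at h
            exact congrArg Subtype.val h
          · right
            rw [ha, zp_one] at h
            exact congrArg Subtype.val h
  · -- `c n c⁻¹` normalizes `U`
    intro u hu
    have e1 : (c : K) * n * (c : K)⁻¹ * z * ((c : K) * n * (c : K)⁻¹)⁻¹ = v i := by
      calc (c : K) * n * (c : K)⁻¹ * z * ((c : K) * n * (c : K)⁻¹)⁻¹
          = c * (n * ((c : K)⁻¹ * z * c) * n⁻¹) * (c : K)⁻¹ := by group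
        _ = v i := by rw [hcz', nz, hc1]
    have e2 : (c : K) * n * (c : K)⁻¹ * v i * ((c : K) * n * (c : K)⁻¹)⁻¹ = z * v i := by
      calc (c : K) * n * (c : K)⁻¹ * v i * ((c : K) * n * (c : K)⁻¹)⁻¹
          = (c : K) * n * (c : K)⁻¹ * (c * v 0 * (c : K)⁻¹) * ((c : K) * n * (c : K)⁻¹)⁻¹ := by rw [hc1]
        _ = c * (n * v 0 * n⁻¹) * (c : K)⁻¹ := by group
        _ = c * z * v 0 * (c : K)⁻¹ := by rw [nv]; group
        _ = z * (c * v 0 * (c : K)⁻¹) := by rw [hcz]; group
        _ = z * v i := by rw [hc1]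
    have hn : (c : K) * n * (c : K)⁻¹ ∈ normalizer ((four z (v i : K) zz hv1 hzv : Subgroup K) : Set K) :=
      mem_normalizer_four (by rw [e1]; exact Or.inr (Or.inr (Or.inl rfl)))
        (by rw [e2]; exact Or.inr (Or.inr (Or.inr rfl)))
    exact (mem_normalizer_iff.1 hn u).1 hu
  · calc (c : K) * n * (c : K)⁻¹ * z * ((c : K) * n * (c : K)⁻¹)⁻¹
          = c * (n * ((c : K)⁻¹ * z * c) * n⁻¹) * (c : K)⁻¹ := by group
      _ = c * (n * z * n⁻¹) * (c : K)⁻¹ := by rw [hcz']

/-- **`J₂`.** -/
theorem nxc_j2 {S : Type*} [Group S] [Finite S] (h : Spor.IsoJ2 S) : NXC S := by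
  obtain ⟨e⟩ := id h
  have hs : IsSimpleGroup S := by
    have := Cfsg.Agent.S1620.result.1
    exact e.isSimpleGroup
  have hna : ¬ IsMulCommutative S := by
    intro hc
    obtain ⟨a, b, hab⟩ := Cfsg.Agent.S1620.result.2
    apply hab
    apply e.symm.injective
    rw [map_mul, map_mul]
    exact hc.is_comm.comm _ _
  obtain ⟨t, u, Q, v, ρ, D⟩ := Cfsg.Agent.KFacts.J2.Facts.exists_dat_of h
  obtain ⟨n, hn1, hn2⟩ := D.exists_n
  refine nxc_core hna D.M (Cfsg.Agent.KFacts.J2.SheetX.odd_index D) hn1 hn2 ?_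
  exact D.gen (N := closure _) (fun c hc => subset_closure (Or.inl (mem_c.1 hc))) (n := n)
    (subset_closure (Or.inr rfl)) (v 0) (D.M.v_mem 0) hn1 (by rw [hn1]; exact D.v_ne_t 0)

/-- **`J₃`.** -/
theorem nxc_j3 {S : Type*} [Group S] [Finite S] (h : Spor.IsoJ3 S) : NXC S := by
  obtain ⟨hs, z, Q, v, ρ, n, u, F⟩ := Cfsg.Agent.KFacts.J3.exists_facts h
  have hidx := (centralizer ({z} : Set S)).card_mul_index
  rw [F.card_C, F.card_K] at hidx
  have hna : ¬ IsMulCommutative S := by
    intro hc
    have h1 : centralizer ({z} : Set S) = ⊤ := by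
      rw [eq_top_iff]
      intro x _
      exact mem_c.2 (hc.is_comm.comm _ _)
    rw [h1, index_top] at hidx
    omega
  exact nxc_core hna F.model (by
    have h1 : (centralizer ({z} : Set S)).index = 26163 := by omega
    rw [h1]; decide) F.nz F.nv F.gen

end Cfsg.Agent.H952.TwoJanko
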