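import Mathlib
import Cfsg.Agent.H952.S7.B6
import Cfsg.Agent.H16.S7.Lift
import Cfsg.Agent.H251.S7Num

/-!
# S5927, S5928: the threefold cover of `A₇` in characteristic 2 (helper952)

with helper16 (lifts and cocycle), helper251 (dimensions), helper401 (Hecke operator), helper288 (Gram matrices),
helper911 (the case of two independent families).
-/

set_option autoImplicit false

namespace Cfsg.Agent.H163.E6

open Cfsg Cfsg.Lie Module
open Cfsg.Agent.ChevalleyStructure.E6Min.Tables Cfsg.Agent.ChevalleyStructure.E6Min.Basic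
  Cfsg.Agent.ChevalleyStructure.E6Min.Adjoint
open Cfsg.Agent.H952.F4 (ev es matRep sh cr tf MaxAlt tr1)

universe u

namespace Cases

variable {F : Type u} [Field F] [Finite F] {H : Subgroup ↥(chevE6.group F)}

/-- cube roots of unity in characteristic 2 -/
theorem sevenc_root {ω : F} (h2 : (2 : F) = 0) (h1 : ω ≠ 1) (h3 : ω ^ 3 = 1) : ω * ω = ω + 1 := by
  have h4 : (ω - 1) * (ω * ω + ω + 1) = 0 := by linear_combination h3
  have h5 := (mul_eq_zero.1 h4).resolve_left (sub_ne_zero.2 h1)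
  linear_combination h5 - (ω + 1) * h2

theorem sevenc_two [CharP F 2] {φ : ↥(alternatingGroup (Fin 7)) →* ↥(chevE6.group F)} (hS : Sit H 7 φ)
    {ω : Fˣ} (hω : Cover φ ω) : False := by
  have h2 : (2 : F) = 0 := CharP.cast_eq_zero F 2
  obtain ⟨S, T, a, h⟩ := H16.S7.exists_lifts hS.inj hω
  obtain ⟨dX, dD, dD', f5, f5', ns, ns'⟩ := H251.S7.numerics hS hω (s := H16.S7.s7) (t := H16.S7.t7)
    (by decide +kernel) (by decide +kernel) h.adS h.adT h.S5 h.ST7 h.a2 h.b4 h.y3 h.yz
  have hX : H952.S7.X (V F) S a ≠ ⊥ ∨ H952.S7.X (V' F) S a ≠ ⊥ := by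
    by_contra hne
    push Not at hne
    rw [hne.1, hne.2, finrank_bot] at dX
    omega
  obtain ⟨w, hw, ha, ha', fam, fam'⟩ := H16.S7.exists_fam hS.inj hω h hX
  obtain ⟨h1, h3, -⟩ := hω
  have hω1 : (ω : F) ≠ 1 := fun h0 => h1 (Units.ext h0)
  have hω3 : (ω : F) ^ 3 = 1 := by rw [← Units.val_pow_eq_pow_val, h3, Units.val_one]
  have hww : w * w = w + 1 := by
    rcases hw with rfl | rfl
    · exact sevenc_root h2 hω1 hω3
    · exact sevenc_root h2 (fun h0 => hω1 (inv_eq_one.1 h0)) (by rw [inv_pow, hω3, inv_one])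
  have hD : H952.S7.Dat w (V F) (V' F) S T a := {
    h2 := h2
    hω := hww
    pd := H251.S7.pd
    S5 := h.S5
    T3 := h.T3
    ST7 := h.ST7
    a2 := h.a2
    b4 := h.b4
    y3 := h.y3
    yz := h.yz
    half := ⟨ha, fam, dD, f5, ns⟩
    half' := ⟨ha', fam', dD', f5', ns'⟩
    dimX := dX }
  refine hD.false fun c => ?_
  obtain ⟨d, hd⟩ := (bijective_frobenius F 2).2 c
  exact ⟨d, by rw [← hd, frobenius_def]⟩

end Cases

end Cfsg.Agent.H163.E6
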