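import Mathlib
import Cfsg.Agent.H952.SympTrans

/-!
An explicit isometry of a symplectic space of dimension divisible by 4.
-/

set_option autoImplicit false

namespace Cfsg.Agent.H952.NdSub

open Module Submodule Cfsg
open Cfsg.Agent.ClassicalGeometry.SympBasic

variable {F : Type*} [Field F]

theorem exists_fpf (d : ℕ) (hd : Even d) : ∃ (π : Fin d → Fin d) (P : Fin d → Prop),
    (∀ i, π (π i) = i) ∧ ∀ i, (P i ∧ ¬ P (π i)) ∨ (¬ P i ∧ P (π i)) := by
  obtain ⟨k, hk⟩ := hd
  have e : Fin d ≃ Fin k × Bool := Fintype.equivOfCardEq (by simp; omega)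
  refine ⟨fun i => e.symm ((e i).1, !(e i).2), fun i => (e i).2 = true, ?_, ?_⟩
  · intro i
    simp
  · intro i
    simp only [Equiv.apply_symm_apply]
    cases (e i).2 <;> simp

/-- The permutation of coordinates. -/
def permEnd {d : ℕ} (π : Fin d → Fin d) (F : Type*) [Field F] :
    Module.End F (Fin d ⊕ Fin d → F) where
  toFun v := Sum.elim (fun i => v (Sum.inl (π i))) (fun i => v (Sum.inr (π i)))
  map_add' u v := by funext i; rcases i with i | i <;> rfl
  map_smul' c v := by funext i; rcases i with i | i <;> rfl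

theorem exists_swap_elem {d : ℕ} (hd : Even d) (hd0 : 0 < d) (h2 : (2 : F) = 0) :
    ∃ x : Module.End F (Fin d ⊕ Fin d → F),
      (∀ u v, sympForm d F (x u) (x v) = sympForm d F u v) ∧ (∀ v, x (x v) = v) ∧
      (∀ v, sympForm d F v (x v) = 0) ∧ LinearMap.ker (x - 1) = LinearMap.range (x - 1) ∧
      ∀ z : F, x ≠ z • 1 := by
  classical
  obtain ⟨π, P, hπ, hP⟩ := exists_fpf d hd
  have hinv : Function.Involutive π := hπ
  have hadd : ∀ a : F, a + a = 0 := fun a => by rw [← two_mul, h2, zero_mul]
  have hneg : ∀ a : F, -a = a := fun a => (eq_neg_of_add_eq_zero_left (hadd a)).symm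
  have hl : ∀ v i, permEnd π F v (Sum.inl i) = v (Sum.inl (π i)) := fun _ _ => rfl
  have hr : ∀ v i, permEnd π F v (Sum.inr i) = v (Sum.inr (π i)) := fun _ _ => rfl
  have hxx : ∀ v, permEnd π F (permEnd π F v) = v := by
    intro v
    funext i
    rcases i with i | i
    · rw [hl, hl, hπ]
    · rw [hr, hr, hπ]
  refine ⟨permEnd π F, ?_, hxx, ?_, ?_, ?_⟩
  · intro u v
    rw [sympForm_eq_sum, sympForm_eq_sum]
    exact Equiv.sum_comp hinv.toPerm
      (fun i => u (Sum.inr i) * v (Sum.inl i) - u (Sum.inl i) * v (Sum.inr i))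
  · intro v
    rw [sympForm_eq_sum, Finset.sum_sub_distrib, sub_eq_zero]
    rw [← Equiv.sum_comp hinv.toPerm]
    apply Finset.sum_congr rfl
    intro i _
    show _ * (permEnd π F v) _ = _ * _
    rw [hl, hr]
    simp only [Function.Involutive.coe_toPerm, hπ]
    ring
  · apply le_antisymm
    · intro v hv
      have hv' : permEnd π F v = v := by
        have : (permEnd π F - 1) v = 0 := hv
        rwa [LinearMap.sub_apply, Module.End.one_apply, sub_eq_zero] at this
      have hvl : ∀ i, v (Sum.inl (π i)) = v (Sum.inl i) := fun i => by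
        have := congrFun hv' (Sum.inl i)
        rwa [hl] at this
      have hvr : ∀ i, v (Sum.inr (π i)) = v (Sum.inr i) := fun i => by
        have := congrFun hv' (Sum.inr i)
        rwa [hr] at this
      refine ⟨Sum.elim (fun i => if P i then v (Sum.inl i) else 0)
        (fun i => if P i then v (Sum.inr i) else 0), ?_⟩
      rw [LinearMap.sub_apply, Module.End.one_apply]
      funext i
      rcases i with i | i
      · rw [Pi.sub_apply, hl, Sum.elim_inl, Sum.elim_inl]
        rcases hP i with h | h
        · rw [if_neg h.2, if_pos h.1, zero_sub, hneg]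
        · rw [if_pos h.2, if_neg h.1, sub_zero, hvl]
      · rw [Pi.sub_apply, hr, Sum.elim_inr, Sum.elim_inr]
        rcases hP i with h | h
        · rw [if_neg h.2, if_pos h.1, zero_sub, hneg]
        · rw [if_pos h.2, if_neg h.1, sub_zero, hvr]
    · rintro _ ⟨v, rfl⟩
      show (permEnd π F - 1) ((permEnd π F - 1) v) = 0
      rw [LinearMap.sub_apply, LinearMap.sub_apply, Module.End.one_apply, Module.End.one_apply,
        map_sub, hxx]
      funext i
      show (v i - permEnd π F v i) - (permEnd π F v i - v i) = 0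
      have := hadd (v i - permEnd π F v i)
      rw [← this]
      ring
  · intro z hz
    have i0 : Fin d := ⟨0, hd0⟩
    have h1 := congrFun (LinearMap.congr_fun hz (Pi.single (Sum.inl i0) 1)) (Sum.inl (π i0))
    have hne : π i0 ≠ i0 := by
      intro h
      have := hP i0
      rw [h] at this
      tauto
    rw [hl, hπ, Pi.single_eq_same, LinearMap.smul_apply, Pi.smul_apply, Module.End.one_apply,
      Pi.single_eq_of_ne (fun h => hne (Sum.inl_injective h)), smul_zero] at h1
    exact one_ne_zero h1

end Cfsg.Agent.H952.NdSub
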