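import Mathlib
import Cfsg.Agent.H952.SympTrans

/-!
From symplectic matrices whose `r`-th power is scalar to isometries.
-/

set_option autoImplicit false

namespace Cfsg.Agent.H952.Wrap

open Module Submodule Cfsg
open Cfsg.Agent.H952.Alt Cfsg.Agent.H952.Semi Cfsg.Agent.H952.SympSemi
open Cfsg.Agent.ClassicalGeometry.SympBasic

variable {F : Type*} [Field F] {d : ℕ}

theorem finrank_eq : finrank F (Fin d ⊕ Fin d → F) = 2 * d := by
  rw [Module.finrank_fintype_fun_eq_card, Fintype.card_sum, Fintype.card_fin]; omega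

theorem exists_pair (hd : 0 < d) : ∃ u v : Fin d ⊕ Fin d → F, sympBilin d F u v = 1 := by
  let i0 : Fin d := ⟨0, hd⟩
  refine ⟨Pi.single (Sum.inr i0) 1, Pi.single (Sum.inl i0) 1, ?_⟩
  rw [sympBilin_apply, sympForm_single_inr_left]
  simp

/-- The scalar of a scalar isometry. -/
theorem mul_self_of_scalar (hd : 0 < d) {x : Module.End F (Fin d ⊕ Fin d → F)}
    (hx : ∀ u v, sympBilin d F (x u) (x v) = sympBilin d F u v) {z : F}
    (hz : x = z • (1 : Module.End F (Fin d ⊕ Fin d → F))) : z * z = 1 := by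
  obtain ⟨u, v, huv⟩ := exists_pair (F := F) hd
  have h3 := hx u v
  rw [hz, LinearMap.smul_apply, LinearMap.smul_apply, Module.End.one_apply,
    Module.End.one_apply, map_smul, map_smul, LinearMap.smul_apply, smul_eq_mul,
    smul_eq_mul, huv, mul_one] at h3
  exact h3

theorem isom_pow {x : Module.End F (Fin d ⊕ Fin d → F)}
    (hx : ∀ u v, sympBilin d F (x u) (x v) = sympBilin d F u v) (n : ℕ) :
    ∀ u v, sympBilin d F ((x ^ n) u) ((x ^ n) v) = sympBilin d F u v := by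
  induction n with
  | zero => intro u v; rfl
  | succ n ih =>
    intro u v
    rw [pow_succ', Module.End.mul_apply, Module.End.mul_apply, hx, ih]

theorem wrap (P : Submodule F (Fin d ⊕ Fin d → F) → Prop) (r : ℕ) :
    (∀ x : ↥(Matrix.symplecticGroup (Fin d) F),
      (∃ z : F, ((x ^ r : ↥(Matrix.symplecticGroup (Fin d) F)) : Matrix (Fin d ⊕ Fin d) (Fin d ⊕ Fin d) F) = z • (1 : Matrix (Fin d ⊕ Fin d) (Fin d ⊕ Fin d) F)) →
      (∀ z : F, (x : Matrix (Fin d ⊕ Fin d) (Fin d ⊕ Fin d) F) ≠ z • (1 : Matrix (Fin d ⊕ Fin d) (Fin d ⊕ Fin d) F)) →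
      ∃ W : Submodule F (Fin d ⊕ Fin d → F), P W ∧
        W.map (Matrix.toLin' (x : Matrix (Fin d ⊕ Fin d) (Fin d ⊕ Fin d) F)) ≤ W) ↔
    (∀ x : Module.End F (Fin d ⊕ Fin d → F),
      (∀ u v, sympBilin d F (x u) (x v) = sympBilin d F u v) →
      (∃ z : F, x ^ r = z • (1 : Module.End F (Fin d ⊕ Fin d → F))) →
      (∀ z : F, x ≠ z • (1 : Module.End F (Fin d ⊕ Fin d → F))) → ∃ W, P W ∧ Inv x W) := by
  have hone : Matrix.toLin' (1 : Matrix (Fin d ⊕ Fin d) (Fin d ⊕ Fin d) F) =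
      (1 : Module.End F (Fin d ⊕ Fin d → F)) := Matrix.toLin'_one
  have hpow : ∀ x : ↥(Matrix.symplecticGroup (Fin d) F),
      Matrix.toLin' ((x ^ r : ↥(Matrix.symplecticGroup (Fin d) F)) :
        Matrix (Fin d ⊕ Fin d) (Fin d ⊕ Fin d) F) =
      (Matrix.toLin' (x : Matrix (Fin d ⊕ Fin d) (Fin d ⊕ Fin d) F)) ^ r := by
    intro x
    rw [← Matrix.toLin'_pow]
    rfl
  constructor
  · intro H x hx ⟨z, hz⟩ hns
    obtain ⟨y, rfl⟩ := exists_symplectic x hx
    obtain ⟨W, hW, hWy⟩ := H y ⟨z, by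
      apply Matrix.toLin'.injective
      rw [hpow, hz, map_smul, hone]⟩ (by
      intro z hz
      apply hns z
      rw [hz, map_smul, hone])
    exact ⟨W, hW, fun v hv => hWy ⟨v, hv, rfl⟩⟩
  · intro H x ⟨z, hz⟩ hns
    obtain ⟨W, hW, hWx⟩ := H _ (toLin_isometry x) ⟨z, by
      rw [← hpow, hz, map_smul, hone]⟩ (by
      intro z hz
      apply hns z
      apply Matrix.toLin'.injective
      rw [hz, map_smul, hone])
    refine ⟨W, hW, ?_⟩
    rintro _ ⟨v, hv, rfl⟩
    exact hWx v hv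

/-- For odd `r` we may assume that `x ^ r = 1`. -/
theorem odd_iff (P : Submodule F (Fin d ⊕ Fin d → F) → Prop) {r : ℕ} (hr : Odd r) (hd : 0 < d) :
    (∀ x : Module.End F (Fin d ⊕ Fin d → F),
      (∀ u v, sympBilin d F (x u) (x v) = sympBilin d F u v) →
      (∃ z : F, x ^ r = z • (1 : Module.End F (Fin d ⊕ Fin d → F))) →
      (∀ z : F, x ≠ z • (1 : Module.End F (Fin d ⊕ Fin d → F))) → ∃ W, P W ∧ Inv x W) ↔
    (∀ x : Module.End F (Fin d ⊕ Fin d → F),
      (∀ u v, sympBilin d F (x u) (x v) = sympBilin d F u v) →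
      x ^ r = 1 → x ≠ 1 → ∃ W, P W ∧ Inv x W) := by
  obtain ⟨e, he⟩ := hr
  constructor
  · intro H x hx hxr hx1
    refine H x hx ⟨1, by rw [hxr, one_smul]⟩ ?_
    intro z hz
    apply hx1
    have h2 := mul_self_of_scalar hd hx hz
    have h4 : x ^ r = z • (1 : Module.End F (Fin d ⊕ Fin d → F)) := by
      rw [hz, smul_pow, one_pow, he, pow_succ, pow_mul, sq, h2, one_pow, one_mul]
    rw [hxr] at h4
    rw [hz, ← h4]
  · intro H x hx ⟨z, hz⟩ hns
    have hzz := mul_self_of_scalar hd (isom_pow hx r) hz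
    have hz0 : z ≠ 0 := fun h => by rw [h, mul_zero] at hzz; exact zero_ne_one hzz
    obtain ⟨W, hW, hWx⟩ := H (z • x) (by
      intro u v
      rw [LinearMap.smul_apply, LinearMap.smul_apply, map_smul, map_smul,
        LinearMap.smul_apply, hx, smul_smul, hzz, one_smul]) (by
      rw [smul_pow, hz, smul_smul, he, ← pow_succ]
      have : z ^ (2 * e + 1 + 1) = 1 := by
        rw [show 2 * e + 1 + 1 = 2 * (e + 1) by ring, pow_mul, sq, hzz, one_pow]
      rw [this, one_smul]) (by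
      intro h
      apply hns z
      rw [← h, smul_smul, hzz, one_smul])
    refine ⟨W, hW, fun v hv => ?_⟩
    have h1 := W.smul_mem z (hWx v hv)
    rwa [LinearMap.smul_apply, smul_smul, hzz, one_smul] at h1

end Cfsg.Agent.H952.Wrap
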