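import Mathlib
import Cfsg.Agent.H952.SympBins
import Cfsg.Agent.H952.SympElem
import Cfsg.Agent.H952.Lagr
import Cfsg.Agent.H951.Sub
import Cfsg.Agent.H950.MaxTI

/-!
Existence of invariant totally isotropic subspaces for isometries of odd prime order of a
symplectic space.
-/

set_option autoImplicit false
set_option linter.unusedSectionVars false

namespace Cfsg.Agent.H952.TiSub

open Module Submodule
open Cfsg.Agent.H952.Alt Cfsg.Agent.H952.Semi Cfsg.Agent.H952.SympSemi

variable {F V : Type*} [Field F] [AddCommGroup V] [Module F V] [FiniteDimensional F V]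
  {B : LinearMap.BilinForm F V}

theorem frm (hA : B.IsAlt) : H951.Frm (RingHom.id F) (-1) (fun u v => B u v) where
  add_left u v w := by rw [map_add, LinearMap.add_apply]
  smul_left a u v := by rw [map_smul, LinearMap.smul_apply, smul_eq_mul]
  herm u v := by
    rw [RingHom.id_apply, neg_one_mul]
    exact swap hA v u
  sigma_sq a := rfl
  eps_ne := neg_ne_zero.2 one_ne_zero

theorem kind (hA : B.IsAlt) : H951.Kind (RingHom.id F) (-1) (fun u v : V => B u v) :=
  Or.inr ⟨rfl, rfl, fun v => hA v⟩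

variable [Fintype F] {r : ℕ} [Fact r.Prime] {x : Module.End F V}

/-- Totally isotropic invariant subspaces of `[V, x]`. -/
theorem exists_ti_comm (hA : B.IsAlt) (hr2 : r ≠ 2) (hrF : (r : F) ≠ 0) (hxr : x ^ r = 1)
    (hx : ∀ u v, B (x u) (x v) = B u v) (hV : Nd B ⊤) :
    ∃ (T : Submodule F V) (s1 : ℕ), T ≤ LinearMap.range (x - 1) ∧ Inv x T ∧ TI B T ∧
      finrank F (LinearMap.range (x - 1)) = 2 * finrank F T +
        orderOf ((Fintype.card F : ℕ) : ZMod r) * s1 ∧
      orderOf ((Fintype.card F : ℕ) : ZMod r) * s1 ≤ r - 1 ∧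
      (Odd (orderOf ((Fintype.card F : ℕ) : ZMod r)) → s1 = 0) := by
  have hr := (Fact.out : r.Prime)
  have hodd : Odd r := hr.eq_two_or_odd'.resolve_left hr2
  have hinj : Function.Injective x := SympSemi.injective_of_pow hr.pos hxr
  have hB := frm (F := F) hA
  have hcmi : H951.Inv x (H951.cm x) := H951.inv_cm
  have hmap : H951.cm x = (⊤ : Submodule F V).map (x - 1) := (Submodule.map_top _).symm
  have hcmn : H951.Nd (fun u v => B u v) (H951.cm x) := by
    rw [hmap]
    exact nd_comm hA hrF hxr hx hV (fun v _ => mem_top)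
  by_cases hi : Odd (orderOf ((Fintype.card F : ℕ) : ZMod r))
  · obtain ⟨T, hT, hTx, hTI, hTf⟩ := H950.exists_ti_half hrF hB hx hxr (by
      intro W' hW'x hW'n hW'c
      have h1 : cc (Fintype.card F) r ∣ finrank F W' := by
        apply cc_dvd_finrank hA hxr hW'n hW'x
        rw [eq_bot_iff, ← comm_inf_ker hrF hxr (⊤ : Submodule F V), ← hmap]
        exact inf_le_inf_right _ hW'c
      rwa [cc, if_neg (Nat.not_even_iff_odd.2 hi)] at h1) hcmi hcmn le_rfl
    exact ⟨T, 0, hT, hTx, hTI, by rw [mul_zero, add_zero]; exact hTf, by omega, fun _ => rfl⟩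
  · obtain ⟨T, W1, hT, hW1, hTx, hTI, hW1x, hW1n, hf, han⟩ := H950.exists_witt hB
      (fun W hW => by
        intro v hv w hw
        rw [← Inv.map_eq hinj (show Inv x W from hW)] at hw
        obtain ⟨w', hw', rfl⟩ := hw
        show B (x v) (x w') = 0
        rw [hx]
        exact hv w' hw') (H951.semisimple_of_pow hrF hxr) hcmi hcmn
    have h1 := H950.finrank_le_id hodd hB hx hxr hW1x hW1 han
    obtain ⟨s1, hs1⟩ : orderOf ((Fintype.card F : ℕ) : ZMod r) ∣ finrank F W1 := by
      apply orderOf_dvd_finrank hxr hW1x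
      rw [eq_bot_iff, ← comm_inf_ker hrF hxr (⊤ : Submodule F V), ← hmap]
      exact inf_le_inf_right _ hW1
    exact ⟨T, s1, hT, hTx, hTI, by rw [← hs1]; exact hf, by rw [← hs1]; exact h1,
      fun h => absurd h hi⟩

/-- Combination with fixed vectors. -/
theorem exists_ti_of (hA : B.IsAlt) (hrF : (r : F) ≠ 0) (hxr : x ^ r = 1)
    (hx : ∀ u v, B (x u) (x v) = B u v) (hV : Nd B ⊤) {T : Submodule F V}
    (hT : T ≤ LinearMap.range (x - 1)) (hTx : Inv x T) (hTI : TI B T) {b f : ℕ}
    (hb : orderOf ((Fintype.card F : ℕ) : ZMod r) * b ≤ finrank F T)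
    (hf : 2 * f + finrank F (LinearMap.range (x - 1)) ≤ finrank F V) :
    ∃ W : Submodule F V, TI B W ∧ Inv x W ∧
      finrank F W = orderOf ((Fintype.card F : ℕ) : ZMod r) * b + f := by
  obtain ⟨T1, hT1, hT1x, hT1f⟩ := H951.exists_inv_finrank hrF hxr hTx hT hb
  have hk := nd_fix (B := B) hrF hxr hx hV (fun v _ => mem_top)
  rw [top_inf_eq] at hk
  have hrk := LinearMap.finrank_range_add_finrank_ker (x - 1)
  obtain ⟨T0, hT0, hT0I, hT0f⟩ := H951.exists_ti_sub (frm hA) (kind hA)
    (U := LinearMap.ker (x - 1)) hk (k := f) (by omega)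
  have ho : ∀ u ∈ T1, ∀ v ∈ T0, B u v = 0 := by
    intro u hu v hv
    have h1 := orth_fix_comm (B := B) hx ⊤ ⊤ v ⟨mem_top, hT0 hv⟩ u (by
      rw [Submodule.map_top]; exact hT (hT1 hu))
    exact eq_zero_swap hA h1
  refine ⟨T1 ⊔ T0, TI.sup hA (fun u hu v hv => hTI u (hT1 hu) v (hT1 hv)) hT0I ho,
    Inv.sup hT1x ?_, ?_⟩
  · intro v hv
    rw [mem_ker_sub.1 (hT0 hv)]
    exact hv
  · have h1 : T1 ⊓ T0 = ⊥ := by
      rw [eq_bot_iff, ← comm_inf_ker hrF hxr (⊤ : Submodule F V), Submodule.map_top]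
      exact inf_le_inf (hT1.trans hT) hT0
    have h2 := Submodule.finrank_sup_add_finrank_inf_eq T1 T0
    rw [h1, finrank_bot, hT1f, hT0f] at h2
    omega

theorem exists_ti_inv (hA : B.IsAlt) (hr2 : r ≠ 2) (hrF : (r : F) ≠ 0) (hxr : x ^ r = 1)
    (hx : ∀ u v, B (x u) (x v) = B u v) (hV : Nd B ⊤) {m : ℕ} (hm : 2 * m ≤ finrank F V)
    (hl : 2 * (m % orderOf ((Fintype.card F : ℕ) : ZMod r)) ≤
      finrank F V % cc (Fintype.card F) r)
    (h : Odd (orderOf ((Fintype.card F : ℕ) : ZMod r)) ∨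
      (r - 1) / orderOf ((Fintype.card F : ℕ) : ZMod r) +
        2 * (m / orderOf ((Fintype.card F : ℕ) : ZMod r)) ≤
        finrank F V / orderOf ((Fintype.card F : ℕ) : ZMod r)) :
    ∃ W : Submodule F V, TI B W ∧ Inv x W ∧ finrank F W = m := by
  have hord := SympSemi.orderOf_pos (coprime_card (F := F) hrF)
  have hc0 := cc_pos hord
  obtain ⟨T, s1, hT, hTx, hTI, hf, hs1, hs1'⟩ := exists_ti_comm hA hr2 hrF hxr hx hV
  have hdc := cc_dvd_comm hA hrF hxr hx hV (fun v _ => mem_top)
  rw [Submodule.map_top] at hdc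
  obtain ⟨b1, hb1⟩ : orderOf ((Fintype.card F : ℕ) : ZMod r) ∣ finrank F T := by
    apply orderOf_dvd_finrank hxr hTx
    rw [eq_bot_iff, ← comm_inf_ker hrF hxr (⊤ : Submodule F V), Submodule.map_top]
    exact inf_le_inf_right _ hT
  have hle : finrank F (LinearMap.range (x - 1)) ≤ finrank F V := Submodule.finrank_le _
  have hccdef : cc (Fintype.card F) r = if Even (orderOf ((Fintype.card F : ℕ) : ZMod r)) then
      orderOf ((Fintype.card F : ℕ) : ZMod r) else
      2 * orderOf ((Fintype.card F : ℕ) : ZMod r) := rfl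
  have key : ∀ b, b ≤ b1 → orderOf ((Fintype.card F : ℕ) : ZMod r) * b ≤ m →
      2 * (m - orderOf ((Fintype.card F : ℕ) : ZMod r) * b) +
        finrank F (LinearMap.range (x - 1)) ≤ finrank F V →
      ∃ W : Submodule F V, TI B W ∧ Inv x W ∧ finrank F W = m := by
    intro b hb hbm h2
    obtain ⟨W, h3, h4, h5⟩ := exists_ti_of hA hrF hxr hx hV hT hTx hTI (b := b)
      (by rw [hb1]; exact Nat.mul_le_mul_left _ hb) h2
    exact ⟨W, h3, h4, by omega⟩
  set i := orderOf ((Fintype.card F : ℕ) : ZMod r) with hi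
  set c := cc (Fintype.card F) r with hc
  set n := finrank F V with hn
  have hmi := Nat.div_add_mod m i
  have hnc := Nat.div_add_mod n c
  have hni := Nat.div_add_mod n i
  obtain ⟨s, hs⟩ := hdc
  -- `dim [V, x] ≤ n - n % c`
  have hsn : c * s ≤ c * (n / c) := by
    apply Nat.mul_le_mul_left
    rw [Nat.le_div_iff_mul_le hc0, mul_comm, ← hs]
    exact hle
  rcases le_total b1 (m / i) with hb | hb
  · refine key b1 le_rfl ?_ ?_
    · have := Nat.mul_le_mul_left i hb
      omega
    · have h1 := Nat.mul_le_mul_left i hb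
      by_cases hio : Odd i
      · have := hs1' hio
        rw [this, mul_zero, add_zero, hb1] at hf
        omega
      · have h2 := h.resolve_left hio
        have hce : c = i := by rw [hccdef, if_pos (Nat.not_odd_iff_even.1 hio)]
        have h3 : i * ((r - 1) / i + 2 * (m / i)) ≤ i * (n / i) := Nat.mul_le_mul_left _ h2
        have h4 : s1 ≤ (r - 1) / i := by
          rw [Nat.le_div_iff_mul_le hord, mul_comm]
          exact hs1
        have h5 : i * s1 ≤ i * ((r - 1) / i) := Nat.mul_le_mul_left _ h4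
        rw [mul_add] at h3
        rw [hce] at hl
        have h6 : i * (2 * (m / i)) = 2 * (i * (m / i)) := by ring
        rw [hb1] at hf
        omega
  · refine key (m / i) hb (by omega) ?_
    omega

end Cfsg.Agent.H952.TiSub
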